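import Mathlib
import Cfsg.Agent.H730.OZ.Asm
import Cfsg.Prelude.Def_Classification2
import Cfsg.Prelude.Def_LieTypeChar
import Cfsg.Agent.H849.OZ.Bad_m3
import Cfsg.Agent.H340.ExcEmb
import Cfsg.Agent.H834.AGrp
import Cfsg.Agent.H134.Sq.Base_m3
import Cfsg.Agent.H834.Main5475
import Cfsg.Agent.H614.Height
import Mathlib.LinearAlgebra.Matrix.ProjectiveSpecialLinearGroup
import Mathlib.LinearAlgebra.Matrix.SpecialLinearGroup
import Mathlib.FieldTheory.Finite.Basic
import Cfsg.Agent.Characters.Linear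
import Cfsg.Agent.S2300
import Cfsg.Agent.S2309
import Cfsg.Agent.S0252
import Cfsg.Agent.S0253
import Cfsg.Agent.S2299
import Cfsg.Agent.S2301
import Cfsg.Agent.S2321
import Cfsg.Agent.S2322
import Cfsg.Agent.S2434
import Cfsg.Agent.H121.OZ.JTwoCls_m3
import Cfsg.Agent.SporadicA.PermTab
import Cfsg.Agent.LieClassical.FieldTransfer
import Cfsg.Agent.S0245
import Cfsg.Agent.S0246
import Cfsg.Agent.S1059
import Cfsg.Agent.S1062
import Cfsg.Agent.S1065
import Cfsg.Agent.S1067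
import Cfsg.Agent.H129.WData
import Cfsg.Agent.H129.RootFast
import Cfsg.Agent.H530.OZ.RowF_m3
import Cfsg.Agent.S0959
import Cfsg.Agent.S0924
import Cfsg.Agent.S0929
import Cfsg.Agent.S0931
import Cfsg.Agent.Blocks.ExistsModular
import Cfsg.Agent.Blocks.SecondMain
import Cfsg.Agent.H530.OZ.Geo
import Cfsg.Agent.S0293
import Cfsg.Agent.H238.ExcCore
import Cfsg.Agent.H356.OrthTorus
import Cfsg.Agent.H285.Ccp.HNThree_m3
import Cfsg.Agent.H101.RealOdd
import Cfsg.Agent.KFacts.HN.Classes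
import Cfsg.Agent.KFacts.HN.Sheet
import Cfsg.Agent.HN.A12Group
import Cfsg.Agent.FastGrp
import Cfsg.Agent.Prune
set_option linter.all false

section
prune_inst 0x7f00000000000000000000000000000000000000000000000000000000000000000000000000000000000000000000000000000000000000000000000000000000000000000000000000000000000000003fffffffffffffffffffffffffffbeffbdfbfeffff

-- part: H733/OZ/Six
section
prune_inst 0x4010000
set_option linter.all false
open scoped Cfsg.Agent.FastGrp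

/-!
# Centralizers `R × S₃` (helper733)

`six_conj` : elements of the same order of a nonabelian group of order 6 are conjugate.
`classes_of` : the hypothesis on classes of `H849.OZ.mod_of_classes` from the quotient `C(z) / ⟨z⟩`.
-/

set_option autoImplicit false

open Subgroup

namespace Cfsg.Agent.H733.OZ

universe u v

section six

variable {Q : Type u} [Group Q]

theorem exists_conj_mem [Finite Q] {r : ℕ} (hr : r.Prime) (hsq : ¬ r ^ 2 ∣ Nat.card Q) {a b : Q}
    (ha : orderOf a = r) (hb : orderOf b = r) : ∃ g : Q, g * a * g⁻¹ ∈ zpowers b := by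
  have hf : Fact r.Prime := ⟨hr⟩
  have hfac : (Nat.card Q).factorization r = 1 := by
    have hN : Nat.card Q ≠ 0 := Nat.card_pos.ne'
    have h1 := (hr.pow_dvd_iff_le_factorization hN (k := 1)).1 (by
      rw [pow_one, ← ha]
      exact orderOf_dvd_natCard a)
    have h2 := (hr.pow_dvd_iff_le_factorization hN).not.1 hsq
    omega
  obtain ⟨P, hP⟩ : ∃ P : Sylow r Q, (P : Subgroup Q) = zpowers a :=
    ⟨Sylow.ofCard (zpowers a) (by rw [hfac, Nat.card_zpowers, ha, pow_one]), rfl⟩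
  obtain ⟨P', hP'⟩ : ∃ P : Sylow r Q, (P : Subgroup Q) = zpowers b :=
    ⟨Sylow.ofCard (zpowers b) (by rw [hfac, Nat.card_zpowers, hb, pow_one]), rfl⟩
  obtain ⟨g, hg⟩ := MulAction.exists_smul_eq Q P P'
  refine ⟨g, ?_⟩
  have h1 : a ∈ (P : Subgroup Q) := hP ▸ mem_zpowers a
  have h2 : g * a * g⁻¹ ∈ ((g • P : Sylow r Q) : Subgroup Q) := by
    rw [Sylow.coe_subgroup_smul]
    exact Subgroup.smul_mem_pointwise_smul a (MulAut.conj g) _ h1
  rw [hg, hP'] at h2
  exact h2

/-- an element of order 3 of a nonabelian group of order 6 is inverted -/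
theorem exists_inv (h6 : Nat.card Q = 6) (hne : ∃ a b : Q, a * b ≠ b * a) {b : Q} (hb : orderOf b = 3) :
    ∃ g : Q, g * b * g⁻¹ = b⁻¹ := by
  have hfin : Finite Q := Nat.finite_of_card_ne_zero (by rw [h6]; norm_num)
  have hidx : (zpowers b).index = 2 := by
    have h1 := (zpowers b).card_mul_index
    rw [Nat.card_zpowers, hb, h6] at h1
    omega
  have hn : (zpowers b).Normal := normal_of_index_eq_two hidx
  by_contra hno
  push Not at hno
  have hcen : ∀ g : Q, g * b = b * g := by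
    intro g
    have h1 : g * b * g⁻¹ ∈ zpowers b := hn.conj_mem b (mem_zpowers b) g
    have hfo : IsOfFinOrder b := isOfFinOrder_of_finite b
    rw [← hfo.mem_powers_iff_mem_zpowers, Submonoid.mem_powers_iff] at h1
    obtain ⟨k, hk⟩ := h1
    rw [← pow_mod_orderOf, hb] at hk
    have h3 : k % 3 = 0 ∨ k % 3 = 1 ∨ k % 3 = 2 := by omega
    rcases h3 with h3 | h3 | h3
    · rw [h3, pow_zero] at hk
      have h4 : b = 1 := by
        calc b = g⁻¹ * (g * b * g⁻¹) * g := by group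
          _ = 1 := by rw [← hk]; group
      rw [h4, orderOf_one] at hb
      norm_num at hb
    · rw [h3, pow_one] at hk
      calc g * b = (g * b * g⁻¹) * g := by group
        _ = b * g := by rw [← hk]
    · exfalso
      apply hno g
      rw [← hk, h3, eq_inv_iff_mul_eq_one, ← pow_succ]
      exact orderOf_dvd_iff_pow_eq_one.1 (by rw [hb])
  obtain ⟨x, y, hxy⟩ := hne
  apply hxy
  have hcard : Nat.card (Q ⧸ zpowers b) = 2 := hidx
  have hcyc : IsCyclic (Q ⧸ zpowers b) := isCyclic_of_prime_card (p := 2) (hp := ⟨Nat.prime_two⟩) hcard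
  have hcomm := (QuotientGroup.mk' (zpowers b)).isMulCommutative_of_isCyclic_of_ker_le_center (by
    rw [QuotientGroup.ker_mk', zpowers_le, mem_center_iff]
    exact hcen)
  exact hcomm.is_comm.comm x y

/-- **Elements of the same order of a nonabelian group of order 6 are conjugate.** -/
theorem six_conj (h6 : Nat.card Q = 6) (hne : ∃ a b : Q, a * b ≠ b * a) {a b : Q} (hab : orderOf a = orderOf b) :
    ∃ g : Q, g * a * g⁻¹ = b := by
  have hfin : Finite Q := Nat.finite_of_card_ne_zero (by rw [h6]; norm_num)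
  have hd : orderOf a ∣ 6 := h6 ▸ orderOf_dvd_natCard a
  have hcases : orderOf a = 1 ∨ orderOf a = 2 ∨ orderOf a = 3 ∨ orderOf a = 6 := by
    clear hab
    generalize orderOf a = n at hd ⊢
    have h1 : n ≤ 6 := Nat.le_of_dvd (by norm_num) hd
    interval_cases n <;> revert hd <;> decide
  rcases hcases with h | h | h | h
  · have h1 := orderOf_eq_one_iff.1 h
    have h2 := orderOf_eq_one_iff.1 (hab ▸ h)
    exact ⟨1, by rw [h1, h2]; group⟩
  · obtain ⟨g, hg⟩ := exists_conj_mem Nat.prime_two (by rw [h6]; norm_num) h (hab ▸ h)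
    refine ⟨g, ?_⟩
    have hfo : IsOfFinOrder b := isOfFinOrder_of_finite b
    rw [← hfo.mem_powers_iff_mem_zpowers, Submonoid.mem_powers_iff] at hg
    obtain ⟨k, hk⟩ := hg
    rw [← pow_mod_orderOf, ← hab, h] at hk
    have h3 : k % 2 = 0 ∨ k % 2 = 1 := by omega
    rcases h3 with h3 | h3
    · rw [h3, pow_zero] at hk
      have h4 : a = 1 := by
        calc a = g⁻¹ * (g * a * g⁻¹) * g := by group
          _ = 1 := by rw [← hk]; group
      rw [h4, orderOf_one] at h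
      norm_num at h
    · rw [h3, pow_one] at hk
      exact hk.symm
  · have hb : orderOf b = 3 := hab ▸ h
    obtain ⟨g, hg⟩ := exists_conj_mem Nat.prime_three (by rw [h6]; norm_num) h hb
    have hfo : IsOfFinOrder b := isOfFinOrder_of_finite b
    rw [← hfo.mem_powers_iff_mem_zpowers, Submonoid.mem_powers_iff] at hg
    obtain ⟨k, hk⟩ := hg
    rw [← pow_mod_orderOf, hb] at hk
    have h3 : k % 3 = 0 ∨ k % 3 = 1 ∨ k % 3 = 2 := by omega
    rcases h3 with h3 | h3 | h3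
    · rw [h3, pow_zero] at hk
      have h4 : a = 1 := by
        calc a = g⁻¹ * (g * a * g⁻¹) * g := by group
          _ = 1 := by rw [← hk]; group
      rw [h4, orderOf_one] at h
      norm_num at h
    · exact ⟨g, by rw [h3, pow_one] at hk; exact hk.symm⟩
    · obtain ⟨c, hc⟩ := exists_inv h6 hne hb
      have h4 : g * a * g⁻¹ = b⁻¹ := by
        rw [← hk, h3, eq_inv_iff_mul_eq_one, ← pow_succ]
        exact orderOf_dvd_iff_pow_eq_one.1 (by rw [hb])
      refine ⟨c * g, ?_⟩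
      calc c * g * a * (c * g)⁻¹ = c * (g * a * g⁻¹) * c⁻¹ := by group
        _ = (c * b * c⁻¹)⁻¹ := by rw [h4]; group
        _ = b := by rw [hc, inv_inv]
  · exfalso
    obtain ⟨x, y, hxy⟩ := hne
    apply hxy
    have h1 : zpowers a = ⊤ := by
      refine eq_top_of_card_eq _ ?_
      rw [Nat.card_zpowers, h, h6]
    obtain ⟨i, hi⟩ : x ∈ zpowers a := h1 ▸ mem_top x
    obtain ⟨j, hj⟩ : y ∈ zpowers a := h1 ▸ mem_top y
    change a ^ i = x at hi
    change a ^ j = y at hj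
    rw [← hi, ← hj, ← zpow_add, ← zpow_add, add_comm]

end six

/-- **The classes of the `r`-regular elements of `C(z)`** from the quotient `C(z) / ⟨z⟩`. -/
theorem classes_of {G : Type u} [Group G] [Finite G] {z : G} {r : ℕ} (hr : r.Prime) (hz : orderOf z = r)
    {Q : Type v} [Group Q] (π : centralizer ({z} : Set G) →* Q) (hs : Function.Surjective π)
    (hk : ∀ k, π k = 1 → (k : G) ∈ zpowers z) (hcl : ∀ a b : Q, orderOf a = orderOf b → ∃ g : Q, g * a * g⁻¹ = b)
    (y y' : G) (hy : z * y = y * z) (hy' : z * y' = y' * z) (hyr : ¬ r ∣ orderOf y) (hyy : orderOf y = orderOf y') :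
    ∃ k : G, z * k = k * z ∧ k * y * k⁻¹ = y' := by
  -- elements of `⟨z⟩` of order prime to `r`
  have hone : ∀ w ∈ zpowers z, ∀ m : ℕ, ¬ r ∣ m → w ^ m = 1 → w = 1 := by
    intro w hw m hm hwm
    rw [← orderOf_eq_one_iff, ← Nat.dvd_one]
    have h1 : orderOf w ∣ r := by
      have := orderOf_dvd_natCard (⟨w, hw⟩ : zpowers z)
      rwa [orderOf_mk, Nat.card_zpowers, hz] at this
    have h2 : orderOf w ∣ m := orderOf_dvd_of_pow_eq_one hwm
    have h3 : Nat.Coprime r m := (hr.coprime_iff_not_dvd).2 hm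
    exact (Nat.dvd_gcd h1 h2).trans (dvd_of_eq h3)
  set Y : centralizer ({z} : Set G) := ⟨y, mem_centralizer_singleton_iff.2 hy.symm⟩ with hY
  set Y' : centralizer ({z} : Set G) := ⟨y', mem_centralizer_singleton_iff.2 hy'.symm⟩ with hY'
  have hord : ∀ W : centralizer ({z} : Set G), ¬ r ∣ orderOf (W : G) → orderOf (π W) = orderOf (W : G) := by
    intro W hW
    refine Nat.dvd_antisymm ?_ ?_
    · rw [orderOf_coe]
      exact orderOf_map_dvd π W
    · apply orderOf_dvd_of_pow_eq_one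
      have h1 : π (W ^ orderOf (π W)) = 1 := by rw [map_pow, pow_orderOf_eq_one]
      have h2 := hk _ h1
      rw [SubmonoidClass.coe_pow] at h2
      refine hone _ h2 _ hW ?_
      rw [← pow_mul, mul_comm, pow_mul, pow_orderOf_eq_one, one_pow]
  obtain ⟨c, hc⟩ := hcl (π Y) (π Y') (by
    rw [hord Y hyr, hord Y' (hyy ▸ hyr)]
    exact hyy)
  obtain ⟨k, rfl⟩ := hs c
  have hkz : z * (k : G) = k * z := (mem_centralizer_singleton_iff.1 k.2).symm
  refine ⟨k, hkz, ?_⟩
  have h1 : π (Y'⁻¹ * (k * Y * k⁻¹)) = 1 := by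
    rw [map_mul, map_mul, map_mul, map_inv, map_inv, hc, inv_mul_cancel]
  have h2 := hk _ h1
  set w : G := ((Y'⁻¹ * (k * Y * k⁻¹) : centralizer ({z} : Set G)) : G) with hw
  have hwe : w = y'⁻¹ * ((k : G) * y * (k : G)⁻¹) := rfl
  have h3 : (k : G) * y * (k : G)⁻¹ = y' * w := by rw [hwe]; group
  have hcw : Commute y' w := by
    obtain ⟨i, hi⟩ := h2
    change z ^ i = w at hi
    rw [← hi]
    exact ((show Commute z y' from hy').zpow_left i).symm
  have h4 : w ^ orderOf y = 1 := by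
    have h5 : ((k : G) * y * (k : G)⁻¹) ^ orderOf y = 1 := by rw [conj_pow, pow_orderOf_eq_one]; group
    rw [h3, hcw.mul_pow, hyy, pow_orderOf_eq_one, one_mul] at h5
    rw [hyy]
    exact h5
  have h5 := hone w h2 _ hyr h4
  rw [h3, h5, mul_one]

/-- transport along an isomorphism -/
theorem classes_congr {G : Type u} [Group G] {H : Type v} [Group H] (f : G ≃* H) {z : G} {r : ℕ}
    (hcl : ∀ y y' : H, f z * y = y * f z → f z * y' = y' * f z → ¬ r ∣ orderOf y → orderOf y = orderOf y' →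
      ∃ k : H, f z * k = k * f z ∧ k * y * k⁻¹ = y')
    (y y' : G) (hy : z * y = y * z) (hy' : z * y' = y' * z) (hyr : ¬ r ∣ orderOf y) (hyy : orderOf y = orderOf y') :
    ∃ k : G, z * k = k * z ∧ k * y * k⁻¹ = y' := by
  obtain ⟨k, hk, hky⟩ := hcl (f y) (f y') (by rw [← map_mul, hy, map_mul]) (by rw [← map_mul, hy', map_mul])
    (by rwa [MulEquiv.orderOf_eq]) (by rw [MulEquiv.orderOf_eq, MulEquiv.orderOf_eq, hyy])
  refine ⟨f.symm k, ?_, ?_⟩
  · apply f.injective
    rw [map_mul, map_mul, f.apply_symm_apply, hk]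
  · apply f.injective
    rw [map_mul, map_mul, map_inv, f.apply_symm_apply, hky]

end Cfsg.Agent.H733.OZ
end

-- part: H695/OneZero/RankOneDef
section
set_option linter.all false

/-!
# An element of order `r` whose centralizer is a group of rank one times an abelian group

`RankOne p r q y R K U TK TC n0` : `R` is a cyclic Sylow `r`-subgroup of `G`, `y ∈ R` of order `r`,
`C_G(y) = C_G(R) = K TC`, where `K` is a group of rank one (`K = U TK ∪ U TK n0 U`).
`RankOneAt G p r q` : such a configuration exists.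
-/

set_option autoImplicit false

namespace Cfsg.Agent.H695.OneZero

universe u

/-- The configuration. -/
structure RankOne {G : Type u} [Group G] (p r q : ℕ) (y : G) (R K U TK TC : Subgroup G) (n0 : G) :
    Prop where
  ord : orderOf y = r
  mem : y ∈ R
  cyc : IsCyclic R
  pgr : IsPGroup r R
  ind : ¬ r ∣ R.index
  cent : ∀ g, Commute g y → ∀ x ∈ R, Commute g x
  ncj : ∃ m : ℕ, ¬ r ∣ m ∧ ¬ IsConj y (y ^ m)
  KC : ∀ k ∈ K, Commute k y
  Kr : ¬ r ∣ Nat.card K
  UK : U ≤ K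
  TKK : TK ≤ K
  n0K : n0 ∈ K
  NK : ∀ n ∈ Subgroup.normalizer (R : Set G), ∃ c, Commute c y ∧ ∀ k ∈ K, n * k * n⁻¹ = c * k * c⁻¹
  CK : ∀ c, Commute c y → ∃ k ∈ K, ∃ t ∈ TC, c = k * t
  Kn : ∀ t ∈ TC, ∀ k ∈ K, t * k * t⁻¹ ∈ K
  bru : ∀ k ∈ K, (∃ u ∈ U, ∃ t ∈ TK, k = u * t) ∨ (∃ u ∈ U, ∃ t ∈ TK, ∃ v ∈ U, k = u * t * n0 * v)
  TCy : ∀ t ∈ TC, Commute t y
  TCU : ∀ t ∈ TC, ∀ u ∈ U, t * u * t⁻¹ ∈ U
  TCT : ∀ t ∈ TC, ∀ s ∈ TK, Commute t s
  TKC : TK ≤ TC
  disj : ∀ u ∈ U, ∀ v ∈ U, ∀ t ∈ TK, n0⁻¹ * u * n0 = v * t → u = 1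
  n0T : ∀ t ∈ TK, n0 * t * n0⁻¹ ∈ TK
  cardU : Nat.card U = q
  pU : IsPGroup p U
  TCp : ¬ p ∣ Nat.card TC

/-- There is such a configuration. -/
def RankOneAt (G : Type u) [Group G] (p r q : ℕ) : Prop :=
  ∃ (y : G) (R K U TK TC : Subgroup G) (n0 : G), RankOne p r q y R K U TK TC n0

end Cfsg.Agent.H695.OneZero
end

-- part: H730/OZ/Known
section
set_option linter.all false

/-!
# S4842: the case list (helper730)

`Rows` collects the rows of all families; `row_known` distributes a known simple group.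
-/

set_option autoImplicit false

open Cfsg

namespace Cfsg.Agent.H730.OZ

universe u

/-- The rows of all families of non-abelian known simple groups, in the universe `u`. -/
structure Rows : Prop where
  alt : ∀ {S : Type u} [Group S] [Finite S], IsSimpleGroup S → IsAlternating S → Row S
  psl : ∀ {S : Type u} [Group S] [Finite S], IsSimpleGroup S → IsPSL S → Row S
  psp : ∀ {S : Type u} [Group S] [Finite S], IsSimpleGroup S → IsPSp S → Row S
  psu : ∀ {S : Type u} [Group S] [Finite S], IsSimpleGroup S → IsPSU S → Row S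
  oodd : ∀ {S : Type u} [Group S] [Finite S], IsSimpleGroup S → IsPOmegaOdd S → Row S
  oplus : ∀ {S : Type u} [Group S] [Finite S], IsSimpleGroup S → IsPOmegaPlus S → Row S
  ominus : ∀ {S : Type u} [Group S] [Finite S], IsSimpleGroup S → IsPOmegaMinus S → Row S
  g2 : ∀ {S : Type u} [Group S] [Finite S], IsSimpleGroup S → Lie.IsoChevG2 S → Row S
  f4 : ∀ {S : Type u} [Group S] [Finite S], IsSimpleGroup S → Lie.IsoF4 S → Row S
  e6 : ∀ {S : Type u} [Group S] [Finite S], IsSimpleGroup S → Lie.IsoChevE6 S → Row S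
  e7 : ∀ {S : Type u} [Group S] [Finite S], IsSimpleGroup S → Lie.IsoE7 S → Row S
  e8 : ∀ {S : Type u} [Group S] [Finite S], IsSimpleGroup S → Lie.IsoE8 S → Row S
  te6 : ∀ {S : Type u} [Group S] [Finite S], IsSimpleGroup S → Lie.Iso2E6 S → Row S
  td4 : ∀ {S : Type u} [Group S] [Finite S], IsSimpleGroup S → Lie.Iso3D4 S → Row S
  sz : ∀ {S : Type u} [Group S] [Finite S], IsSimpleGroup S → Lie.IsoSuzuki S → Row S
  ree : ∀ {S : Type u} [Group S] [Finite S], IsSimpleGroup S → Lie.IsoRee S → Row S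
  tf4 : ∀ {S : Type u} [Group S] [Finite S], IsSimpleGroup S → Lie.Iso2F4 S → Row S
  tits : ∀ {S : Type u} [Group S] [Finite S], IsSimpleGroup S → Lie.IsoTits S → Row S
  spor : ∀ {S : Type u} [Group S] [Finite S], IsSimpleGroup S → IsSporadicGroup S → Row S

/-- All known simple groups. -/
theorem row_known (R : Rows.{u}) {S : Type u} [Group S] [Finite S] (hs : IsSimpleGroup S)
    (h : IsKnownSimple' S) (hna : ¬ IsMulCommutative S) : Row S := by
  rcases h with h | h | h | h | h | h | h | h | h | h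
  · exfalso
    apply hna
    have : Fact (Nat.card S).Prime := ⟨h⟩
    have h1 : IsCyclic S := isCyclic_of_prime_card rfl
    exact ⟨⟨fun a b => (IsCyclic.commGroup (α := S)).mul_comm a b⟩⟩
  · exact R.alt hs h
  · exact R.psl hs h
  · exact R.psp hs h
  · exact R.psu hs h
  · exact R.oodd hs h
  · exact R.oplus hs h
  · exact R.ominus hs h
  · rcases h with h | h | h | h | h | h | h | h | h | h | h
    · exact R.g2 hs h
    · exact R.f4 hs h
    · exact R.e6 hs h
    · exact R.e7 hs h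
    · exact R.e8 hs h
    · exact R.te6 hs h
    · exact R.td4 hs h
    · exact R.sz hs h
    · exact R.ree hs h
    · exact R.tf4 hs h
    · exact R.tits hs h
  · exact R.spor hs h

end Cfsg.Agent.H730.OZ
end

-- part: H785/OZ8/Tools
section
set_option linter.all false
open scoped Cfsg.Agent.FastGrp

/-!
# S4842: two rational classes of `r`-elements; rational elements from conjugacies; degrees from extraspecial
configurations (helper785)
-/

set_option autoImplicit false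
set_option linter.unusedSectionVars false

open Cfsg Cfsg.Agent.Characters Cfsg.Agent.H686.CharKit Cfsg.Agent.H732.VZ Cfsg.Agent.H604.OZ

namespace Cfsg.Agent.H785.OZ8

universe u

/-! ### powers -/

section pow

variable {G : Type*} [Group G]

theorem conj_mul_pow {y : G} {a b : ℕ} (ha : IsConj y (y ^ a)) (hb : IsConj y (y ^ b)) : IsConj y (y ^ (a * b)) := by
  obtain ⟨c, hc⟩ := isConj_iff.1 ha
  have h1 : IsConj (y ^ b) ((y ^ a) ^ b) := isConj_iff.2 ⟨c, by rw [← conj_pow, hc]⟩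
  rw [pow_mul]
  exact hb.trans h1

theorem conj_of_mod {y : G} {n a m : ℕ} (hn : y ^ n = 1) (h : a % n = m % n) (ha : IsConj y (y ^ a)) :
    IsConj y (y ^ m) := by
  rw [← pow_mod_natCard_aux hn h]
  exact ha
where
  pow_mod_natCard_aux {y : G} {n a m : ℕ} (hn : y ^ n = 1) (h : a % n = m % n) : y ^ a = y ^ m := by
    rw [← Nat.div_add_mod a n, ← Nat.div_add_mod m n, pow_add, pow_add, pow_mul, pow_mul, hn, one_pow, one_pow, h]

theorem rat8 {y : G} (hn : y ^ 8 = 1) (h3 : IsConj y (y ^ 3)) (h5 : IsConj y (y ^ 5)) {m : ℕ} (hm : ¬ 2 ∣ m) :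
    IsConj (y ^ m) y := by
  refine IsConj.symm ?_
  have h7 := conj_mul_pow h3 h5
  have h1 : IsConj y (y ^ 1) := by rw [pow_one]
  have : m % 8 = 1 ∨ m % 8 = 3 ∨ m % 8 = 5 ∨ m % 8 = 7 := by omega
  rcases this with h | h | h | h
  · exact conj_of_mod hn (by rw [h]) h1
  · exact conj_of_mod hn (by rw [h]) h3
  · exact conj_of_mod hn (by rw [h]) h5
  · exact conj_of_mod hn (by rw [h]) h7

theorem rat9 {y : G} (hn : y ^ 9 = 1) (h2 : IsConj y (y ^ 2)) {m : ℕ} (hm : ¬ 3 ∣ m) : IsConj (y ^ m) y := by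
  refine IsConj.symm ?_
  have h1 : IsConj y (y ^ 1) := by rw [pow_one]
  have h4 := conj_mul_pow h2 h2
  have h8 := conj_mul_pow h2 h4
  have h7 := conj_mul_pow h2 h8
  have h5 := conj_mul_pow h2 h7
  have : m % 9 = 1 ∨ m % 9 = 2 ∨ m % 9 = 4 ∨ m % 9 = 5 ∨ m % 9 = 7 ∨ m % 9 = 8 := by omega
  rcases this with h | h | h | h | h | h
  · exact conj_of_mod hn (by rw [h]) h1
  · exact conj_of_mod hn (by rw [h]) h2
  · exact conj_of_mod hn (by rw [h]) h4
  · exact conj_of_mod hn (by rw [h]) h5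
  · exact conj_of_mod hn (by rw [h]) h7
  · exact conj_of_mod hn (by rw [h]) h8

theorem rat5 {y : G} (hn : y ^ 5 = 1) (h2 : IsConj y (y ^ 2)) {m : ℕ} (hm : ¬ 5 ∣ m) : IsConj (y ^ m) y := by
  refine IsConj.symm ?_
  have h1 : IsConj y (y ^ 1) := by rw [pow_one]
  have h4 := conj_mul_pow h2 h2
  have h3 := conj_mul_pow h2 h4
  have : m % 5 = 1 ∨ m % 5 = 2 ∨ m % 5 = 3 ∨ m % 5 = 4 := by omega
  rcases this with h | h | h | h
  · exact conj_of_mod hn (by rw [h]) h1
  · exact conj_of_mod hn (by rw [h]) h2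
  · exact conj_of_mod hn (by rw [h]) h3
  · exact conj_of_mod hn (by rw [h]) h4

end pow

variable {G : Type u} [Group G] [Finite G] {χ : IrrCharacter G} {x : G}

/-- **Two rational classes of `r`-elements**, `r ∣ χ(1)`. -/
theorem two_prime (h : One χ x) {r : ℕ} (hr : r.Prime) (hd : r ∣ charDegree (χ : G → ℂ)) {y₁ y₂ : G}
    (ho₁ : ∃ n, orderOf y₁ = r ^ n) (ho₂ : ∃ n, orderOf y₂ = r ^ n)
    (hy₁ : ∀ m : ℕ, m.Coprime (Nat.card G) → IsConj (y₁ ^ m) y₁)
    (hy₂ : ∀ m : ℕ, m.Coprime (Nat.card G) → IsConj (y₂ ^ m) y₂) (hx₁ : ¬ IsConj x y₁) (hx₂ : ¬ IsConj x y₂)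
    (h12 : ¬ IsConj y₁ y₂) {B : ℕ} (hB₁ : cent y₁ ≤ B) (hB₂ : cent y₂ ≤ B) :
    cent x * (2 * (r ^ 2 - 1)) ≤ B := by
  obtain ⟨k₁, hk₁⟩ := H849.OZ.rat (χ := χ) hy₁
  obtain ⟨k₂, hk₂⟩ := H849.OZ.rat (χ := χ) hy₂
  have hd₁ := H849.OZ.rat_dvd_prime hr hd ho₁ hk₁
  have hd₂ := H849.OZ.rat_dvd_prime hr hd ho₂ hk₂
  have key : ∀ {y : G} {k : ℤ}, (χ : G → ℂ) y = k → ¬ IsConj x y → (r : ℤ) ∣ k → (r : ℝ) ^ 2 ≤ (k : ℝ) ^ 2 := by
    intro y k hk hx hrk
    have hk0 : k ≠ 0 := by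
      rintro rfl
      exact hx (h.uniq y (by rw [hk]; simp))
    have h3 : r ≤ k.natAbs := Nat.le_of_dvd (Int.natAbs_pos.2 hk0) (Int.natCast_dvd.1 hrk)
    have h4 : (r : ℤ) ≤ |k| := by
      rw [Int.abs_eq_natAbs]
      exact_mod_cast h3
    have h5 : (r : ℤ) ^ 2 ≤ k ^ 2 := by
      rw [← sq_abs k]
      exact pow_le_pow_left₀ (by positivity) h4 2
    exact_mod_cast h5
  have h1 := H849.OZ.excess_rat h (Finset.univ : Finset Bool) (fun b => cond b y₁ y₂) (fun b => cond b k₁ k₂)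
    (by rintro (_ | _) _; exacts [hy₂, hy₁]) (by rintro (_ | _) _; exacts [hk₂, hk₁])
    (by rintro (_ | _) _; exacts [hx₂, hx₁])
    (by
      rintro (_ | _) _ (_ | _) _ hne
      · exact absurd rfl hne
      · exact fun h' => h12 h'.symm
      · exact h12
      · exact absurd rfl hne)
  rw [Fintype.sum_bool] at h1
  simp only [cond_true, cond_false] at h1
  have hc₁ : (0 : ℝ) < cent y₁ := by
    have : 0 < cent y₁ := Nat.card_pos
    exact_mod_cast this
  have hc₂ : (0 : ℝ) < cent y₂ := by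
    have : 0 < cent y₂ := Nat.card_pos
    exact_mod_cast this
  have hB₁' : (cent y₁ : ℝ) ≤ B := by exact_mod_cast hB₁
  have hB₂' : (cent y₂ : ℝ) ≤ B := by exact_mod_cast hB₂
  have hB : (0 : ℝ) < B := hc₁.trans_le hB₁'
  have hr1 : (1 : ℝ) ≤ (r : ℝ) ^ 2 := by
    have : 1 ≤ r ^ 2 := Nat.one_le_pow _ _ hr.pos
    exact_mod_cast this
  have e₁ : ((r : ℝ) ^ 2 - 1) / B ≤ ((k₁ : ℝ) ^ 2 - 1) / cent y₁ :=
    div_le_div₀ (by linarith [key hk₁ hx₁ hd₁]) (by linarith [key hk₁ hx₁ hd₁]) hc₁ hB₁'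
  have e₂ : ((r : ℝ) ^ 2 - 1) / B ≤ ((k₂ : ℝ) ^ 2 - 1) / cent y₂ :=
    div_le_div₀ (by linarith [key hk₂ hx₂ hd₂]) (by linarith [key hk₂ hx₂ hd₂]) hc₂ hB₂'
  have h2 : (cent x : ℝ) * (((r : ℝ) ^ 2 - 1) / B + ((r : ℝ) ^ 2 - 1) / B) ≤ 1 :=
    (mul_le_mul_of_nonneg_left (add_le_add e₁ e₂) (by positivity)).trans h1
  have h3 : ((cent x * (2 * (r ^ 2 - 1)) : ℕ) : ℝ) ≤ B := by
    rw [Nat.cast_mul, Nat.cast_mul, Nat.cast_sub (Nat.one_le_pow _ _ hr.pos), Nat.cast_pow, Nat.cast_one, Nat.cast_ofNat]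
    rw [← add_div, ← mul_div_assoc, div_le_one hB] at h2
    linarith
  exact_mod_cast h3

/-- the order of `x` divides `|C(x)|` -/
theorem orderOf_dvd_cent (x : G) : orderOf x ∣ cent x := by
  have h : Subgroup.zpowers x ≤ Subgroup.centralizer ({x} : Set G) := by
    rw [Subgroup.zpowers_le, Subgroup.mem_centralizer_singleton_iff]
  rw [← Nat.card_zpowers]
  exact Subgroup.card_dvd_of_le h

/-- the number of `p`-elements bounds a centralizer from below -/
theorem card_le_of_pSet {p M : ℕ} (hM : (H730.OZ.pSet p G).ncard = M) {x : G} (hx : ∃ k, orderOf x = p ^ k) :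
    Nat.card G ≤ M * cent x := by
  classical
  have : Fintype G := Fintype.ofFinite G
  rw [← H849.OZ.card_class x]
  refine Nat.mul_le_mul_right _ ?_
  rw [← hM, ← Set.ncard_coe_finset]
  refine Set.ncard_le_ncard ?_ (Set.toFinite _)
  intro g hg
  rw [Finset.mem_coe, Finset.mem_filter] at hg
  obtain ⟨k, hk⟩ := hx
  exact ⟨k, by rw [← orderOf_eq_of_conj hg.2, hk]⟩

/-- **The degree of a nontrivial irreducible character of a simple group with an extraspecial configuration.** -/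
theorem HC_le [IsSimpleGroup G] (h : One χ x) {m : ℕ} (hc : H340.Deg.HC G m) : 2 ^ m ≤ charDegree (χ : G → ℂ) := by
  obtain ⟨n, ρ, hρ, hχ⟩ := χ.2
  have hn : charDegree (χ : G → ℂ) = n := by
    have h1 : (χ : G → ℂ) 1 = (n : ℂ) := by
      rw [← hχ, Representation.char_one]
      simp
    have h2 := charDegree_irr χ
    rw [h1] at h2
    exact_mod_cast h2
  have hinj : Function.Injective ρ.toHomUnits := by
    rw [← MonoidHom.ker_eq_bot_iff]
    rcases IsSimpleGroup.eq_bot_or_eq_top_of_normal (MonoidHom.ker ρ.toHomUnits) inferInstance with h1 | h1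
    · exact h1
    · exfalso
      have h2 : x ∈ MonoidHom.ker ρ.toHomUnits := by rw [h1]; trivial
      have h3 : ρ x = ρ 1 := by
        have h4 := congrArg (fun z : (Module.End ℂ (Fin n → ℂ))ˣ => (z : Module.End ℂ (Fin n → ℂ))) (MonoidHom.mem_ker.1 h2)
        rw [map_one]
        exact h4
      have h5 : (χ : G → ℂ) x = (χ : G → ℂ) 1 := by
        rw [← hχ]
        show LinearMap.trace ℂ _ (ρ x) = LinearMap.trace ℂ _ (ρ 1)
        rw [h3]
      rw [h.zero, ← charDegree_irr χ] at h5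
      have h6 := deg_pos χ
      have h7 : (charDegree (χ : G → ℂ) : ℂ) = 0 := h5.symm
      rw [Nat.cast_eq_zero] at h7
      omega
  rw [hn]
  refine (H340.Deg.HC.le (k := ℂ) (V := Fin n → ℂ) two_ne_zero hc ρ.toHomUnits hinj).trans_eq ?_
  simp

end Cfsg.Agent.H785.OZ8
end

-- part: H3/Ore/Fi22Three
section
set_option linter.all false
open scoped Cfsg.Agent.FastGrp

-- part: H3/Ore/Fi22Cert
section
/-!
# `Fi22`: commutators given by words (helper3)

`crt y g a b = true` : the word `y`, conjugated by the word `g`, is the commutator of the words `a`, `b` (agreement of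
permutations on a base).
-/

set_option autoImplicit false
set_option maxRecDepth 100000
set_option exponentiation.threshold 5000
set_option linter.style.longLine false

namespace Cfsg.Agent.H3.Ore.FC

open Cfsg.Spor Cfsg.Spor.Fi22 Cfsg.Agent.Lib.PermNet Cfsg.Agent.Lib.PermNetOrbit Cfsg.Agent.Lib.PermNetFix
open Cfsg.Agent.Fischer Cfsg.Agent.Fischer.Fi22PtsRep
open Cfsg.Agent.H834 Cfsg.Agent.H834.AC

/-- the check -/
noncomputable def crt (y g a b : List Gen) : Bool :=
  eqB (g ++ (y ++ g.reverse)) (a ++ (b ++ (a.reverse ++ b.reverse)))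

/-- conjugation check: `g y g⁻¹ = c` -/
noncomputable def cnj (g y c : List Gen) : Bool := eqB (g ++ (y ++ g.reverse)) c

/-! ### fast evaluation of words : the tables of the generators as 12 planes of 4096 bits -/

/-- the planes of a generator -/
noncomputable def pl_a : ℕ := nat_lit 0xfffffffffffffffffffffffffffffffffffffffffffffffffffffffffffffffffffffffffffffffffffffffffffffffffffffffffffffffffffffffffffffffffffffffffffffffffffffffffffffffffffffffffffffffffffffffffffffffffffffffffffffffffffffffffffffffffffffffffffffffffffffffffffffffffffffffffffffffffffffffffffffffffffffffffffffffffffffffffffffffffffffffffffffffffffffffffffffffffffffffffffffffffffffffffffffffffffffffffffffffffffffffffffffffffffffffffffffffffffffffffffffffffffffffc003ffffdffefff8007ff01cffffe003efff03ff3eff807bfffc03b74001fff0000001601eff006fc0c07fc0000fc08c809e1700d0f178000000000000000000000000000000000000000000000000000000000000000000000000000000000000000000000000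000000000000000000000000000000000000000000000000000000000000000000000000000000000000000000000000000000000000000000000000000000000000000000000000000000000000000000000000000000000000000000000000000000000000000000000000000000000000000000000000000000000000000000000000000000000000000000000000000000000000000000000000000000000000000000000000000000000000000000000000000ffffffffffffffffffffffffffffffffffffffffffffffffffffffffffffffffffffffffffffffffffffffffffffffffffffffffffffffffffffffffffffffffffffffffffffffffffffffffffffffffffffffffffffffffffffffffffffffffffffffffffffffffff7b7df000f3ffece6001df03bdedb6a00000150d180ffbf7fcf0d6fbf800122236df7380079fc0320ddbfff00000000109a0000040000000000000000000000000000000000000000000000000000000000000000000000000000000000000000000000000000000000000000000000000000000000000000000003ffc000020010007ff800fe300001ffc1000fc00c1007f840003fc48bffe000ffffffe9fe100ff903f3f803ffff03f737f61e8ff2f0e87ffffffffffffffffffffffff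ffffffffffffffffffffffffffffffffffffffffffffffffffffffffffffffffffffffffffffffffffffffffffffffffffffffffffffffffffffffffffffffffffffefffce7ddfbfcf9f7fdb1f27f1d0ff3efbbfc7f9fe7df7b4018a2210180184021e046503c3841842003830c211000000000000000000000000000000000000000000000000000000000000000000000000000000000000000000000000000000000000000000000000000000000000000000000000000000000000000000000000000000000000000000000000000000000000000000000ffffffffffffffffffffffffffffffffffffffffffffffffffffffffffffffffffffffffffffffffffffffffffffffffffffffffffffffffffffffffffffffff000000000000000000000000000000000000000000000000000000000000000000000000000000000084820fff0c001319ffe20fc4212495fffffeaf2e7f00408030f290407ffedddc9208c7ff8603fcdf224000ffffffffef65fffffbfffffffdbfffe0005bfffb7ffff8007ffe01deffffffe0000038ffbc03fffc995fff4dc04fedfe00008000466ffd8007bf803043ffff00000003f8021092013605000000000003ffc000020010007ff800fe300001ffc1000fc00c1007f840003fc48bffe00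0ffffffe9fe100ff903f3f803ffff03f737f61e8ff2f0e87fffffffffffffffffffffffffffff1fff9ff87801bfff00f47ffe07f71ff8787ee13ff0fcdfe00c01bfa603e00a07fc078503f00703c00074101e19000000000000000000000000000000000000010003182204030608024e0d80e2f00c1044038060182084bfe75ddefe7fe7bfde1fb9afc3c7be7bdffc7cf3deeffffffffffffffffffffffffffffffffffffffffffffffffffffffaf7bf7bffb7bdffffeffffffa11444800b7b81100ddff001000002211000000000000000000000000000000000000000000000000000000000000000000000000000000000000000000000000000000ffffffffffffffffffffffffffffffffffffffffffffffffffffffffffffffff0000000000000000000000000000000000000000000000000000000000000000ffffffffffffffffffffffffffffffffffffefdf00ffedffafbc17ada6600ce14b6aa0000004100dabf7efbfff0c9a5bddffe2afc4212495fffffeaf2e7f00408030e0900000025dd49200c0000600004f02000000000065e60003ffd0ff7fe7c7f5ffffffac4015dbff9ffffbfdffe307fbffffffffc704fffc04236fa4a0b23c901200000f7ffe9890020000404043bc000000003afc001dc76d40c17af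0366027fefbffc00002c8f7fefffffefef03fffffc103ffc10fd0bffd5e163fc48bffe000ffffffe87e1000010010f80007ff003730021e800270e8007eba07ffe000002801ff027c307ee007e27fffffc797ff5b83eff83fe1f787811ec00f03201ff3fe4059fc1ff4780008183c00f83c0fff0021e0627dfcdefe00fcffc7b9fe64c03f03f00603c187003f78e68c170e1802de7f85eaf0bc7144038060182084bfe75ddefe7fe7bfde1f9889c0c1ae39cdfc1c71ce6ffdfff90c6108811e3cfb44bafbdef7fe030844804008024211200f38c38c004842000010000005eebbb7ff4847eeff2200ffefffffddeefffffffffffffffffffffffff7fffffffffd000027e03800000000000000000000000000000000000000000000000000000000ffffffffffffffffffffffffffffffff00000000000000000000000000000000ffffffffffffffffffffffffffffffff00000000000000000000000000000000fffffffffffffffffffffe6f83dff37a4c0a126aff00120054cfe952599f8312948540000fd908f2148c924fff5f41371bffff5ff0d7fbfe0001feaf4bc01616508c1f4dfbfffd8058002807ff8003fc9000400000007f9a0124001780db7de7c7f5ffffffbe006d93ef9fff806dfe3c00000000001fc7000000b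2d4101a5f4dc3ffedfffff3c01f770dfdfff827bfaf4000000007c5000009c34d40c05af03660fffefbffc7803edff4fefff86efeff0001ffc1000016f00b40028069c0237403ffff001e01ffbfebfff9ffeff803fe0003d337f4168e0200c80043be083fe03cdfe83fff03fc77fefdf87d8787fe7868ff2f8011fc08e00e0781e183f01c41e7fdfe1ba67be18ff803f87afc0ff0fc30008bce01848e072001c02487c0381e03c3ff0dd0f23fcfb9efc39f3b77630608034e0ddae7f74e10843c0781e0c308dffbbefff797fb92020739afc3c79e7bdf0060821082064407ffdefffe8c1c18ddca18c21101fc739b7fbff00000000005cf408491ffffffc032400007ffffffff4847e6ff0000ffefffffcc00001ff7c100ffff0000044002088000000002ffffd81fc7ffffffffffffffffffffff0000bce000000000000000000000000000ffffffffffffffff0000000000000000ffffffffffffffff0000000000000000ffffffffffffffff0000000000000000ffffffffffffffff0000000000000000ffffffffffffffff000001907c200000300050a0ff0933ffab301ebfa6607cedeb7abffff92df4f2148c924fff5d41361b001f5c7df7fffbfffe000545b0018126431222447ffca20a69973000005b0c6be04100ffff8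00008458038d07e686707f1bfffffbe4068481000007b110783df5bbfffffe0201b43fcfb1c80535e4583ffc9fffff3c01e4062000007980190bfbfbffff8203c07e56e6940017af007e0ffcfffffc780ff8013006007900300fffe00307f8ffebc3f47f841e94066fc07ffbf001fe7f9be140ffe03f307fc09dffc37180a0e81f080e87fc2fbf03ff07f2ff8be0001804700e207ecefbfffc7df00a47c1007c81e098580ff43ff1f601ff3fe200078018587dff6e3c3ff07800e7f8829e0627dbc0101ffbf07f8781e1b83c00e20fd3c0e07103f78e68c9ff7a8c12180281408418efa3f87e1f8e384bbe75ddef000004de1e0677fefffdffbdafc7cf1ce6ffdff017dce7bfee1c304bb5504210821ff7b44804002f49ce6dc35087cf7fed8c6483022000004e699b7fdd08fffff6648ff00000011eeffd0113ffe4400ffff8000000f7007f00003ffffd81fc7fff8007ff07f8000000000ffff431fffffffc07f37c0000000000000ffffffff00000000ffffffff00000000ffffffff00000000ffffffff00000000ffffffff00000000ffffffff00000000ffffffff00000000ffffffff00000000ffffffff00000000ffffad907c25fed5cb853d74ff06042efb73f46977d0735e50250001f070401d02dcfbef825c000519ffe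24c44e6dfeffffe00af247f082d2fcb1f49407ffc4057fdcf3ffff9770e4b259effffff807aa641ffc778134fe606c8001fffa1e117b70207ff80810743f9a0401fffe01f24fe0300cff080154303ffd201fff03c213f1dfd7ff84001c0bff040fff81d43f8104194fec880fe2860fc0003ffc078005fece11ff800fe00ffc000ff007fc0bba4b806a1017fc72f87f80000203e07c1ee0807001007fff07f03e41001e971fef020603fea003fcfbfcfd7ffff00600080ffffff82381c0068ffeffffe04080009ffffffc0000001e7fc07c4007801c1ffffffd900000043ffff7fe700000c440111ff5c780787e1e77fffef700500003fefffff22040008573effffaf1028418efbffffe0180008dffbbcde0868044fe2e77fee1306100427ff9c7310820644fc718e001077df1cdddae31ce620038cfb7fbffaf2421123f5887cf7909084403fddffff07fe000001d08fff002200fcffffff01aefff07fbfff000000003fb001f80ffc0fc002ffe1dc1fc7f007ff800f80780002f8f8ffff431c0300bdff80c83ffff803800000ffff0000ffff0000ffff0000ffff0000ffff0000ffff0000ffff0000ffff0000ffff0000ffff0000ffff0000ffff0000ffff0000ffff0000ffff0000ffff0000ffff0000ffff0000ffc3adc10cba0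d2f867f163ffc00d056f82000cd07d07fb23fcabc00007baf329fc8fc507e5edb3a1bf81e1c0d600811c000aea5f07f11d5d6d416243b7801bc726b8e07fc048bfb6f7fbefffe005f9f36bbfc47539316500371b81c0032141580eddf800481f143dfdfffdff017c7c4020314ec8fa814ffc3f20bffc0038be13b8002f806583e50bc4ffffffff7c3fff81526bdb380f1e678fbcefbe0077f005f031e9fff910030c03fc00dbc7fc8875007809081ffa3757be7bf005f59024001f7f80000fc03f9aff03737e3ee81f27f7c1fc2be0f002fff3f0001e0fd1c3080fe067cfdc6218068ff500011ff370009fa00003fff0321e671e781fa0b8031fffc0026fff00843fe7f8018ffe68e04db0dc05b7b47ffe1d34330108ffb03c03fff0300dd738b1877bf4c002af6e8f18eff3f001fe7208cfbe30221fe75006de207a13efcc9a04637fc030edeef0400fb8e61737fe19c18bb75fac000ff00849fff000ffede0003ff570000ffff00083fdd4000fce1ff4001f7b008ff4400fcffff0023800030107efefffcffff384ffdf800040fff02c01fdc0007ffe7ff09ef8007e07d0704f83f431bf0ff423f80c80100fffc47e000ff00ff00ff00ff00ff00ff00ff00ff00ff00ff00ff00ff00ff00ff00ff00ff00ff00ff00ff00ff00ff00f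f00ff00ff00ff00ff00ff00ff00ff00ff00ff00ff00ff00ff00ff00ff00ff3c41ae422049f28a6b1f1be3308727cd4b9628c1bf72414b5ea3e0b676f236a24e05bc7dcd655ddc879f13bfd6c4143e00518db7c0ef45264cd0257b47e113d00001b703fbaf05ef27ff80c1fc579876407f446302ce0bf4800fe3c025cb8780eff47f73110fc3de7f80380fe5b824fd808ffb5f3a7d833f402dfc3e00742137fe0287f1e78180bc4ff8fc058a7e0614434bc370f0f1f96c03ee801fc8efc37f101fdf867e0230c03e3fcdfc7028d41b40721ef97c1f267b07fcfc5ea6e98001f7f9ffe003fff05f0facb0f30d71faf0221fc2fff0c02fbf30f0801fc09fb0e0e279817d81e187c8e0f903ed84e0e009817ffe3c0ff8011f80143f9ff461a87803ffa6be0cf843be0083d0e19c7d03c707e20bbb43961f377ccf12a802fc303f10f018b988eaee57c2b37e58f83049eec4c0807fe0fc88db1c1e20ff8ae06ddfe07918c3304e7605037f02fe02fb44fb7190fb017e7f00ff301d3e00fcff00bf00ff0c0720f403f06fff00ff00fb883f10ff00f80762bf03b00f08ffbb48fcef00ff31bfc03f097e00b803ff00c3cff3076f000fc0fd381f201f07ff0780801f7f7c1fffc00707ff001c0cffa03e00ff80ff067c781f00f0f0f0f0f0f0f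0f0f0f0f0f0f0f0f0f0f0f0f0f0f0f0f0f0f0f0f0f0f0f0f0f0f0f0f0f0f0f0f0f0f0f0f0f0f0f0f0f0f0f0f0f0f0f0f0f0f0f0f0f0f0f0f0f0f0f0f0f0f0f0f0f0f0f0f29e010e424e4615fa6f13cdc2af1a036161976ceefcefe51399ccc6a5d81ff80db260bc0077c7647f1374e91b4531e06c48b66cf43f04b842a6bc371c5b736c0174e3472fc4445fd07831c3af56b165f0fb8c12cfee17320f833c3d6d6664e848788bed8db3d7747c270e1866b0f2784e9b16c73704bfba1bc231e063119381e2f789b771ecb20f47c3c268b1e1fd944ef98eaf313092f3d17e1c38953318e81e1c79e1f300fc3c3c38b07f2e82cae770208642515a64e783c3f0b0e77181e786f39ff3c381600c74a6650bf187fce21c72fd88fc2f3230df301e3c9e489ef3718dec81d130171cf673927cdf1109f6701d73c8e690e07cea1465747153f7830037b1e3ff7040f0c336e1e1f8f2c5f5bef435fa0ef0ac70cf11e7f2f001b7e0ce9852f0e90c68b2eec1ea99dfa580f4f0f79000f37c90e0d2d0f61b032c119030b02e764e4d37f0937ae1e2f2f0f0fc1974f80ff0f0f2e5e503f0e2f3f8b4f0b0f311c1d3c3ff6fb0f0e0647c3430f0f0f0f506b4b0f24f08f0f0f0f0f0f0f0f0c1fc3c00e970f0c3c3f0f087cf0ef610f30f30f33e1ed3d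0c780e7f0f810f0f3de703884e7b0f81b8cf05d31f0f07cf0c1f078c2e8ccccccccccccccccccccccccccccccccccccccccccccccccccccccccccccccccccccccccccccccccccccccccccccccccccccccccccccccccccccccccccccccccccccccccccccccccccdc5dd824ecdc0fe35a93809abe90e81dfa5b91cdaaf0e93e1b5b15341a01f45a949d8b9259f07e915611b2983e1239ad98333e821ad2e65aabdf366304989ce741d160dab52bbd6c056d66a93324b98df14cf666ea4fb8230fce7bb36c4b5d3cc70f66ce734b0dee2e7324c98654acce6403669059e2a50e873b333d98f14d67d19aee6de4ac5c8d8ce63334504d998c9323a6a4aaccb691cb1c619324b68c048e98da658dcffcf3333385ce6cceade71e49dcc7316e0a50c633332d98cccc619666ce60cb32649cce69d9cc8bc94dc38a1b0e924cf32ccfdcce8d993299cc98cc49ed5c61aa8e149bde4e6264d48cc9cccc938f36c5ccdd4b2aeee0b26cb7ce50cc2d8d93ce4e6d4c30dcd9c4c6c926dd70b6f265ecccbc4ccc9fa6cecf0dc9cccdd44cc0c1824e4846b9706e1e55d88accce0d9ccc488cc46dcdc67bd4ed8cecafbcb9372d88e5cc8ec6dddccec8cde8466a66444ccca84c85b9989ace48a8cc8cca91712b330c2ecc484debf33b3cee8cccca818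88ccce6acd5cceec4cccccccc9be2330cff4dcd3333cccca24cccc99cc8cccccd3198cf2ce66cd64cc59ccccb39ce34649e4ce49e6ccc58c9ccce72cc31ce742572aaaaaaaaaaaaaaaaaaaaaaaaaaaaaaaaaaaaaaaaaaaaaaaaaaaaaaaaaaaaaaaaaaaaaaaaaaaaaaaaaaaaaaaaaaaaaaaaaaaaaaaaaaaaaaaaaaaaaaaaaaaaaaaaaaaaaaaaaaaaaaaaaab9292afdd8a716d72760b9cfe4c4cdcc4171358b8b4bdd1938964e29a831b52881c12958138dfb4ab55a88fc4db1a32b554b56c75bb593e28eaac752a6549703a54d5ab2edca611a548a554daae2ec72a9eaca1a439d6b80e52552aaae93abaab68a54acdaada8ad6d2ab6ad43730e295667be4c60ef4ba9e48caaab5618cba2a954d5596a9b7aa96a95aaa96ca9554373e0b5d736aa64c6aa9a555a8ae3680a5c5597515ba8aaaaaaaa68e95aa48fe9952dbb8d28ed62fab56aaa8acab9eb595554a95aaaa95aeaa9524da649a5292a3ad6eb2322aaaaa95a9d2b55aad522d4aa2d452dd54e6d7252c7295b529a4aad2e2a482aa5b5cab2a54a2d2cd54ad92d6aac8de95aad695b2aaea2b533a6ecb6a0a910ae354baab26aaa5af5a4aaab6cbaa9ba6aaa314b45eef8a474d645d524e8aaad4b52aa22aeb22aaaa543aee92b2a4cb7651cbb2894aac9a4abaaa8aaaf576455d4eeeaaee89655544d56a9aecaaaeaa642caab8aa6ad6a22ba222eaaaaa8eaaaad4d8caaa80592b2aa8caaaaaaaaaa473baabadc6baaeeaaaaaa912aaaa5daaaaaaaaaad54aeaa955ab52aa35aaaaeb528aa56d56a96534aaa96a52aad6aaaad296ab1b4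

/-- the planes of a generator -/
noncomputable def pl_b : ℕ := nat_lit 0xffffffffffffffffffffffffffffffffffffffffffffffffffffffffffffffffffffffffffffffffffffffffffffffffffffffffffffffffffffffffffffffffffffffffffffffffffffffffffffffffffffffffffffffffffffffffffffffffffffffffffffffffffffffffffffffffffffffffffffffffffffffffffffffffffffffffffffffffffffffffffffffffffffffffffffffffffffffffffffffffffffffffffffffffffffffffffffffffffffffffffffffffffffffffffffffffffffffffffffffffffffffffffffffffffffffffffffffffffffffffffffffffffda3ffbebc787fe7747fffff82ffcf7c001ff303c7f9f84bffffbe5ffff982f3be0000a9e000c3e0ff0f93c61f800360f00474006400004700007bc000000000000000000000000000000000000000000000000000000000000000000000000000000000000000000000000000000000000000000000000000000000000000000000000000000000000000000000000000000000000000000000000000000000000000000000000000000000000000000000000000000000000000000000000000000000000000000000000000000000000000000000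000000000000000000000000000000000000000000000000000000000000000000000000000000000000000000000000000000000000000000000000000000000000000000000000000fffffffffffffffffffffffffffffffffffffffffffffffffffffffffffffffffffffffffffffffffffffffffffffffffffffffffffffffffffffffffffffffffffffffffffffffffffffffffffffffffffffffffffffffffffffffffffffffffffffffffffffffffcb7732da5a2f3e19edf68afb580100859810000b5fc1978ff33eb0e515b44444fcfceff7fa05bf08b80020406d8200026403018201c0000000000000000000000000000000000000000000000000000000000000000000000000000000000000000000000000000000000000000000000000000000000000025c0041438780188b8000007d003083ffe00cfc380607b4000041a000067d0c41ffff561fff3c1f00f06c39e07ffc9f0ffb8bff9bffffb8ffff843fffffffffffffffffffffffffffffffffffffffffffffffffffffffffffffffffffffffffffffffffffffffffffffffffffffffffffffffffffffffffffffffffffffffffffffffffffffffffdefc79f3b776be6cf26e79df3f52f1f9e3bc3f8fe3f3cb588e30c4a5610e18c02071881c0c18e39c43c1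c70c62000000000000000000000000000000000000000000000000000000000000000000000000000000000000000000000000000000000000000000000000000000000000000000000000000000000000000000000000000000000000000000000000000000000000000000000ffffffffffffffffffffffffffffffffffffffffffffffffffffffffffffffffffffffffffffffffffffffffffffffffffffffffffffffffffffffffffffffff0000000000000000000000000000000000000000000000000000000000000000000000000000000003488cd25a5d0c1e612097504a7feff7a67effff4a03e68700cc14f1aea4bbbbb0303100805fa40f747ffdfbf927dfffd9bfcfe7dfe3fffffb5ff77f5f96986cff7dffff806ff9e5da0008173fc8201b7ff0ff3b72ffdfb97f94804081835009147fffaff827de0dbd000005f0203c00c0001892440105800025c0041438780188b8000007d003083ffe00cfc380607b4000041a000067d0c41ffff561fff3c1f00f06c39e07ffc9f0ffb8bff9bffffb8ffff843fffffffffffffffffffffffffffcf8fff70042f87fffb9fc3ffbc3fe07f80e3cfc3fe7be06700047c2f80384780038183c31f13c0e0f0021e06240000000000000000000000000000000000002103860c4889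41930d918620c0ad0e061c43c0701c0c34a771cf3b5a9ef1e73fdf8e77e3f3e71c63bc3e38f39dfffffffffffffffffffffffffffffffffffffffffffffffffffdfd5cf7cb56f6f7bb7fed4943ffce699b7852f706250bbb7f825000044a2500000000000000000000000000000000000000000000000000000000000000000000000000000000000000000000000000000ffffffffffffffffffffffffffffffffffffffffffffffffffffffffffffffff0000000000000000000000000000000000000000000000000000000000000000ffffffffffffffffffffffffffffffffffffd7beff2ff4536e6ba84f8cedd95d90408a40000922265f7cfeff7aff8c7e61b2d7514a7feff7a67effff4a03e68700cc10f02220b888100000000000000310000000a0070000081fc060cbe0ff9afdf03aaaf07befb3fffffffffffffe3effffffe9ff3fffffc03f07c59d00e1f680203fbf72700216a000005000002030000000f80800007f0f0fe32c89fefa517bffc0041d3ff8019fffffc3ffff3f1ffffe1fffff80e97fc022067e0002ffd0c41ffff5401fe340000f0003860003c0000fb880101ffff3807ff8002ff7c01fbc00c03e1f0d8cc7803f7f01fffffdbf8000c67ffe1ffc3ff807f1c303c01841f98fffb83d07fc11807fc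1e0c00e00c030200f8e0384b3bbf1e05bdff8df8be06703c01c00f03c4e3a73f8e7ddb9bcf9f7d919e23c1bd7f3efc43c0701c0c34a771cf3b5a9ef1e73fdf8a12e070e104209c060821084bbbbfc718c736a7623e59965e73deedc1c3189289202048c626a7af79f7a90908448012b6bc0031966487ad08f9daf444807daffffbb5daffffffffffffffffffffffdbf753bffd01eff0123e02ff0080000000000000000000000000000000000000000000000000000ffffffffffffffffffffffffffffffff00000000000000000000000000000000ffffffffffffffffffffffffffffffff00000000000000000000000000000000ffffffffffffffffffffd705015a8c189dddacc340d40bffbd9c5ff9f31220000f80103209921c0023ca8dd2df5d7f9fff6dbffec1aff7fbff7f09ff94041838df13fc0d8dfc03f7e031f100805fa40f6027fcfb5920803fc00000400960ef9affe038bff07fefb7008e03b7ff901fd9041ff7e8c0200fe00000c00240f71e097fff4041fd8ffde8ff80105fffd82bfec29fff020007c0000700002c01fef0517fffc007fd3ff803fff8003fffd0eff83ffe00cfc00006800000f001ffc1002ffbe000fabfe01ffff00fffc3ff07ffc9f0f000bfe9a000f0007f80002e37c001bc00cefe1ffd8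3df81f307fe08ffbf47800f4603c0043f01f8f8fe003c31e49e1e7207a7c2f803eff7ffc7e7c3ce0ec3c1d0f0501e193ddcdce1804078cf89e0633fc3ec3e71fc3e73103f78e6ced41930d938620cead8ec607ac0781e071c73a9e75ddefa78a6315c38677e3f3c61c63b03830d295fdced23fff7bdb41220e1bb48e30c6203e08420012df0801084b52b38c34bb5ffffffe1efffd0077beedafad0878c2f0000058003ff990cafe7eec241bbff100009320341aac4002fe100fedc1fd00ff7fffffffffffffef8fcff009c1800000000000000000000000000ffffffffffffffff0000000000000000ffffffffffffffff0000000000000000ffffffffffffffff0000000000000000ffffffffffffffff0000000000000000ffffffffffffffff000028fafea500840000284100d01fac4263a0060ceddffef07fefcc266b3f2623ca8dd2de5c7f91ff6da8aebfd0180c5961f7199406381000001603cca643b3a7fe05fff70000209ed80304a0005fe111800cc003e0ff9aefb03ab5e07fef94fff1fc48006ce026f3e008173f37f804800cc00260ff1e097fffc0417d8ffde9147fefa00027d4013d6000fdf7f813ff3fe0002c01fef0517fffc007fffff80388bfffc0002f1007c001ff303bff76fb4000f401ffc1002ffbe00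0fbbfe1fbc1fff006fc18ff7c363f0fffc0161ffffb0fff8043fe3fffe1bc3fcee000f00f18000f7f01fffffdb87fffb98001e003c000ff4fc33fc1f8c1f98e07a00000006b0f800e1f3fc1fe2070500fce0384b3bad2fe24637fefede3e73c03f03f81c0700a77f8e7ddb9b71f30fee61dc3042800119cfc7f1fc7df28761cf3b4a400439d02075ed6fbf5efc63bc3e38b18cdfbbb22d394b52189dc1a66ba18d295dffcf79b78920509210820ae30a3cfffb7bcda81cd2bc0010822007f673f7bffccda875afc002251000c66da5ea940401fb28d024edbc5ffefe124fedc08d00037ff8bf01f821803070300ff63e7ffffbdff87112e000000000000ffffffff00000000ffffffff00000000ffffffff00000000ffffffff00000000ffffffff00000000ffffffff00000000ffffffff00000000ffffffff00000000ffffffff00000000ffdfabfaf5aaf37afe642fc108d1a00093d6c0b642f767a2b05fa4bdff6000407bf8ecee58aff39f9f6d09428afffbfd426601004a03c668a6333f0fdd87640188303a06edfdffd0147ffdfb46f8c021083fcb271960819817a0289fba0007e37e7f7c4843130026fbfffffe001c081b7ff33ffc84e7140840ff40418e6001f6ebfffff0041000013d7ffff80fd82c00c01fffc133f6f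05004ffe0071430003c7747fffc07d01007c1ffe003c780e97cbfff0b9bffc167d0cbe0fff121e014bfffff003300f8803fc0ffb8a00040000cfffff8000037c00043cf3fde000d8c0001cf7ffff1700007ffff7ffc000b030007ff7fff2230041e1e73ffe00000106a8ffffff83030011fbfffffbe1e003199d2fe7f9d3010121c1cfffffc01f000404bfbfff8c48808e0cf27dfff1022080011ffffff19c00011bbe751950d8759ccde3b7ffd38306018ddfc7c8721169cedfaa21ac201a9fcfbfb6d043108681f39e4876df7088c6260af38a3cf252319a57e32d43f071800007f673f7b80556d7aefffff894000147f7ffe52bf10004900fe76dfff202e0002ff2bfff00fc06079f0e005e7017f3f00ff20e3fc00ce6878eed1dfff80000000ffff0000ffff0000ffff0000ffff0000ffff0000ffff0000ffff0000ffff0000ffff0000ffff0000ffff0000ffff0000ffff0000ffff0000ffff0000ffff0000ffff0000ffff0000ffe9fb5a3fa07c2143bbb85e590d2a12d272d6804d0b9cec601f2bf5d896c1c04f66f1f1ff016ff85e41b6bc3edff403197cfe11ebfb00ef7e30cee20c2e4355df803b01882200f09fdffc80e0069fbeee7f0b80ce805998deefd0aaa16d07ab71808267bc83e026f3ffc00000c3d7997fc3c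0013bfcea0003ff7f80ffffa9e1ebfc100ffbc814013d7c0005c807ef80ef1f0452cc08004487f7dffcfd0878007747c003f82c030fffff1f3007ffcf87ffdd007e003d0000f79cfe0ea1fe043e0fffff8c86f8fc09ce0f001f705f0080800000433fd7c3e1ffcf001fe0f20cc707cf7f000e8fc4bfffff007fc1f4c3201fff01c2ddff185e3e03f81ff5786c6a8e7f0007cc3f001fbfc0c041e39d3dd8229e0021883b97dd1c3fc013fe0f3c404bfc38673b469f61cf373800cf2f9f0011bffc00e63fc319fa040c4ba5ea418ede3c4657c74e119cffc0007439dfd800dffd84044fefe0e226bfff0084fb1b48292f000df5bc002afeb24041fff84137ff3ad400f9e7eec87f6b4811ff992000b4030044ccaf1430bc1f9ebfffff4012fe765b00dfd1e102ff28170f8fb7600d0fff800085ff0047c3ff01981fff05f8f7d020447ff91800ff00ff00ff00ff00ff00ff00ff00ff00ff00ff00ff00ff00ff00ff00ff00ff00ff00ff00ff00ff00ff00ff00ff00ff00ff00ff00ff00ff00ff00ff00ff00ff00ff00ff00ff00ff00ff36288b48da6231aa98e8235fe49580f78be9464d14ab1c9f2f1199f19ddf185f0ac31379aff376206af6b2bf9e0e0a1b2ec1fe7d03e188de80159fee5eda23900e0782478320fc9c5fe37afffdb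fc12a60f85fcc036e40d34014c0fed067ab8ffe01903c83e72669e03f89fe83c86fbf3ff8c11b13124b3b80a0767e6c55e0e9836e0d7bee3fc11163fc023fe023803ad0e313cdf50a6b472c1fe4f4cff83df6403fc167d3e30e01e0fc003780f0eb3f20097ff801407cf06301003ffe17900800b04ce6f8ff003df0f81ff040ff7c807ff9b8c11003e1a030bf1fff0c7fc0810f80000e087697ff00797bf110fc1e07e7be00ddf0e71ff9703f584b8407fe8980f918cff0f11fb0483f018379b304d37f5f60cfdf923d80c3830fff00f3ce4b53c707e230d4f86819e7e0cfd06fe3919c037fe600fb11b6f85d41f26503827c036746fcb181dc893fe044ff44a7ecd86269344fb03f81beb4e0ecc06ce4327d86ad0e8ec1ee2aec41fc03fa4387721ee3f810f86bd5127fa81f70ff76d562d900ff622e00f303d9a117c0ff80b232ff0e85c1fe01fe20ffc39f0070489f44f01e7d008478ff47e380ff9bdf42d780e6003f438f3ee380f0f0f0f0f0f0f0f0f0f0f0f0f0f0f0f0f0f0f0f0f0f0f0f0f0f0f0f0f0f0f0f0f0f0f0f0f0f0f0f0f0f0f0f0f0f0f0f0f0f0f0f0f0f0f0f0f0f0f0f0f0f0f0f0f0f0f0f0f0f0f0f0f0c426395d0e2d81a1edacff0a33d0e03ddff588359453bc7ce81bf1a614b0317cf1b20ecccd1ce6a0d9b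01c78c111ebbdf13cd076f4f4ccb9771271fda26be5a00e017de062dce856bf1c70bfe3b87820b0f360ed63c7a5147e1cba0b22e62a8fcff1e438c380e6a29c3079a18bfc7cf0c330b7a80b0d85c77d1e3ef18055d9e24361f3e389f53a3c63c3f6343c23701510fc30b18bc4623849de18f60e443c79843c321f13cfe3fc1ee3e30c70bf14f0d2c0fb87b13603e563e1ff3d91f4ed8780494c98c0c0f903e0f65b99d0f078ae787784f0cc2311df80c0df9cf1fcb0c6cc7ff18e8bc86f70f034870ef8ffd998987a31ddc0fcbdd089f8ff08c3f76089f0f8e7cf20c1df719330d062d2bca4be62f0f1a0d31c2374f078f23180ce71caa7f8943441d3991c28c0d2dc097803c9b0f0e4e7f0e4d82cd3fc99f5849d9ef1f27c313b819fba78f263b5d89d34f1d530706941d87079a563c3af3464e7826e2670f0eb13f0ba9241b3a3d58e9d1d913187b0f2eb7878f4571881f0e88e1af3c0f08430e0eceb92b1953cf870bc90f17dd0f5c1d1f0d6f0e0f7d87870f0a88ee1e2f8c184faf6d860e5e230f095c0f8fc30b3e0fce470ccccccccccccccccccccccccccccccccccccccccccccccccccccccccccccccccccccccccccccccccccccccccccccccccccccccccccccccccccccccccccccccccccccccccccccccccccc5b8f77a525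7f939349e7bff9a0659d5023138606a0b98e8c66bad44f56c8e9e1aac201e7d6886b8869cca0ec9c39db88fbaa896cd0a4bd07bc85c6e56a6e21e2db0648e92d2b4a4b4d34f9e3286163a2cf894e35325baddcd19e40aa4219dcdb148b327ab5cfa5a73264d595b2a720ccf8c4e79cb1f54e6ccd970c1393526833389c19a699cc52a7333c93b033ccc39bcd89aea622cda37c9999ccb6bb331d333330d9cb3cec3b398d318cb4c2f524cee3c88664f29e3da7399c1b26d94f2666c8f4c9d34b0f6f39c8d11c86ccc6cc9e64d64ccf318cd5a4c6dd873c9e06cb0eee4cc1dccc9e4cccccae4ccc8f0e6649e410ed9ac941308c59cc4cfcb7cd0c9ccced4ccdd3dd8c9433cdc70aeb0984673e88cd48c9138cece64c98cc8cdcc4a33340bccf5e3f613dcc52ecc3e5cca37aecc9bc70ec695552ececec30d640c4d89521bf64ded7066cdd0b4e8eecc80cb3ec85dcd6c4c679189204baea4c7cdc0c49ec9af6fc4ecb5c14ed5ec959a0c4c06b65ccfbd084449c45c8fccc59b9c8330ccb82edcc4c6e88d9b73e66cc0eccc0ac489b9a98deeccbafce66644ec9149d99ec4e7e3e5c9d453c45dac80c534dce32ccb1ce2d49caaaaaaaaaaaaaaaaaaaaaaaaaaaaaaaaaaaaaaaaaaaaaaaaaaaaaaaaaaaaaaaaaaaaaaaaaaaaaaaaaaaaa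aaaaaaaaaaaaaaaaaaaaaaaaaaaaaaaaaaaaaaaaaaaaaaaaaaaaaaaaaaaaa957925f1113261ff090d97c7cd83e4ead5bf251149f4ccd6856db86e5f282c899faa8b160a42c5d5f869356a55bd50927e6a2478acaacae44aaa394aec5cbb353b6e5119cbc9c6c952ab29b5aeb54d9a4aaeeaa1aa6d2b965a9128cca18d70aaa9adc296b6569618ca956a15ca9d50eaaaea6c66a28884573ed4e4aa99c4b5b82ad528d15d73a4f44aaaa8aa96aaaa9e9ab655d9539b5f2a875556babf2eab23eaaaa8d68a99b56b54aa96aeaa0aa52a88a8d55569bd1a814a55adab5b563b555a2c6ad3aaaaacaa5aeb122caaaa5ad55528d68a8a96aad56a7a954aa55a6aaca952ab322deeaaaaaaead6aaa2aab5525529a9955b4eeaaca752b2edd2c2b8ad2aa4aaaa9aab96a486aadb4aa8aab7594baa899256d0b5aba956a56b24a92b2abeaa4aaaaa06bcd2a392aa9a817ab5352aaad2b4adb5d8b4a9aa8be844732aa96d6aaaa96f4a8f53a92aa6acba2eaf8d393b16ba0b2a512e0fb647a1eab6a36a0a28a3d26aa9e892a5699a0eb9b2e8aaa5056aadc1e6a0af32f25aeae785d2aeaaaaf809baaec3cc0a26ea854aefa8a8e4d86ed5654b8aab5bda8d5562cad625b550b291d295ad966ab3332a28a6eaa38aaaeada92ae29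

/-- the planes of a generator -/
noncomputable def pl_c : ℕ := nat_lit 0xfffffffffffffffffffffffffffffffffffffffffffffffffffffffffffffffffffffffffffffffffffffffffffffffffffffffffffffffffffffffffffffffffffffffffffffffffffffffffffffffffffffffffffffffffffffffffffffffffffffffffffffffffffffffffffffffffffffffffffffffffffffffffffffffffffffffffffffffffffffffffffffffffffffffffffffffffffffffffffffffffffffffffffffffffffffffffffffffffffffffffffffffffffffffffffffffffffffffffffffffffffffffffffffffffffffffffffffffffffffffffffffffffcbdfd4ff47df87f6dbfd43e87f4d32cbfa3e8cd3f8c32fb3fcd299a023c7fd0c25f00f005e013eff00f01d38a27a3c1c0f1b80011beaf0bcf807803c00000000000000000000000000000000000000000000000000000000000000000000000000000000000000000000000000000000000000000000000000000000000000000000000000000000000000000000000000000000000000000000000000000000000000000000000000000000000000000000000000000000000000000000000000000000000000000000000000000000000000000000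000000000000000000000000000000000000000000000000000000000000000000000000000000000000000000000000000000000000000000000000000000000000000000000000000fffffffffffffffffffffffffffffffffffffffffffffffffffffffffffffffffffffffffffffffffffffffffffffffffffffffffffffffffffffffffffffffffffffffffffffffffffffffffffffffffffffffffffffffffffffffffffffffffffffffffffffffff3dbcc8a5b0f7f8dc7f017c06e9ec3629024a4e4c10097e7f8ecf8702a2c9b99920e3f38604b8004741fbcb9bc815146548002200060000000000000000000000000000000000000000000000000000000000000000000000000000000000000000000000000000000000000000000000000000000000000034202b00b82078092402bc1780b2cd3405c1732c073cd04c032d665fdc3802f3da0ff0ffa1fec100ff0fe2c75d85c3e3f0e47ffee4150f4307f87fc3fffffffffffffffffffffffffffffffffffffffffffffffffffffffffffffffffffffffffffffffffffffffffffffffffffffffffffffffffffffffffffffffffffffffffffffffffffffffffbbfbfbeecedffe78e371effcd9dfedf1e73dfb3ecb4d5212081494a0806a9100c842023b3677ef08c00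105084800000000000000000000000000000000000000000000000000000000000000000000000000000000000000000000000000000000000000000000000000000000000000000000000000000000000000000000000000000000000000000000000000000000000000000000ffffffffffffffffffffffffffffffffffffffffffffffffffffffffffffffffffffffffffffffffffffffffffffffffffffffffffffffffffffffffffffffff000000000000000000000000000000000000000000000000000000000000000000000000000000000c243375a4f08072380fe83f91613c9d6fdb5b1b3eff68180713078fd5d364666df1c0c79fb47ffb8be04346437eaeb9ab7ffddfff9fffffbe2fccd5e5ef33de7ff39bf07bfcc61ba4fff2f7e277d7768003f8feee073e67957941937082ec92e98064d02038300162ff50fe82182784000fe02098061860034202b00b82078092402bc1780b2cd3405c1732c073cd04c032d665fdc3802f3da0ff0ffa1fec100ff0fe2c75d85c3e3f0e47ffee4150f4307f87fc3ffffffffffffffffffffffff9df7f7e00c71b6fe8f05c7fc1e7fcc1e3033ec53fcefbe1c884033839079c6217a3ce653fc6f64190c07091ec880000000000000000000000000000000000000044040411312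001871c8e10032620120e18c204c134b2adedf7eb6b5f7f956eff37bdfdc4c98810f73ffefaf7b7fffffffffffffffffffffffffffffffffffffffffffffffffff5bf7de1525bddef6d67092bef4bbdf76d681ceb84a8176d6acafa008904a80000000000000000000000000000000000000000000000000000000000000000000000000000000000000000000000000000ffffffffffffffffffffffffffffffffffffffffffffffffffffffffffffffff0000000000000000000000000000000000000000000000000000000000000000ffffffffffffffffffffffffffffffffffffebff50d253befd2853372e6306c3cb4a201086441015fff773f7eefcd3f2be9ff8bf91613c9d6fdb5b1b3eff681807130081c480000025f0000780107c88000000020002869880000047de03fe777ff1f7ff7ebffeef807ffc3f9783b9efffffff5fff9a38dffffd3f0313ffc7b828003e040c1c0024007f800e878685c2000003000dc5480017e007452000420e27f7c2f3eb86ff8bfff82ffd787bfcf7fffdff3ecbffdd05fff7fffffffb852f3da0ff0ffa01e0000d004600100000080f0200b8000000001000007c11c93d1e03c0683fe0f1f3287ee383bfffbffdf7fffff3fffff83ffffefcc13ac031041e377bfcc7c6f86189e8000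01800080882201f022411778e6eef1400f27f37f61d9d003c63c6063d9682cc1d27597364e9d77cde760f6e2f762e98c204c134b2adedf7eb6b5f7f956eff37bdf1c0c080003301ac3042016f56ddbedbded939cd6a00171cf3bdb5e04212552d408310849fc3be3eefa422109298f6d410b442089297e3147b57e892953505ff76fb57fffffffffffffffffffdfededacedfefe3db8091571409c24000000000000000000000000000000000000000000000000000ffffffffffffffffffffffffffffffff00000000000000000000000000000000ffffffffffffffffffffffffffffffff00000000000000000000000000000000ffffffffffffffffffffe8c3bc67f24a449a56caaf2fac6b62d7acefd194003c04b11800100900280c2cb375b5f2ac7f780fef3fff9feff69020b266610090a698ac1fee3b7fed6e4fffc0c79fb4037b836041000000000008000100d803fe577ffff7fffff9ffe7fffdffffff033ff4180000000000200000000038c0003801d7efffffffffbffdfffffffffff97bff8c000000002000000000030400004208a7e7fffffffe7ffffefffffffffbfffb405c1732002000000008000000041a80c61fd1f465fffffdfffffefffff85c3e300c4747ee4140001000003c01c13c1e43cf683fe8f3f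3687fe0fcc1ff78e698170faf803e1bc33e157f09c57fc6f940d9be073839078e3ff85c319ac031013c4f208d4a026075b1dee440327f31f61c89fffc6dc2f23d908047e6dcb7bdba15871d8e1003a6f09bdf6f020761d8efde127df7b5af5b16622e031dfdc4c98810f73e52cab7b7f1bbfa452c736e69c00a8eb46954840001108002409d3c67392a4082deadeebef7ffffffffb9b4c619b7f7e3001907e000100004c9325907c9ddacb016b1afe052e781e3653120101c247f6ea8ebf63dbfffffffffffffdfc7cf0020e180000000000000000000000000ffffffffffffffff0000000000000000ffffffffffffffff0000000000000000ffffffffffffffff0000000000000000ffffffffffffffff0000000000000000ffffffffffffffff0000173c4398050002001400bf2dadd49daa53002e69ffc3fb4ef77bce6f1eb81c2cb375b5f0000f7060073feefff37bfffbe97c49ffc1216040e79e115376f7d8002ef8604d03743b805256c37eaeb9233ffc0000038e5747fff7ffffdfdd28000220000001a803ffe03ffe1ffdffe97ffc000080002001c2fffffffffffbff400000000040000077e0bff97ffffc7be810000000000208a7f7fffffffefffe930020c008010005ffa3e0ddffd3effec032d601e8441a80c65fd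1f465ffec1202f0b92c65dfa3c7cff3b8b8100010f4307f87bc2ff7fe1e7fcf704808020040062383bfffbffde780f04c000007c0000d87c8ffbbf71d5e377a04000000021d07ffffa3fff7067c071f832611778e6fce0fbf3fffd9b3ed9dffc08e0cfcc22602cc1d2759736003af9f2189f091d088c031c003a0ec5161edf7eb610ffb7cf300c8420c1d1b28b0f73ffefa73936f56da00085240863295ffebf7af7bf1e3de76d52d000000000a70c3dfbdfffff9b7ff3b400000006000185dffe6fff9b7d535013644f244785dacb772bf8004240a0121bff3783bfc76ff6e2009f615b3fc4b600a1801a03830ffdf1e7fff73adfc2665400000000000ffffffff00000000ffffffff00000000ffffffff00000000ffffffff00000000ffffffff00000000ffffffff00000000ffffffff00000000ffffffff00000000ffffffff00000000fff2577d42f548ff74dbb70cef8910059e7d4d101d7dfdea0a01488461b281254e6df2d25980d27b3863e4394774df7a7d76468316f87907f8ccf7ee3378221285f1d7bf7fc202200c980fef63dd4946c05fe0df30820e1367fff328000600cdfffe67c784f3880bc75fede9fd822016be73dfc500d82001d2efffff2300400237fffbff780644007bbfff27f02283ec57e0fcfb47f8a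208a7e7fffc0b8080004defdf2b700e2844be0308f1c05fdd0100c52864158792a9c6ffd1041a1e1f37ff18470000dfdff13f0e47f801b03ffef27c804801c7fcfdc03f9fc1e0f070000723fffff00700107f0fbf93d1e3c0000983ffffc400e010d9bffec400001254efdfff790000f101d9ff7fec00603421ce1fbff20606080372ffff6f4604400747dffffc113005e878e2ffff0cc000009175fffba0240c12767df32b50a4e9956ecb5fff240906093ac3eebab625f1bbe5bed38c08aff29feeb775a4209ffc63892ad2fd8010849a70c3dfbcca84274800c4bfffb4c26000185df7e6d00edaaedac6c93250144e7fffcfe40e2fe012027d3dbfff780001003ef7fffb00282c44ff73f5600021f877fdc7041b40bdfe83d99aa9bf71000000ffff0000ffff0000ffff0000ffff0000ffff0000ffff0000ffff0000ffff0000ffff0000ffff0000ffff0000ffff0000ffff0000ffff0000ffff0000ffff0000ffff0000ffff0000ffcd77691163ba01b961d4e6e93fe41d8f5cb00035fff27cf5ce2c958c296f85cff18377911681ff68ec0b3055e40005628c706596e7409918449f098807cde9b5f1c0b0e131e3a33a9fede93fa378009ddf1c80171d8e5741de0456fb52005fffc1f8397c83c9c3c7bf1716126f2896be062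03a3fffd801c3ef0020dcff4002be7f6f008f8140307b5fecdf8fe513ffb7ef1b88b9f90788aff602b3f47e87810dd70b15f7c40496885ae818f45f9005ff1800fdf7841a86ff8400f0641f10e64de7b8c01007fc34fff2000781aeb2f11deb67bc11c900e3f3ff0837ff0e032f872383800ff039757f0c0073fe1ffcde0983c00007ffe40edf3bf93bf97b9354efa3c086c3cef101d93f80121ff745a1231b800df9363a0372ff3c90b1f2419747df0400e68d21e838e68a00f33fc0649175c0045fdb5c33fe75049edffb6899ff03800cdbf60e19ff234105c7b7f1001ffe28009bfe921e9fea885339bffea1925200427f77800ff0d5c2817fe3066d60f4bf10fb3d79929ac53c627ff7402bed3d368959174e6400371d407e1c00a7fd3d9ac087ffdd203ef788e6fe152047b4930a00fe7fc0003fff1018f3fe522a6e8a36d28efe0400ff00ff00ff00ff00ff00ff00ff00ff00ff00ff00ff00ff00ff00ff00ff00ff00ff00ff00ff00ff00ff00ff00ff00ff00ff00ff00ff00ff00ff00ff00ff00ff00ff00ff00ff00ff00ff109410ae06fa09e4d17565ccfed937a16cebc8875178b16f8f63f16266f3e00d8d43a86dd0ad849e1c76fd25fe3f4181c1ee43fb1f66079f4086667007d805b7003e8886e3fef3cc981aa000e89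f6094c0de38d781ff844e202d438fa6c55dff3f3b39ec8ffe28f3a0e811e01ac71b01c4c7027f202581de18ff98dce0ffc23a8095408726eb047fffbfd07d0859d15f00e416b1ff7219e748bd039403f400edf8dfd48700c794be04fc24fc2c7f0460e2d1fe1d2fe287e490ffe061d8fca7bdf7462ff0005fc2cf0db800698e9d0e0d6b94343fc13de3cc00f0411cf00fafff3f7c3d8f88db729603b89c29c3ff1f0df83efc07f01a0ef181dd3bbffc1eb4effc0ce743e00fbdc1c08e5013688e91cc0ce10c011779edb000c0738c0b8047dec4fa07e653be09eb017576f3287880b7733d07dec8be02e58ae39a7f247c18aed87d02de20ff1172dcaf80cf914eb91d05f7429be97f00ff417b0bb09e1d4cfb2d4040be883d0f7f02ed0dfd143ef407c6e8294b04ee241f901fe02f08a82b37f9e9c44d14e902f3306fe02de3e4e67ec0bf32d73833547e80fcc4f7e8b342fc0cf518fe003f203f00ee78f38da129c864bfd0f207fb00f0f0f0f0f0f0f0f0f0f0f0f0f0f0f0f0f0f0f0f0f0f0f0f0f0f0f0f0f0f0f0f0f0f0f0f0f0f0f0f0f0f0f0f0f0f0f0f0f0f0f0f0f0f0f0f0f0f0f0f0f0f0f0f0f0f0f0f0f0f0f0f0f0fcd3c0e68679c168268bc696b928d189789ff57e3c9b22488d94e6abe0c373e8c4331c7a05718ffe7f0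e3b0d65f8595e81a3a5ef1cc95860dc89f64bc7950f62ffc6c89cb3fd64fc1f96456308a8b5ac50de50d8c1c07870c01f179e4deaf1f0bce4ee706ad1b35550cfbd9f70f0bce045f7fbf1040359d0f3b1ca80f2f73024f08d01c899fafc3458e00e70f042aa18ee1850eb8649c8b399b240fbf01bf1b440df1c88bb0446b184ebd4fa7f6cf59eb421e30893e3d61acbf8187826ff2340e7f93e1ec67a32c0c1c4b0c7ae3df5f8e393ea39b620e24e000e3ce3e04b5666dff0625cc81c13e1f31e1e162320f8edfff93b860181ee1ef4c1bc46770e82f4703e94621de97319d038391e10c470c8ffb9e371d28e0f68f0f0f0fcfbb3894368e1d7b9c1f4f8678de6a0f29c377a9024f0f431c0a9b271f0ecae6050986d309032f8c3cdf8c0fddcb33ecb6620c238f5f0e198b5e0f8f0a966036d8b825e9c45e8f2b1f070aebe62f25d726c162b81ca16e8e43490f11eec1c9670fe3fb9e2bad678b0b4b6d2cd786f906183f9e3f1323c8388ea2c867170e326f912b8b1f35cf8e0f07138d0b2f8cb9cb8e15c51f1e0b6a2c1f0f0e4ccccccccccccccccccccccccccccccccccccccccccccccccccccccccccccccccccccccccccccccccccccccccccccccccccccccccccccccccccccccccccccccccccccccccccccccccccf8be8c46e8e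269be4d19e9a02d248a3972bca256d853c4f325e8601f3cd9d9463a6ad1f5bd5fe03cd8de21489b84c73b67c5b1f493d5561e083c8655b64f23cec92c4ce2c8728ced9664f43211958b88ecd96c8c31b944658d91109cc57cd74cb8d4d2cc96ec42b54cd6d27cc4cc01d86deee45ce3baf5a6e48c4dcc4daace3eccf77cb4998ec1b58658e8eedefaa6e4cd9ec644664e25bb86ccccce4b8b4d23f4c811cc8f94ad27648bd4c45851c8994dc4eadc9e52471e28c6974326db92ccd4e4b18915c53acc81b38cb58d9ccd96cb1351867cd8d24d8cf772cb993671de38cff222ccf14b59c3f44d0734da26c964cd4b653f7d8ca48cfd123048fefaca0f2a8c5992998c9cecc416c24cc8fdd5c2ecffc9b8e78a21ccec8cfdcb0e2d1b90dde89cfd8cc4da8d8ecccd88d6743538ccc80c3095e9134cd00a1ccc8cd8cdb86cc4e6d8cc5fa2d89d8942a1ac7eb68decfce8830cc6fd9dccc4aa9868aed79474ae4d540e09c8d890ed86cccdeb56e675645c4cfdebcf6edb6a0cc01c23df64dc889e94f68a356c5a5d18471e8b4d8c31ceecf52ccc0d4c9828c4e4e48dcf0cc6dccc4df4dc4ec42c7c8458caed7ec8b80ca9cfc8d2aaaaaaaaaaaaaaaaaaaaaaaaaaaaaaaaaaaaaaaaaaaaaaaaaaaaaaaaaaaaaaaaaaaaaaaaaaaaaaaaaaaaa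aaaaaaaaaaaaaaaaaaaaaaaaaaaaaaaaaaaaaaaaaaaaaaaaaaaaaaaaaaaaa840a7f9ddc7fce30eadcb02578d08ca025352c5c7a31bdc1291a5feac89fcf240b57757cb7eb5a5ab6b11c2cc94e673f82b0a8a55a3a2cd5662bc54205943b82a4b3ead2c4cbde9b4d239a2be79b8a9b4a972a7ba924ea7b4b58a3d01acc14aaa4ca9a3ed69341ee8ab5a94ab89a3e5497ad9338b272ab7cd2ab13fa2825fba62aceaba29458aa171596ac5a9a3a3ec2a951126d55cf2ad6f1e8aaa92942a8193a8a8baaace6bf74b6528ca0ed7baa95778f56b8953025903ea4d2b4b4b695a8b293cb4da934abaa1b62eaa28afaa250ba529f656ab4bb296ad223bad6e50514b6aa093aaa8fa82daa92b8b4aab595a952aa9314ad57aa4aef51c92caeca9aa94a9e2ad75a5568daaa57b8a822af8a74a512a8ad62df57e0aa8ad867ae2b22308eb6aafa89aba1f9cee8daa98af5dfa299aaae4b821457c4a0a26c3a0e49a2bbfe08a29582fb6dd196a96e26c32bb0c0aba2e8ca81783dcbfa36e2c8a744a8b9e6bceaaa2268a6e50678c9a49cbb0cfc5cf3b39ee8d39e611cbe2e62b5d66366319a27fc9e84ec1bc2b27a7132e0be294a426ac291abe8ea326a8ea2aa86adea6aaa32ab2baada68b2ab56ee96b420bc9fac2896acaaaa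

/-- the planes of a generator -/
noncomputable def pl_d : ℕ := nat_lit 0xffffffffffffffffffffffffffffffffffffffffffffffffffffffffffffffffffffffffffffffffffffffffffffffffffffffffffffffffffffffffffffffffffffffffffffffffffffffffffffffffffffffffffffffffffffffffffffffffffffffffffffffffffffffffffffffffffffffffffffffffffffffffffffffffffffffffffffffffffffffffffffffffffffffffffffffffffffffffffffffffffffffffffffffffffffffffffffffffffffffffffffffffffffffffffffffffffffffffffffffffffffffffffffffffffffffffffffffffffffffffffffffffffeb76bb6b896f97db6f6bb167caef99765df7eed4d1fd77fd13dd77b5d7aeac70aa6e2a9a424618a2e2ac2e44d75722220a024120435c2504161090aa0000000000000000000000000000000000000000000000000000000000000000000000000000000000000000000000000000000000000000000000000000000000000000000000000000000000000000000000000000000000000000000000000000000000000000000000000000000000000000000000000000000000000000000000000000000000000000000000000000000000000000000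000000000000000000000000000000000000000000000000000000000000000000000000000000000000000000000000000000000000000000000000000000000000000000000000000fffffffffffffffffffffffffffffffffffffffffffffffffffffffffffffffffffffffffffffffffffffffffffffffffffffffffffffffffffffffffffffffffffffffffffffffffffffffffffffffffffffffffffffffffffffffffffffffffffffffffffffffffff53df58561ad7e8f7439661d6b92fd709d4d8b78cfeff4541617c8225021604df90025c015604a20e5d04263168ea8a010001b000000000000000000000000000000000000000000000000000000000000000000000000000000000000000000000000000000000000000000000000000000000000000000148944947690682490944e9835106689a208112b2e028802ec22884a2851538f5591d565bdb9e75d1d53d1bb28a8ddddf5fdbedfbca3dafbe9ef6f55fffffffffffffffffffffffffffffffffffffffffffffffffffffffffffffffffffffffffffffffffffffffffffffffffffffffffffffffffffffffffffffffffffffffffffffffffffffffddf765eb7a97a15ae9491d9bbbf209b5d56f7664316b2ed6c969ac20550974a9914a549b66c4974a4b75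acaad2000000000000000000000000000000000000000000000000000000000000000000000000000000000000000000000000000000000000000000000000000000000000000000000000000000000000000000000000000000000000000000000000000000000000000000000ffffffffffffffffffffffffffffffffffffffffffffffffffffffffffffffffffffffffffffffffffffffffffffffffffffffffffffffffffffffffffffffff00000000000000000000000000000000000000000000000000000000000000000000000000000000000ac20a7a9e5281708bc699e2946d028f62b2748730100babe9e837ddafde9fb206ffda3fea9fb5df1a2fbd9ce971575fefffe4ffffffffc7ff113b8b50c577ffc44f456e3237d40f5385ae1dcd89bd389af7661ffc00cc2a9efc2cd55419657e4e8b2b5f034b8b09b1aad175128911b11708ca4668a48140148944947690682490944e9835106689a208112b2e028802ec22884a2851538f5591d565bdb9e75d1d53d1bb28a8ddddf5fdbedfbca3dafbe9ef6f55ffffffffffffffffffffffffbeeccb6fbdee9eb7edafa8aa13b29fb66c47f7bb3d963b914a04c3c6807259ef5326b9082808822d2312241155400000000000000000000000000000000000022089a148568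5ea516b6e264440df64a2a90899bce94d129369653dfaaf68b566eb5ab64993b68b5b48a53552dffffffffffffffffffffffffffffffffffffffffffffffffffffeefaedaefe97eb7febcbffca6b7df6dbf11029453446091132139340478000000000000000000000000000000000000000000000000000000000000000000000000000000000000000000000000000000ffffffffffffffffffffffffffffffffffffffffffffffffffffffffffffffff0000000000000000000000000000000000000000000000000000000000000000ffffffffffffffffffffffffffffffffffffe5b52f7ce045dad5a5dafabad83425228681030289cb286aebaf7aff5fc1f4fbd6fbf2946d028f62b2748730100babe9e00685a904003000d45a08a001018100200c800020001f8e39e4afd048b03dffefcfffffff8fddfbf7fffffffe3ff7ffffffff77ffe2c7efebddf97ffff6c06000000220020800b00000000020100000040800c0102008e880003980031a1f9ffffddd77b97cfef4fedffebf3af7fdffddb7fffe8b88cffe778c7f78d3738f5591d561bc3803040c13c13108885dd1147c26cf3801d83121062701a6febb380017d455084a0765c11774ff7a93675ef27ff7ffeccf645d93b80844c269c46eb5fb3c397f8c80000c1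1040011c535404cc5498a00ab7650bb76ed90ee6dbb52f7b2cc481882296774ebf5fd7fafff7dfb6e2f7ed9dfeefba90899bce94d129369653dfaaf68b566eb1016000110021340000110d6b5ba05eb5cefb52e1a977500d6aad6421aa96fea84b2010a52d198f9bfb8168148014340035948209240eefd6bacbb9f6eecdec6cbfb87fffffffffffffffffffffe7f6d6d7787f77f8d604e326b060d2000000000000000000000000000000000000000000000000000ffffffffffffffffffffffffffffffff00000000000000000000000000000000ffffffffffffffffffffffffffffffff00000000000000000000000000000000fffffffffffffffffffffc04038801e5a3201b7ff6e3ffbfa7bf7e2da1000700900d605ca0b00000571fd65afe9ef2bf708bc699e76b9041e085458054a40f5053450fffffd7fefffbcefbd83fea9fb55e1200001c00000000000040a7d0483079f7ffefffeffff99dfffffffdfffbebe00c0001c000600000001400028000093f1fcffffddffdfee70fffffffffde7ef00c00020000000000c000001980031a1f9fcffffd77b97fe4f4feffffbf39fe89a20810230c0430000180738087288cf0bb2efa9e63fffdfbfffe3eff68a8dd0ce1819ed0a001c039210744043a8ae1fc5197f5d7cf4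e918f7f9bbf90c77df9c81e505f55fc4d6048e6c6e50828d239b54b6c8aa06ed9ef31a4c946f7c6f67d9290289264aa3fddac1100ed80e84c1156d7b2cc68dc822d722b9dab48d6d5ea516b6e264566ff74a074f766c334b2ed6fd6bada3d58942040025ab64993a68b4808a53452dfdedffa7fe77b684c1a95757bd6bbdb29a0461001200c8cf08d2b10532515b6c3dcb56be4dfdde872f2d1fefd6a0ca30d2e841e00426b82b3bf373249e00ec339e059e4be9288780880729fb1cd94f9f2dfffffffffff7e2efb7740790a20000000000000000000000000ffffffffffffffff0000000000000000ffffffffffffffff0000000000000000ffffffffffffffff0000000000000000ffffffffffffffff0000000000000000ffffffffffffffff000003fbfc76000000001a4ad08f1ff8584080120ee7f8ff6ff7d68d23facdcb5a0fc20a7a9c20080b0e68040ffffdff6fe7f7f052b40c9407530837dd87df9f80312025c014604abdfbcfff00e971574061806487c048307dffffeffffffefe40000000020004149ffffff8377edfdfc7401000060000093f9ffffffddffdff98400000000001c10ffffb6dbfbffeee4ec00000380001121b9fffefffffb97f3e0000041000020376ddf7efdcf376ff02eca2b00023600cb4bb6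efbbfe7f9e5591140918ab75722ff1e7e67cf1ca2dae2c9ee0c50638aa13f6185b582c6a49660c11774f06a774ab72fa008041f31bb09f5feed4ceabbe46eb5684966ee89a6d6f3cefbffee3a80004ccd498a00ab76035589faefb1c41356a0011031c500440774ebf5fd7fa7ead36491d08126201102ddffff7fddffb29369653df800036a9914efe9fbf7efc95b48a53110d6b5ba006b446b22d1e5688aff29552df9baef6fe280010000000177556557ffffffff6ba400000000000087beffffffffffecc0c6899005438202f3cbeace10c20b2180929efdfe6e89ffdfb08980b0b08d3fa42c7097c1d10488bf86f5dffdfef72b808b500000000000ffffffff00000000ffffffff00000000ffffffff00000000ffffffff00000000ffffffff00000000ffffffff00000000ffffffff00000000ffffffff00000000ffffffff00000000ffe733fb8189fe75ab245ffed19000022d6ac1d206e7fffe3527e97edc002000773eff734a637bc97b8f680c00f7fd03609c884f852012eb0f570fbf584240983237dbfdf7157080811e3fbdc736caf89f8fffc4779d4e307d8efef0001b01079fbff89800408017fbedfff7280104203bbf1cbbe28042093f87bfff422b80009f47fff750a00040dfeffbfcca6c0317b03ff7b5b9810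01a1d77bfef943240007af2fffb8875822156dc724908228b88fd125c79ca08188ecd9b6ed1041983eeb6ef9340801174a2f1f5fc260067f727f5a1682340428ba507cffa237518b806eaff9fffea28642569dfdd67efb0c400a37f7fba4c406019b54bffd800102336d6fcfdd43f04004abffeefdb60002b5453ffffad80801246ad7cce8b04083100177fbffb48568815ae9fffff43a0080006dffe9d7cc808494bd6a81802a76bdbd916fff64992a434b7c6520552df5eddfd8009840297fffdf77b001104445fb9d01d7ebf010a524177576557b0429480945bffffe820000087befffe1892407b3f39626b000fc2caffb60fc0c339e0019bd3fffffe400000377f7fd449425ea1b5a9042881f7bdf8b702f5ce428509f47f74266d2e900000ffff0000ffff0000ffff0000ffff0000ffff0000ffff0000ffff0000ffff0000ffff0000ffff0000ffff0000ffff0000ffff0000ffff0000ffff0000ffff0000ffff0000ffff0000fff9b3c17f81f80a5c003e492f7ff007f800da005efdfc3158952ff3a3bd76000535292bec0e7689ff5ec60109f79c408f78c584fd5b0360f7f11d71f7bdbb7876370f0708eb9e4aa99b0b0077dfd4503ffe46608fe2b1627e58290cf4b701067c3e0567bfcc0417f8e0180d1ffb162078352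fdc07c3ab093ff97040bfff40009f3e1810afffc180dee2559175c167ddb8e8775a19f6581a1f9db00069769660bab5b4486788d445de4005a7ab238d303260013ffe0049ddfbb9402aec258408ed1c6dec319f7780d3df019ccf5ffec0227ff74005b689442fed1248dfe66207eaff17201585e62f791d0ef3b9df0324a37d7844b7bf49c135019067ec6e732680d76262b079104abbdd18049faa3fd453ee80567d6ed656ac43b374fbe48620177fc984b5848db5ae8f6400bc5eb5ca06df8b0899b7c55ffb4053e33aa9434ed1224aa8260912bdfff100cec24dd6c727df540097f55a9508ffb6a00d6f55101b4905f1fdfa0091ffcc0005effc4034b45b8bd817dff2c0e7be91a1ff4f8013fec69c0482bfc2cac1cbb031fff20059fbd38c7001bf8870377b443ff4b00c60db857080bfffb000ffff0000dfff08c8bb908bbfd06f4000ff00ff00ff00ff00ff00ff00ff00ff00ff00ff00ff00ff00ff00ff00ff00ff00ff00ff00ff00ff00ff00ff00ff00ff00ff00ff00ff00ff00ff00ff00ff00ff00ff00ff00ff00ff00ff0e03617279876ec9dc1a03ef730e024ff565345fe20007a7406fd0780f8db0a76f3e84dd6fe4018b28a8910e5ae0016e037dc4aeb4e3a4d3a2cac88d34bd07b77fda82b85f81fe8174c7e05fd82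fc33f503974499e4f507b50d3167b5c3907d3cbbd67d3b34d177b1dea4282b68062f8afe40412b8f7193fe68ea0adc8bfc19821e718ad983f81df5dacb7e85377124744fd6fe61ee3721d004bc4687de8a83bf1ca06f912394173be27815c0cfb10fd9d894801ff4d5dc146a82a265dbd885bd13b517b97e8a0d3e07f84bf05a0a6b2ff8958d53a77a4dc12d44ad60867668e418a5056426a25a7fccb7bc20c3b00bb9325e9b3e2461dee686823b300a97c18720789c3e0cd4ab423e5a4aebe8b09d351769974207f47452ff5afac13cc8917607425c06cdcdfea3bdb2dbd5f46e056dcc5f783117d0f47bc62407946014c6c94faa9ede44e9d9b3a88e477ccab4a4760aa28978ab6c05c80dd4a4d44e2a8b91af7f28f01df91f731f2856f03bb119ce0f415df52df508f406ff1e7b07e13def05790ea0ffd00dd485a30d00d8f499f007f85812ef782bf057d2bbb408d413556ec16be264fe0ff40fd10df00f61cfb08afa0fd00fb40f0f0f0f0f0f0f0f0f0f0f0f0f0f0f0f0f0f0f0f0f0f0f0f0f0f0f0f0f0f0f0f0f0f0f0f0f0f0f0f0f0f0f0f0f0f0f0f0f0f0f0f0f0f0f0f0f0f0f0f0f0f0f0f0f0f0f0f0f0f0f0f0f0d70dd84cf9648e34f755633710e9c0369c58db5697f6c7e2704ff164f7104e72b59158fadab8b06422a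5f980f97df113934654a1f0fe60684ab089d0bc227633f1ddd682e1fc7ae88cd411a4476b2c708070b4c7a1ef9c647616371e8e0bf52040c72a620130d3c4be659b5e25147077b530a58cfb152978c40d1ca736a931191fb3dbebc019fd8eafe66556b1f3ebc8b29e6e1f929ede14724c30e3f371b8fadd5df2e4a2348785b86c6170c0f0e0bcabe132514cf34ef1d255f8f3e7b460fea035a2fc909052d0d9f1f0a0764a734350643828e8f3d0d06eb9f0e9c828f9e570d6c439f276b2eed29eec323832f0a90694d5b0d8b89d30f2e636b8f1c3f3f8c186e84b7ed0fa0ee0f876b4e1b87856b5f063fa4072a2b157c2b36ad3fa5a5794fa6438e7596c941a9ed2b625555ccaf140f07d0562d81ce3f3367614e3766a445c385e3e47b57069748c3075ba2798aaa0f1da3ef93069f48b9e30e6afc19c0e75e0d2fdf0e168b1dd61c4b36c74d854fb2170d2827089b2e583b0f06090f10e51f4b9ff32b0e2f4f0cdf3c8703194e47268a6b0708a30fd62babbffc87170f61375f1e0e818f8b8f2c192f1f11c3413e25ef3e0b498ccccccccccccccccccccccccccccccccccccccccccccccccccccccccccccccccccccccccccccccccccccccccccccccccccccccccccccccccccccccccccccccccccccccccccccccccccd0d502296d5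2fd38ec8c13b96c8de60bc1b0f3cf6ccf84562e4e6f54c4de7164c9e46ac6a2b38d8ccc8be7cdcb7bcc424adbac4e48c2587cc2c4ade6ee864705a6c9ec9e9bd04892ffb49c0fa51145accd4ce81d715eefd141e3c7bd39a34aea2dca24e971c6f2bcd1c6135d9800ee49a8ab01cc22d9f906a27dae7b73942f9498f0b98af70fa245d29328c2c9c5d36c1dfc69340d305aae167550194d5908bd891f935a9f5c5c4593154e66f0cce448a59b2a0db6a5ba844e76e2af964b4ec36e68188c59ab6ccaa5cd4d6c2ad4498fbd724824edce0d9fdae1ccf0fde4c6e90cbbdc3cdcf9865492dffa2a4cc8e8847c2420c824c5b454844baf555ceb9358ddce1fc45dedc6825fd65cfc59ce44e1dc4c0607b410cb8f744cec58e6a214e6b8872dae8be9d3959ce8eae811c7142f4d478ca7613e4bb4db17484f869912cab8c30df715d6516c57696e74058c5ee4b8c89de6918b5c53ccda4c1e5ad674ce96cf9c9ec6cc984c34ee49eecd84e8ac88c0c42cbc1e8d8c8e484cd8ec5cf4ec09d558b58ace4ceca8dcebcbed389b6cfccc1c408e4d69ac450ecdce869c6d2cccd619cd3ccd14ccb4ceeceecdcc10086b1f79eb4c8c74aaaaaaaaaaaaaaaaaaaaaaaaaaaaaaaaaaaaaaaaaaaaaaaaaaaaaaaaaaaaaaaaaaaaaaaaaaaaaaaaaaaaa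aaaaaaaaaaaaaaaaaaaaaaaaaaaaaaaaaaaaaaaaaaaaaaaaaaaaaaaaaaaaa93a9d15759c4ba5dae31df5c4a5d332f194ca2ac0aaa6c8f1aa52926a0d1698a21c3a1903daaab4a20f95a6993c4aa58af3b3ea81eaa4e363c57d3a0f6d154609c892e88ed4ad684c6461bd222a79d6acaeeeeefc8d4f8bb0d8fa9195161a1b513eb58cce6dcadbae9674a4709034a2926463367f57ca8a6b6eb5a0c3f3c6c4f95c6a97acdb72b51a83c1b33e70ba2c5fdd0520f4a03ef86d4ef0efde6e5c6959dd0eeea6606a93240efbd39ba273224516911223163dfe366f1a177296850860beab2229d9e28864b2af99ae97a6fc64fd3ee50ca220a5204a97a9aa3e3cdcf2aafeeb088c9a6a678bd19db72e9eaebde5aeaaa28702ae8222b7e68aaba963431a822e283a928440aaaa89fd0b76b83be2a96c73320e811ea229a298b57bba47ae2bb75972845a378ca88d4d1168012f72a45717fda7f4e93a5c9ecb07e259686a463449fb93fa617eda2481c7e27b0de1fa9c2f5ddee3daa3a2e5eacff82a31ca1d9a9a5da3aaa50903fa82be23a814aa667028ad83acae92ea8aed83ac94aa587aee6a5a8a8a69b9a96669f3aa0ca3a34c274a4a22ea2e75af5a7aaae2b42d0c1ab2a9e1fcae2a2a2abeaabaa8aee4aa894aa3aaa3a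

/-- the planes of a generator -/
noncomputable def pl_e : ℕ := nat_lit 0xfffffffffffffffffffffffffffffffffffffffffffffffffffffffffffffffffffffffffffffffffffffffffffffffffffffffffffffffffffffffffffffffffffffffffffffffffffffffffffffffffffffffffffffffffffffffffffffffffffffffffffffffffffffffffffffffffffffffffffffffffffffffffffffffffffffffffffffffffffffffffffffffffffffffffffffffffffffffffffffffffffffffffffffffffffffffffffffffffffffffffffffffffffffffffffffffffffffffffffffffffffffffffffffffffffffffffffffffffffffffffffffffffafedb5abe76d663ffddb5ebcf2d99feeb738e58a37cb1dff2aea280daa35578b410b8cf759d80010b8c729920a639949c648dd01fcdaac0085c63630c0000000000000000000000000000000000000000000000000000000000000000000000000000000000000000000000000000000000000000000000000000000000000000000000000000000000000000000000000000000000000000000000000000000000000000000000000000000000000000000000000000000000000000000000000000000000000000000000000000000000000000000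000000000000000000000000000000000000000000000000000000000000000000000000000000000000000000000000000000000000000000000000000000000000000000000000000fffffffffffffffffffffffffffffffffffffffffffffffffffffffffffffffffffffffffffffffffffffffffffffffffffffffffffffffffffffffffffffffffffffffffffffffffffffffffffffffffffffffffffffffffffffffffffffffffffffffffffffffff6cfdbbd11c2df2b50aa57097edc1b4a90a4a15481809bedadbae83b7b8a118006012da2554b92a4fede33b58c811515400a22040012000000000000000000000000000000000000000000000000000000000000000000000000000000000000000000000000000000000000000000000000000000000000050124a54189299c00224a1430d26601148c71a75c834e200d515d7f255caa874bef47308a627ffef4738d66df59c66b639b722fe032553ff7a39c9cf3fffffffffffffffffffffffffffffffffffffffffffffffffffffffffffffffffffffffffffffffffffffffffffffffffffffffffffffffffffffffffffffffffffffffffffffffffffffffeebbfeb4ae6ddcad7ffee287d46fe75afbb3bf3bdfdcd17a5b24129580f202006e9482e00b5c202121ac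459909000000000000000000000000000000000000000000000000000000000000000000000000000000000000000000000000000000000000000000000000000000000000000000000000000000000000000000000000000000000000000000000000000000000000000000000ffffffffffffffffffffffffffffffffffffffffffffffffffffffffffffffffffffffffffffffffffffffffffffffffffffffffffffffffffffffffffffffff0000000000000000000000000000000000000000000000000000000000000000000000000000000009302442ee3d20d4af55a8f68123e4b56f5b5eab7e7f6412524517c48475ee7ff9fed25daab46d5b0121cc4a737eeaeabff5ddfbffedffffbff96fff521ff907e2db76abd5cbcd7ff7ee6bf36ae73a602c236daff88db53b550033520a8bc2000039548da62c9ca5f756d0a5c183025c423896c001955004050124a54189299c00224a1430d26601148c71a75c834e200d515d7f255caa874bef47308a627ffef4738d66df59c66b639b722fe032553ff7a39c9cf3fffffffffffffffffffffff7fbf7f6d870e7f55cce00473ddf3bf9dff7f91af19248cd421001376203242656399146f3b7e778820c6694c42090000000000000000000000000000000000001144014b5192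235280011d782b9018a5044c40c420232e85a4dbed6a7f0dfdff916b7d1ff4a3dfdede53ba66f6fffffffffffffffffffffffffffffffffffffffffffffffffffabf7f77f76d5b07b4affd35759ceedba6ae0c0490958ba6ae055e2b012955c0000000000000000000000000000000000000000000000000000000000000000000000000000000000000000000000000000ffffffffffffffffffffffffffffffffffffffffffffffffffffffffffffffff0000000000000000000000000000000000000000000000000000000000000000fffffffffffffffffffffffffffffffffffff76ff8212dbf776e5b3d0a4306835a68a01089441026fffa6ffbeebda2dcbfdff8ff8123e4b56f5b5eab7e7f6412524417000070207e08364008802400010000004220068060800000697ea4db5ef80ffee0fdfe06f87f6fbbfefbfdffafffbffe5dff1fc7dffffd96f407f6ffc528ffc00db0203481ff8003600840400a08200708082840009c412035c0000171a7013fe75fbfefbc0027fe37f3feff47bdfdffefffb74fe7ffffdd7fff7eae974bef473000001ff6501084225f084220008b4008000000020080040831bd73ddf3b600218e6525063a4d391fffff5dfffff7fffbdeebdd5ee90806e50e6db732bdeffec89dfcdb5800422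000000000037df000000002493bb1dfc07f66df3bdf211b1923bf6bf9d69b35ead5b79db2fd6900dff7c2bdd7aad244c40c420232e85a4dbed6a7f0dfdff9169610c80a2489c8212924420af365bf91ee94d7bfbffba2bf0399092cd607b4ad534006c1cd7f0c08c08d2a4f84b5002ca8a6311245951f3fb6f6a745951faa1d4fed6aa3fffffffffffffffffffbf3fab1fdbf1fdf3e8c30cc1468521000000000000000000000000000000000000000000000000000ffffffffffffffffffffffffffffffff00000000000000000000000000000000ffffffffffffffffffffffffffffffff00000000000000000000000000000000ffffffffffffffffffffdfdc9457fe4a440a2eda07dfd27489d9a4e2f53c29400181582000012a180935b446ff3f6cd5ef55aff6cefc7f5e9460a85580c090ad849bffcdff7fef01fdf9b255aa946d5a0020040000006000380400807824db5effffbffffffa06ffffefffffff7f7f9000000000001804100000000bc0010032d7fffffbffffcb7ffffffff7ffffeffa00000000060430000040003400000141a7fffff7ff9fefbffffffffdfbffeff9148c71a3080000180000200000014068b775b8c7bfefffffffff3bddafd9844b6310322fe020000de200840031bc33ddf39ee82b8e652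57e3b4c4ee9278fba0aa331ffb8e334e6a712f3911af3b7dd1cd37c05d766877ef9edc66eb90c4818875483996b3bdd26c6dac48010665210c4ff3b3b719a6a98822ddc4014b57b6f37280331d782b9018a50001ab11dffcd14b5b2612d5e8e689d3914a5c1ff4a3dfd25c412a66f67ffdffbefdd6fbe000468b2bf23dd298309100002009ee00020540848a499bffff7ffc3bfffbfb11bffffff3fa6e40500000f800509c8480277ed417455781d870597bc85ee0240e020c173cf33eb97adeffffffffffdaddd6eada8929550000000000000000000000000ffffffffffffffff0000000000000000ffffffffffffffff0000000000000000ffffffffffffffff0000000000000000ffffffffffffffff0000000000000000ffffffffffffffff000020236ba8008100a0089017ded3cb76265b0d8ec1d6bffe7eb1d6bd56f3780931b442ff3f409163208f006fdffbfbfb7bf6fcfecba104292117f484f5fe01f2000ca2554992a00307fc7a737e8aea07e44c003800495edfffffffffe006ff0000000000808020185fffefffe7fbefd3cc0003c0000032d7fffffbffffcb7f0000000800001105fcbfffdffdfbcda321c0003630002141a7ffffffefffefbf0020000200003206eb739edef6fffe380d517d7c004940289775b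9cbfffffffea46349448076399dbcefc5980012553215231894c2d6b1ccb1bee82a108a4af84805391fefff5d845cced004211422a0203917fffdda6a2a3dee04e004845adfbbbddffffdda7a997df0894b0ac2493b94e4bf90ff7254c4fe302252258561549335eaddb79db235befd20083d4228550044debd4f55b6e85a4d9ec4068148bd24e969ef37f59b74ede53ba44e0af345bb81cc04904060045d40fc66f6afdf17b4ad5b0008000054fbbf9ffbffffffffc3920004000000000eb77bfffbffffff2a184625228206894d7d75798218504c0c655f8b7bf8e6f3f3ce23e383a9e7db4810c10673229152576d6aaffeeb7bfd4544100000000000ffffffff00000000ffffffff00000000ffffffff00000000ffffffff00000000ffffffff00000000ffffffff00000000ffffffff00000000ffffffff00000000ffffffff00000000ffec60a76b765f7efb5c59d64f960803fcb7fddb59f9fc3c61d8062962b000104b7dfdad123c60c58f608d80418bf3ef93ef83037e3764002da31fcf8c88ce018bf897f77f4312848101cfcf5ca91515c7f1dd7b8024cb62e7fff11f05bf8280ffefff850080004fffffb5fe8400040fec77ffd0070100c0c2fffded40103420fffffff5e00000000ffffffa305406dcde47ff090e000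d0127fffef541801000ffdffffcb0d262006373981555834ef422a883832555aaa99775b988ca726009db9cc0000007bddfe39b78081fdffdf11dc0040831943dee0c69ff0b8e6524000db7fffdb1f0407ba3393e571ccb000136fffffff00802047ffdffe400000087bbfffd46f0000005fffff4b03118248295ffff7f04018020dfeffff3b7e7600025ddc89cb51800c8d7fedfffc2a000002dffffff5eaa5a4435e86016a171972039fdede137405932da3bad266367ffdfe41022100650446cbae02044007cf6ec6b52acde0ec1cd7cfbbfbffa97b042403c6dffffb11800000ef77affe2459510d5e789c800238e1bffcba0011d8705844f7f5fff7b0000007df5fffb1404088a7bf71a6b5266b3f6d2442207233fce82babaebfb48200000ffff0000ffff0000ffff0000ffff0000ffff0000ffff0000ffff0000ffff0000ffff0000ffff0000ffff0000ffff0000ffff0000ffff0000ffff0000ffff0000ffff0000ffff0000ffd3708670d3a034af13af9908dfe21be6260c8f10feea8a9f21a7188c1bcd469ba7cad3fcb220d87335afd0258f0d4068952856ff3b21920cbbe8c233f703f1f9fcd6a2d494ed25bfffc285afd70a8087ffbd0007e0d942e7f00880fa7e62e0ffd0007aeeb20007ff53ca017be0c18fe4168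0223fffe000c3ff3216bfec0038fffb50021fff91040ffb2865cc288ffffc3f4900cffe8f812fff0106ae392998ffdfca174b2d3401772206ce5dca40cbfe100c7fef81006edbf50043ba6260017c733fba5f2fbc4b7ccf8266c01fff3000bff89400bd3c22bdf800d5fffa01062db739004e06147feb2801fbff34195136ff16000ff720047fedf01bd7e72581aa7b9ab903bf0805fff20b48c40f2682257b0080e2dd90e0de2b190c48141bfca5dff74d92f322ddf7fd3154bd5e46aa2dffd884b04321bcf513253be7e18062df1421cfff9ac046ff214036616fca101ffe808047ef0020551fd90020ffe4eb16ae0061fec10057fff70411fc4f310afc6dffa44ee7ffd51eb75112bbba0000fe1d7612c8238c883c3d5e86ff980017ef7e198884ffe0c07de5900ceba900aef7e7c102deff20002fff40057ffe8410fdbb0414f5cd9400ff00ff00ff00ff00ff00ff00ff00ff00ff00ff00ff00ff00ff00ff00ff00ff00ff00ff00ff00ff00ff00ff00ff00ff00ff00ff00ff00ff00ff00ff00ff00ff00ff00ff00ff00ff00ff082f10af05fc284e527f250beeb908dea6332752a139e36095aff1715ebad6ae5143706f0dfc9d821feba473fc8815f1017743798c7b207fa1373db3872e718dc204fc81ba247f7fc01f806ff8d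50887f18214060d6d806f06cfe08b3a6698c02fc47a3d4db027f8ac75197116b80fc839fb71f8c01e32ce00cf62bfd00b62ff3daf8e1fa06fc00f8c9717fb81cdd8be3eb03cce6bf1092700fca6bc29744cff027d017a80bc06c2dc4685f701bd83d1ef2f72103d916fb30ad04e8bc81f0077e0b467af27c5991f304f89f81ed0c8003f8662d2b84ff2b027f8d5d885d9001f85f61cde09b67b94d121fba0c0ff89f438e9fa0fd8dc267d103c2b6f605aa603bc2be68f98e7c5fd0d1947d92c6d4495a4df901a73ff24dfcb32afa4881f4337162a3360156fe8d600cea2bd05bf20ed442539e1ea25343a373dbabf315b62fd41a598c8406e46c8dcfb5a3242fcee1d257f664740db48775f66a1e47c3b43cdd04860e13c2957f348fb11ffb0fdaa3e2dd41b7e03650a0f803f101945c800abd039345d23f793ce342bf69e67f0165fe15701b4f81f317d117f049744e7a43b08fa06dc44dfc02f80bea57f157112f845ef109b17e2a0f0f0f0f0f0f0f0f0f0f0f0f0f0f0f0f0f0f0f0f0f0f0f0f0f0f0f0f0f0f0f0f0f0f0f0f0f0f0f0f0f0f0f0f0f0f0f0f0f0f0f0f0f0f0f0f0f0f0f0f0f0f0f0f0f0f0f0f0f0f0f0f0f0fa2ce0864d83cc471319cc875550eb291e9d1713b51faa88eb1f69c3d875b297889ba80e6c139d7d3e5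f3aaae0fab10a816096664db1d8c15b183e4ff7f0e9c7bf0453e1f1d46179201c786f01f176871a5e62b99d784060ff1870209a7898aeae7870c3c4cabe075c56bd1bf1702f3974762df5351be0d1f0c5d4b8afb8a6f08ccc72b45c7d3103b5383487e2cc66d384eef8cff18273e5f1e7dbe20d1a44f0d416e17570a5f768c9a7dfc9e1f36b01c0788dd4d67828686aae49cb2710f9711b36f14005a3cc3be06277871165c4f0a8de41a0ee4f0d8da7e4d5b708e3f61c71c9f45cc8bc7c761719f8738af86d2ac1e1c5eda2e9f638e1baf2b8f850d71361e39869e2e4a1e0f16c2316b9e0f4d69478e061f1e494f0aee87253c080b731e27cf58c71e0a099f07073705de4d0e2f0be70e2d171ac9e73f91290d370d234f2b8c7d0a061a2f0f8706391e22de1dad9e0f8c6b0f4d0fc92bd5be8f0d0b45c2198f0ed96e8d6fcb85461e175b23df3f86bdef1e352b8c03038eab4617780b1aa30c37073f873f1b06b48d1745e55d075d8f388d8f68372c160ecfcf2e070b8e894e2e2f0d2362c70b94dd1e1ba72b6f1e0e492d43b50ccccccccccccccccccccccccccccccccccccccccccccccccccccccccccccccccccccccccccccccccccccccccccccccccccccccccccccccccccccccccccccccccccccccccccccccccccfcfb66a120f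05f2a470ab5d1c942b20ed24fce3415b199dcd20d139f7a44ef2b5eea6e01dc6eb1ba9b00130aee1706eea724329edaacc0f541c4a3be468a962b0beca3989f4a7d24a0d469c59cd653a685a6de25ec467a64c97eece054621cb2e8ef48b47cf6498eececdc93cb4e0c1a9458698a2e8ddc50cce99e8f0a4fb2ccf434cb9a43e23ccf44e4bf29dae6858fe045cec769494c34ccf867c6724becccceb2df0d420389f91530e5b4cb8a58bda7d5cf79d36466c4c43771e4a4ccc467468a853c6a394a94e85761fcfe37a490933ea958f4efa0e10ccae92c06b74d9a71c4c15c1181ea11988d864159ba6bf635ceb4dd44d3e466ddedd8c4bde86ec2c0025455cceb951ec573a2c6594a484e8cdeccb4ecd84ced4d096f79299d9dcef811360351de8dc4cfb8cece759a4ccc885ef9cc6417b40bb9823524d85fec8c8c9ed2cd3c45d8dfdecca5239f9f4154e91067c6dcc884c1c80f4619d8cc27d10872edcace9071ccccecd5d9a3fd148d5e7a574cc689a5adcc58cf0e765a5ccf6c48e959684add2caa45a0a8eec14d5c8956c5eeb4ac2ccef758c4f49acc4284d44d5e9fccedb8604c898c6dd9ccdc89cdccc8aaeb0accaaaaaaaaaaaaaaaaaaaaaaaaaaaaaaaaaaaaaaaaaaaaaaaaaaaaaaaaaaaaaaaaaaaaaaaaaaaaaaaaaaaaa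aaaaaaaaaaaaaaaaaaaaaaaaaaaaaaaaaaaaaaaaaaaaaaaaaaaaaaaaaaaaaa1c19bce30c59ac5dc2259bbfb28f3c79682c0f21fcfdacec0248f790da6ca773af962cb5449ac3fe81b86a7a146cd3be10854d47eca0bbd17629ca5aa6654bee694cdab8298b0546d99b7aafae83dd5529caa938b93142aac0c4aaf495552b8c9087a8b9e17ed45292ee630a76eea8a4ab8b56e28919897aa9938ebe1606eaaa44eb20f3526aeaea5421e1d3e9fac8b0e79a8a4ae57e1f6aaaae1a14ad906aa8b3e98a9c6bcad2fd63c04b939e3565765c7aabaaf8e146228ad25edb42aab2ea122685a39748722ce0692528606174c8a16fb6514b879f8baabbbb2545ba910aea2b0f26abf55a91c5320597c57baabaaaa4c8aa8e0b440baa99203d22bace6b3636b777ad88ffaa9de25912f9ceac88aad3a4dc9fa6eab6faa8abaa9d151b1a9558f15360a7e8baaa4fd6a976b80baae7626b9164ab2485435133af12ae86e02ebcfac3f29d8acb02e1e99bcd96c3a453a4934baaaaae003aa30b2e2aa2ea4623baba56d76e7aae2aab208eb2ef32a9330baaab20a661aaa6fa99c0a661ad9eaac898a61283b18fe2984bec92c3f9acf35a9b96a4e7a2a9a36b2daf8a2aa22ba2eaefacaaa2887bba2ba08a86ab8a8eabebe828ced8a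

/-- the planes of a generator -/
noncomputable def pl_f : ℕ := nat_lit 0xfffffffffffffffffffffffffffffffffffffffffffffffffffffffffffffffffffffffffffffffffffffffffffffffffffffffffffffffffffffffffffffffffffffffffffffffffffffffffffffffffffffffffffffffffffffffffffffffffffffffffffffffffffffffffffffffffffffffffffffffffffffffffffffffffffffffffffffffffffffffffffffffffffffffffffffffffffffffffffffffffffffffffffffffffffffffffffffffffffffffffffffffffffffffffffffffffffffffffffffffffffffffffffffffffffffffffffffffffffffffffffffffffdf7a7efd3edfbfefcf67efe7df332f1a594ba833deb87bfdbffffff3f7deecf6bcec73cce7220082c20c4325010e229218952200012000011610400300000000000000000000000000000000000000000000000000000000000000000000000000000000000000000000000000000000000000000000000000000000000000000000000000000000000000000000000000000000000000000000000000000000000000000000000000000000000000000000000000000000000000000000000000000000000000000000000000000000000000000000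000000000000000000000000000000000000000000000000000000000000000000000000000000000000000000000000000000000000000000000000000000000000000000000000000ffffffffffffffffffffffffffffffffffffffffffffffffffffffffffffffffffffffffffffffffffffffffffffffffffffffffffffffffffffffffffffffffffffffffffffffffffffffffffffffffffffffffffffffffffffffffffffffffffffffffffffffffcbfeef7feeafb2cc8cd521a6a10c822049010400f76c14d6d6fdffddf7ffce5d92ca96552a8049520111088812586000061130128049000000000000000000000000000000000000000000000000000000000000000000000000000000000000000000000000000000000000000000000000000000000000020858102c12040103098101820ccd0e5a6b457cc214784024000000c0821130943138c3318ddff7d3df3bcdafef1dd6de76addfffedffffee9efbffcffffffffffffffffffffffffffffffffffffffffffffffffffffffffffffffffffffffffffffffffffffffffffffffffffffffffffffffffffffffffffffffffffffffffffffffffffffffff3b6f53e6d5dbe739e6bf054d6bb2bd73cede55eb2aa79daca4de642a0204cc6fbae5301150a34cc65012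9a6732400000000000000000000000000000000000000000000000000000000000000000000000000000000000000000000000000000000000000000000000000000000000000000000000000000000000000000000000000000000000000000000000000000000000000000000ffffffffffffffffffffffffffffffffffffffffffffffffffffffffffffffffffffffffffffffffffffffffffffffffffffffffffffffffffffffffffffffff000000000000000000000000000000000000000000000000000000000000000000000000000000003401108011504d33732ade595ef37ddfb6fefbff0893eb2929020022080031a26d3569aad57fb6adfeeef777eda79ffff9eecfed7fb6fffffffbbe7efde3bffdb76f9dfe6aaca1a0889556259939441ff3f096f7ffb6fff7bfff89f7e5d67de60044ac0a0032111020d9081616040c60c1024900004a8000020858102c12040103098101820ccd0e5a6b457cc214784024000000c0821130943138c3318ddff7d3df3bcdafef1dd6de76addfffedffffee9efbffcfffffffffffffffffffffffddb6deaf765bbbffe77bfbf9f775eeaf76dee04016ad9515aca6020404844a1088e22ea90e6595655491894b0acc2000000000000000000000000000000000000c490ac192a24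18c61940fab2944d428c3121aa14d55862535b219bd5fdfb3390451acfeeaf5cb339afed6598cdbfffffffffffffffffffffffffffffffffffffffffffffffffffffa9df9ddb7cd8ed5f474f9fe3dbbc69f022d96b2a0069f00bb8380a543a00000000000000000000000000000000000000000000000000000000000000000000000000000000000000000000000000000ffffffffffffffffffffffffffffffffffffffffffffffffffffffffffffffff0000000000000000000000000000000000000000000000000000000000000000ffffffffffffffffffffffffffffffffffffadfb57fff44afdffaa4b24cdd15c92020a40000922157f3335825158fff7f76bdef97ef37ddfb6fefbff0893eb2929020000000000006c01282254589000800220030000048038e440043f12edff7ff7ffffffffff8a5db5eb519777fedffffbbfdff7debfe33e3ffb58005b4a084000120002000219e71151f1f380002c0000c18040803383027896fffe957fcb7ffffcfdfdffbdc5032fc303863cff0fdfef7dffc67cfe602d400003e1821170943138c31084d7f5c0d719448fe30cc0063209cb7fe1ff7fee06b9b5c76f9f774e680004388a4a80e6fbe3f989e4e400788c040e799e33f39b211fbfe9526aea5359fdfbfb7bb1cf730cc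0001088280a08400000500046efcd7b40f6bbadeb7a8860625e65956554df7f1ffbfebb618ef3dcdfff2b64dc7df7d21aa14d55862535b219bd5fdfb339045020fe60e1082112ee10410803ceea7e6633d93ffe39cecc004c6732510998ed50fc0a80263b54057a87bb4832712a0b8b0601c2443960fdd2694d5ff960ff447c7f5abc5ffffffffffffffffffffecf5df7fe6cfb3b7db089102d85a44000000000000000000000000000000000000000000000000000ffffffffffffffffffffffffffffffff00000000000000000000000000000000ffffffffffffffffffffffffffffffff00000000000000000000000000000000ffffffffffffffffffffeb0db0897c1299d5d68ce8080bff8e2055fdf9100e0264f4f09e9946480034cddafdbff74d337bbefe5fdfe5beef5b3f7bff11241416d24001663820b1a267fcd18a8127a6ad7ce05314c0a38b6fc00000000512eddb783cd785ae1c46727fb5eac1d7f7dedf670028d80640b9e0000000205b24b5b5bff1feb87e698a5e18ffae0d8e7fffd3db0032602878c0000000020fde057ecaff99ff367eb34ebd032ff323c73cff0e5a6b457c4000000000191ffc065caa876bd2ca5d73bde80b3facf6bb708e1996d844a4148020111fe6029894c36b8f335eab0024baaa4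ac2f7f93d56ffbf5fff9994ffb68aaad554a0caace50e65b5f2ace6dafd9cb5dfff771dd156f19a6a9aa32e76b4a5339fdc200a0090008c2b0acf85aed425056b5cfcc90ac592e6dffd61972fab2946f428c00c6b42b7ae6998ef4df643f330ce1000018c3cea54cb338870c61884d93fffc5bfffbfe83e094ceefccc67b22e2040000e00700f10000307e73e62683bffff0ffffe3dc7f63ffffdd248095ed0003c001c4712a019fb5baa830ee0761c2a47f1b348019304c4824f76efd27a5bbffffffffffef3bbb7de45c04a08000000000000000000000000ffffffffffffffff0000000000000000ffffffffffffffff0000000000000000ffffffffffffffff0000000000000000ffffffffffffffff0000000000000000ffffffffffffffff000014f24f76010000005204a8001fb471dfa80206eff1fd9b0b0a4166bf6a953ccddafdbff40011099e7f0fc7ffffffffffa35019245410049dfe2bcbd571b31002061103264a2e7efffffceda79775c10003800a0064a407ffffff5ffff87a0000011194033a1ff7ffffdfffd7befc0c03000027001040001ffffffbffffb8180000020841e243f7fffefffffff39f3c80000220004000827ffffbfffef779030000000000440fbd9efbb7fbff79df240008000000000020dec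f7dfdffde03130922892f10e22b67bb5beb7fcdeeede0984a4e49b8e71156ebeffcc330903b224be3f989e4e408e77bfbf18661cc0c09e3b35ae737df185358d8f9983195ef04733356e737c56008463220700346ef128ebf9944de2b0acfedcc8ac8b80e080f7f1ffbfebb618c6da32000d49b2382031e11e3e8fbefbd35b219b9531082d6c8abdf019f1ef7d29af4d6000803eeea442633992801f6b333ffb398cdff79daed50f40100000000ffe67e66ffffffff0d748000000000003f6dfb7ffdefffff446038481c581152ebff8ee74060c5a130a60e05ff2fdcc7cf74efc0180b9b67804b2c139e444821ba3fb5f7ffd5f5ce3831840000000000ffffffff00000000ffffffff00000000ffffffff00000000ffffffff00000000ffffffff00000000ffffffff00000000ffffffff00000000ffffffff00000000ffffffff00000000ffdf97f20df9cafeaa4c57ffbf11000123cd97024e766de2f672f5ab36b08000345ffb7dec40ff33722a5d0b0cf6db32490602850093ea4256b5e0f6ac0a0fefe53647dfaba04b7032eef774f658c00a38eecd6d4912eca407cdf9e2001a61887fb5ea81900319079fffffd260080103f3fcffcf1024b5f0200e7fffc001c40100ffae0d0881e26de7fffed981030c60c37ffdf0bf057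e28826f7ffbac038802d8eff367920cc4f7bd9ef2008614fe60dbe6e5fcc6de1980209ecf61af49097eecf69900001cf33fde76adcb001e00820e06b1b983288799b1d7bff8388a4a383b4fffff804080001ee7fff9711460006dffffffe60000e0ace7fff900000420777ffeb906000291fffbefd4800386ccdefffff60880148577bfbedee5b400002fff3ff593a00002967edfff223000000b3fbfffffd40000efcd94150ccf31e6f8abdf3c8a14c00e77e5391884d91ffffb4100400025ffffeffe82100050dfbfd2af0bfb80263a50ffe74e242829ac80fb8b7fffc34410003f49fdff812960c2bb9e4712001e14b6dffce007361c0a013eeebffffe00000033aff7f262502f26f7d842e50d44dda3fa2d94b600eaba71c7ce39ce27100000ffff0000ffff0000ffff0000ffff0000ffff0000ffff0000ffff0000ffff0000ffff0000ffff0000ffff0000ffff0000ffff0000ffff0000ffff0000ffff0000ffff0000ffff0000fff1f7a047f0b6455799f277551e218b709279024e6b6e5d68842f74dfd695c0758c6e84a3b74dd5addebc04c81f86efb6d0022ee6d8e12b56101fd0943ebd307d3766910131262ebaff90001bffb3c039ffbd003db065d967c80419539e278dff600045dbd31a2797fe800d9fefe200f1cc6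0108cfff0059c1f48003bf9444076fdf0109e3fe201e7fe05267ee00c7cd27d20015efa42dad27e400053ffbc81222fcd9845304de7fd9009b7ff97a620ffa6073df8a5bbb7b4dc051c738f09b8f7cc667488fef316e6bb00107fff11920effd640056f8c88f3eb0003fff400b8fb4fe3c07f9b20007ee30006fee902a06dffb20019ffcae0acc12006dcbd4c20736e214698ed8291ffec122b5fb11fccdffd8009bb2d3f8d77cd636992c965502fffca826c4641029e772683dddfa8550b3f5b40052fc625ffc06256dfd000cfc305ac0375e9031cffa400beccdb2c803efe3b0017daf10cb2ff6e70807e8e242d5e080f7fb68104ff408802f7fc6255f28b7e21bc3b2fe0ff69b7c47de48003fe7db825a01f15f2417f3b18bfe02047feea060001ffdc8033af001ffc0b0bbcff932c016dff90009fff0002f7ff0a22bac243f7d8674800ff00ff00ff00ff00ff00ff00ff00ff00ff00ff00ff00ff00ff00ff00ff00ff00ff00ff00ff00ff00ff00ff00ff00ff00ff00ff00ff00ff00ff00ff00ff00ff00ff00ff00ff00ff00ff0e1419f919b455c929db40e319de4116b2e6b64ef4950193fc0f76c0387ae877fe21bc52f840e7d193c15d8ce4e448e839a82cef27e1427aa7902fc82ef2537ffa0f38073783feb7802fe01be66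cbdbe0ac17ab906b79ab6272c1b0c66618f329ef047d8277e20f801710d9cbe5882c33f4d38a8201e8cd30eb7e01fc6f640ee460ffa9e11ffa03423c92fe01cb3603f07dc007e2563dabf67bfd85351cb42c609be01f7c07d1fa26f8bb0bd00ff00d240e7311e06dd32e82ff83cb312c9f8db3254cf561d98223fc05b04ff3eff1d9ff861920d6813a85654ef83fb0bb5b03fcadc397e247b000604fe068712df036de249d8193035a8f024d804bfc097307770cb4a79203f91f811d48b7d7e46d0df826398fb08fe82c730ad326823ff84af78f44be39bde8e941dd97ddd507f403b1eeea39729be04e53c53447b2f82cd3729dc41fe023f1c721b90b8af91d31dbe20cc1d970505007f02dd86b851f1991ba0a80c8fc13304fcba7982ff039b7efeeb2d1878b2e8543f8c6ff07e0b5403c5e1c7e8ea9eef04dd029598301fe5453f04bf04612ea3427f02f70d9bf09b9a7f27f2136d006fa09f00fd42f72ae513c2307bf0ec8ab700f0f0f0f0f0f0f0f0f0f0f0f0f0f0f0f0f0f0f0f0f0f0f0f0f0f0f0f0f0f0f0f0f0f0f0f0f0f0f0f0f0f0f0f0f0f0f0f0f0f0f0f0f0f0f0f0f0f0f0f0f0f0f0f0f0f0f0f0f0f0f0f0f0e318c1e8f9378596fe55a04f30f8204f4341fa8f86d8bd91c5ee0a5f21447631cf4eb97b14bc770f0d6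4ed8f1125058587d727f9c319a271468f2e360dcb2c63078f05e328eadf077c2e1e9bb95b2676fb4c617ec6281bcfd3c1df5e15c1f8e59f04edd5e0c16750634e2e02d05c71cecc9890e4f61c6cd210b19f183fe5b440d2ad90f86f9c11f4c5f1af5998709821f2b2f1d8f55ec4ae69b8c5e19fe5f1183a31f5e08c4b986670cd04b6c0d0f0f0f9f76ef174f2b0503a42f07c8ac1b01a9a59c2ad9c659c793cd0f4f0dce06876fbaa22f1f393d2f0d4fa78e439e0ac3e23b228717034f8996cc1e0e966c4f359d1d16610c670688b62d7f6b034d6c0fcc3d58070d636f10754533f57435638d2767761b468f577488283b75c33e4667f85b16a1fd2f1f2ea3d3b12d88058bc272cab927a23b9e42883b27e741ce0fa800382b3e1d633ac9ceb7cde20e9dd4730c6c8fa10dd4aec70f0d24ec3617fc7bce18e70303cf144f03e761af0e39411f78672c476b2f539b0f5e00670d631f36411e094f93ef0d4c27195e0a67ad8e330d5bcf549f1647630eae0dc1384b8f470f74df1f0f4e55090b2f3f3f0b8da90a5c1f101e3e2d1f0cccccccccccccccccccccccccccccccccccccccccccccccccccccccccccccccccccccccccccccccccccccccccccccccccccccccccccccccccccccccccccccccccccccccccccccccccce237fb5a459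9f64ee3e1a3c8d5a519ad1040c19f7a938ced663d5e7cd5690963295175f6848f79118654d8c1cc7717547dc5dfd46885ee0b93dda16b853488d6d04b2c9a3cc5e9e368095178d966314dd441550b0c9551018e443fe20375ca48ed7fc07c87a23666fd5da9ab24824dd6ff8f94bafcd09951898cd6b134d1ca2d4ec870f461715f96adf6a2dde040f4f94ce5cd14ccda84b8699c251c7a59caa5f588cfe6327e419acca9740ab846acc89cc5dc4e4a6e4a4ea78c6c20d7fde6a99c68fae09d59ab7c056afc4ce6dcc40ee708ccc7ce0076a4f0f442c0c1dc61e05f4fa5cdaca8cc745899dcd5c6daca7ead6daa89ef4ef64f5bcccece0e8efc48afee7c4cfd4ac948661c0a647bec04dd44cfc4c41cc1c5f486ad810687582d4ec31f5f534e8ccc675f0c47c79e2cf8de90842c52472141ce3baa346880dca3625fedccdb7aac4c80b462fcba50d03ecd76386464d1abd84dcddbbe855c85f36bdc49c08ceabf24c938610684d6279dcf5842c44dcaf5974e416f2c6cda688d294ddc45971ed80c52ccfc7c3c45fe978df8c2cc95ed408b4096d4da0dfc8be244a2c9c7cbcc5c4f8ddeec85c406549f95e80b8ee8ccccccaaaaaaaaaaaaaaaaaaaaaaaaaaaaaaaaaaaaaaaaaaaaaaaaaaaaaaaaaaaaaaaaaaaaaaaaaaaaaaaaaaaaa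aaaaaaaaaaaaaaaaaaaaaaaaaaaaaaaaaaaaaaaaaaaaaaaaaaaaaaaaaaaaaaab64e2ace3a75225cc30eb28dab0326e832df0385cffb43bd9b53dd332e10c464a8e3338ad561e555e4b511ac53563365226eaa09379e65394a3121036f133046b93f3b83b1adde4b63265a11e9a16fb2975a2b6afe605d5ef714d946c326a39b4ff118f2b10d95c9034cca02716bba9a3382ccbbb37f1945235c86ee9f2baba4875cc344c8a9555da3bc93d62aaea6aec3a90aa89660b74ceaba9be41b2f17bee72d38d8a64d3721ef62eab28cea86f3ac1aac6ca02e35e4ad180b89b15079d96e6f68cbadd3b3e6aa8eaab8aba14c3134aa69d1c219cdb68775d7bbc8e2aa47687a230e6aa2aabef51a5812aa9932c10d2ccd9a18e8b631acaeef26e4aaae3a8d802aadba0fce0f2a5981aca8b6b9a2822be2a4b82e2aa8d9ab1b79be39ebee694a88aacb2a52bbb6a7829ee2a38d28a8e87c18e5b2a2af6b8a8646da6b30e34b6b38274af843b86a71a9a299eaaf8d9e9422bdb2507babdf0da87b63097a1b0920da2ba17aafa804f2caa3468ba7ad5a976e9899ab6826bf5e8989ab6af8a9126aea74bb0aa42989d28b35a2a16abda0ab85a976296aebba8b4b4ec68aa2a923b8a3eaae2bae38aba2aa62889abeb7682c9e28cbaa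

/-- the planes of a generator -/
noncomputable def pl_g : ℕ := nat_lit 0xffffffffffffffffffffffffffffffffffffffffffffffffffffffffffffffffffffffffffffffffffffffffffffffffffffffffffffffffffffffffffffffffffffffffffffffffffffffffffffffffffffffffffffffffffffffffffffffffffffffffffffffffffffffffffffffffffffffffffffffffffffffffffffffffffffffffffffffffffffffffffffffffffffffffffffffffffffffffffffffffffffffffffffffffffffffffffffffffffffffffffffffffffffffffffffffffffffffffffffffffffffffffffffffffffffffffffffffffffffffffffffffffffee7cd9bd7e355af9cfcd93a6fffffe19eb5defdafcbbf3ece667fde6dab374032d35a28d4b5630c35a2a00006515500a54a610000e64a0041a52d28a0000000000000000000000000000000000000000000000000000000000000000000000000000000000000000000000000000000000000000000000000000000000000000000000000000000000000000000000000000000000000000000000000000000000000000000000000000000000000000000000000000000000000000000000000000000000000000000000000000000000000000000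000000000000000000000000000000000000000000000000000000000000000000000000000000000000000000000000000000000000000000000000000000000000000000000000000ffffffffffffffffffffffffffffffffffffffffffffffffffffffffffffffffffffffffffffffffffffffffffffffffffffffffffffffffffffffffffffffffffffffffffffffffffffffffffffffffffffffffffffffffffffffffffffffffffffffffffffffffff7d7ef911f3cb6c46b098f03cc6d8689021a0e0c184ffbf3fdf0c6f8fca31ee632df13c6061240120c59f1c84831300308a00400000000000000000000000000000000000000000000000000000000000000000000000000000000000000000000000000000000000000000000000000000000000000000001183264281caa50630326c59000001e614a2102503440c1319980219254c8bfcd2ca5d72b4a9cf3ca5d5ffff9aeaaff5ab59effff19b5ffbe5ad2d75ffffffffffffffffffffffffffffffffffffffffffffffffffffffffffffffffffffffffffffffffffffffffffffffffffffffffffffffffffffffffffffffffffffffffffffffffffffffff7f5ffbffbff1aedbdcdfffeb6d0d7df7df94ebea518fbd1030080404d031090cfbec008a5443108804c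618844800000000000000000000000000000000000000000000000000000000000000000000000000000000000000000000000000000000000000000000000000000000000000000000000000000000000000000000000000000000000000000000000000000000000000000000ffffffffffffffffffffffffffffffffffffffffffffffffffffffffffffffffffffffffffffffffffffffffffffffffffffffffffffffffffffffffffffffff0000000000000000000000000000000000000000000000000000000000000000000000000000000000828106ee0c3493b94f670fc33927976fde5f1f3e7b0040c020f3907035ce119cd20ec39f9edbfedf3a60e37b7cecffcf75ffbfffffffffffc5f9f9527dd975d8fe5b30337fdfff071bb8d1e65e87fcbc33ffcf994fe7fdc0ce6dcf91a3b198462e718665080001c3073261a940319c0484c02001660004001183264281caa50630326c59000001e614a2102503440c1319980219254c8bfcd2ca5d72b4a9cf3ca5d5ffff9aeaaff5ab59effff19b5ffbe5ad2d75ffffffffffffffffffffffeeffebfbb868e5f37aadfc36bbbeb7b5bbebb8a42b7795fa5018052ae202a42335155df529525214a3225480a5001800000000000000000000000000000000000080a00400400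e51242320001492f28208206b1415ae7042efcff7fbfb2fcef6f30413ff75abbcef77fb39e77bb7fffffffffffffffffffffffffffffffffffffffffffffffffffffd7bcfbfffd3d13ff28f0fc1fb7fe9e1001bfb7ffe0920014000007f84000000000000000000000000000000000000000000000000000000000000000000000000000000000000000000000000000000ffffffffffffffffffffffffffffffffffffffffffffffffffffffffffffffff0000000000000000000000000000000000000000000000000000000000000000fffffffffffffffffffffffffffffffffffff6ffa82ff3ffaf9e5fada26108a14b6280108004100ebcf3e12feeacbffbffdf770fc33927976fde5f1f3e7b0040c020f200400002008800080080005baed00000001800601ec01033bf74ff1fffc5bfffffff9ffefb7fffbffffd902046ffeffffe3fe7f81fcfcc503266f718020f200000080c0021a0c002080037fffe001800060617c060db513cd1f6013cf260ffdfffeb87ffbddef1fefdfb800007fe7fe7503f974c4c3fd9f802ff374eabfcd2ca5c601000421c00c5ffff08622ff08948e80fd0020fe2e08408312b6bbba955a819455400053b403d5effbf5e0e9ff713ebceebdd5eed14475bd4886a05afe7fad51dfd5a9c00622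000022585e15490894b0acfa6de71aebf99d5debbaf33969529525214a30cc9ea0580604ff965b720003ddaf7aacb206b1415ae7042efcff7fbfb2fcef6f30413fd150ab4ce779129a603b7d01ffabec43fffc5cf7dffc131884480a621120100057848448003e63662002c2ec00d70f03e0480161effe4048001f6dffebfffff807bfffffffffffffffffffffffebbfffb93c4e5fa0117ffc0001c0000000000000000000000000000000000000000000000000000ffffffffffffffffffffffffffffffff00000000000000000000000000000000ffffffffffffffffffffffffffffffff00000000000000000000000000000000fffffffffffffffffffffd8e47fff2fa4c0a0b4a57d00c015469a152dc8a335e900d05202ff827f1038a9dd6ff5f7497b94f6f5fd1f6ddfc34e0a91fe0920828390409fc337fcc1917f646c31f9e80520f280060210400610800883920fc1fbfc13ff67efd83becb7fffbfffff80a1b898600102008038000000af0d1008c7fdf01dbff7e7d27fd65f7ffdfffff8113e3c200408002800000b4138d0e4013cf26097bfefdba5ffbddef7feffffb032f9e614a210000013b2802603cc00c8b114220cf5afdfffffbdeffffe325fd2eaa9052219cff6e00207e2808008009368aaeb7da8195ddf6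ffd7ffbd6a547d7bbfd8552efdd4441484a00291ba5e9526a0affbe070ee686ef7ceeeaa20ad6adad6b084d223450304131d6a48009d55210a5b806b770521235f7dfb4a0066fddbe532423ffff9497f2820013b5a95afbe621ff7def7ff4e87de6c00013ff75a18cef00fa104178003ff005d9ffe24005c631003d7d887ffe001c01fe07f00707007f029df9ddfe3e3fe00ff9f03e07ff1f3effe4000001e6d9fc0c7c3f0030c7edbfdffe100080005f88036600046c3b1a05fee8003fffe3ffffffffffffcfff48f9303f0180000000000000000000000000ffffffffffffffff0000000000000000ffffffffffffffff0000000000000000ffffffffffffffff0000000000000000ffffffffffffffff0000000000000000ffffffffffffffff00000271b800000100212d0057d60dfeabd65ead2377cce17ff2fa9dc60632f1038a9dd6ff5f40071800085ffadffbfb7ffef71fc6b01311061b01923c35cd555009a1fc60652450e31ff4f3737cece10761882e50670e1205bfffffff9b76a800002000001020067fffffef9ffdfc0343cca9c089002625b0dffffff7f3efde4000000000000001cfffffdf7fec3e632b702403120030c262ffffffffffffbf06000008080001065beb5ddb3f7ff7bd53199d300040a014f72df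5affffff9cd20a5108d20b51554faddcef80911995b1905a92d4447a8aaeb7db8db188adaf811043d5cefbf5ee37aad6c14311422e1443d5cfe3dda0a0dafe6022404844b5ccb9dd2abfdda7a14549800350affa7de58f5ff6f7f7214a5bbb0225b25c5e15400cbff3d80604f55be68df284224085508324ebd47559662ef8217fbf0304cef045193f2eaf5cb3177fa19c073b7dfff0098c422403a39cefffece77bb7fafbdfe01f80000000000fe9df9c041ffffff0ef9f03e00000000fd9bfdc401f9e7feb383c0804b3820bfd400d31f89e38031014dfffcec3b1be5fee800327243a4dfff8003e07000b706cfc0fe7ffdfe3e77470c400000000000ffffffff00000000ffffffff00000000ffffffff00000000ffffffff00000000ffffffff00000000ffffffff00000000ffffffff00000000ffffffff00000000ffffffff00000000ffff9e71b806ad58dd16cb94ffc9e2367a33a82d1bfdedb2291d404219f040221083f1e11e54fd93b94c6a5d43cff27b5a395916184b1eff0ed31fb9b2f53c6204dbb7ffffc34000c0d26bef62e30b79001577a8cee01a53c37e4784a1dc00f67ff1a7c98470444764dee7fd38023b1cbe33093066080429703df779dc1d80093d7fedff68460c81cafffff6d0ab419cd00be30c88003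0f0649ffbf66202000078b7fef7514f8c065beb58b7e5834d4d28c069b319e5dd15bf2df58d32a4abbfdf5ac57280279dd225ab786819cffffd5ee0840000c33ceed6aa57c24554900055b6ffedc0a8431ce55aafa68aaa904056ffffffe8006002fcbffbc40000014ccbfff4b52900000afff7ffff4030011059ffff990441c050cc7fff7b65d74000d3ffff76104200a8dbdf20ffa94220003cfe7fff5faa6001ff7feffb0b178209cc4117ff60a10000ffb4cf8178003ef0fe26101d003a3fff103d4c6700007fe3f9fe07f578484480fe9df05dbe1a1fc0f576cfc106c0061cfd9227fffe100601ffffff00000032e43fffcfff761c10003dddf807ec3b18184f5e001f8da3db49e024940930ffb776c8c022638b3fcf88b8f39ff710800000ffff0000ffff0000ffff0000ffff0000ffff0000ffff0000ffff0000ffff0000ffff0000ffff0000ffff0000ffff0000ffff0000ffff0000ffff0000ffff0000ffff0000ffff0000ffc59ed581295ea633cc095e52f1e84e790254893bfde01e46629d73886b8d3b37b95cf6e20676a7da83455d7b0a49854107600f9d6f0ba0d80f09c4610af1be6cda07fc619ab881f2beaa0cde9f9c66b0fec40155e4e2410031207b0e1a40e3ff9e38377e920046769d581af7bb78bc7833d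f02b6f8df21301dec862befc009bb7e50409ff9c041cfdcc9a9af3e8f9ff7df3f209df8f3e061fdc40999a3caa098f7b364a6bcc807ff800550a5e943f0ff20078ef940919e22e90023dab4a430fca53bc8ff279c86bacd89cdad1ffd5981fffb20313b7c447ff80024fffa000575b23d523f410d3ef548906bff54051056ff540017ff4002fca7e81bcfd6a5ccc177534ac277408affdc0004bfff4110097b4066519dd4f4cd8695849a6094a0d3fde089ef9f0eacfbdbfd8856b07528bcffc5a0a0ff9043ff020084fb300019c4ea9b829f4a8821ff300019fbb73ee0fbfee780bfff0e31f03eb1ec3b7f764207fef80e876f7b00ffe2001dc1fd0820f106303ef9041902fd9a26b801e90603ffffc04830c732fc0bf9380009e34f883ddc0ffc53c4021def5bff0dffe380681fff68003ff8b70837c0dc619bc1c1b17c312239ef3f2000ff00ff00ff00ff00ff00ff00ff00ff00ff00ff00ff00ff00ff00ff00ff00ff00ff00ff00ff00ff00ff00ff00ff00ff00ff00ff00ff00ff00ff00ff00ff00ff00ff00ff00ff00ff00ff3a026b405807de3908894fbcb14730ecac7f7a1f30a4918bc3c2f051e7f631b48f280b8351727f64333acc2fb73fc00ac0bf885fa2e1a9102b257c190ace2747e9b9cb185986d1f0d05fc01ffc7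bc1b0447739d6fc1dd30b4bb403597464f64069bc37cf6fa14663e38622d16504fff40858f7a0cf04fd73e21b4e23dd3fc99a2fbd4097477341c1e23039f6518e04d4cf00bfca9ffcd86e1a3b3d988ff44719f87c08ff093206017e9d10fe82a51644df0dc206ff909ea837f02357c80db02fe0ef41ff2feb56bf706bcaed0f90a9c19f8457755017e46a07d8e4d8045a005f05ea1caf16aecdeab2447bb1a96f04f63ca8f797d8f507fc183e12f7504b6f1b9c2b75d650978af423ab4aba20a72179c4b8642911fb51aa46b2a4778d7f03d3c00acdff20b8f9da06ca54568e8fa07c32ab1db0547f01effc0700f4df4c18f8116c70fd947e20f76fe9197f00cf90fa992ba2bf20f730ee007e137b01c9200701ff0d77f00400fc042f1dbf02f6e0f7803f3ef83ff022ff11c7c3c110e703fc003ff07730fd03fbc6e7e07900cc483f218fc0bf3be4985f01e0cdff93f4201e0097e03f07480c373f227d9b3ff039fb08bf007f48df00f0f0f0f0f0f0f0f0f0f0f0f0f0f0f0f0f0f0f0f0f0f0f0f0f0f0f0f0f0f0f0f0f0f0f0f0f0f0f0f0f0f0f0f0f0f0f0f0f0f0f0f0f0f0f0f0f0f0f0f0f0f0f0f0f0f0f0f0f0f0f0f0f0e8394a0ad5526c528a763acdfcc4a4e0b53c6d6bcd74aff2fd2fe79413e8e6df21e4151a00cc75061f2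ef32325ca46f1c0e80f5a33f6f7c80a5033152ffda51f5fcfc4161871c9d3e045a79920e0a06c593cf5e7740a5bd48d639b54c5aace3885b00ea11ebab06473be06e5d2f34376b49731cd3f22a9fffc50b62821bc0491e1b2769cfc5cf1c3b2c61888fa0879f429e36df3fd0a23e9c277c3d5f40947f73143d0e0bc34f7d8f177e481e2e0e8401c9ca8d62c68d53b34ce21f5370888f31de9b8d02e71e22c9249e39d9949ab93f06845b077341a716725a07785d5f559fcd1ba3b54bc0b6e177df0749364ecdce1ea4a7562d0f6e0f1782b18f861701b61ebc870ea90e0dab9950494d0e0f0ea95a4dbd683f081d18f24fbbe0c30dad0babc49f0b0f6d0b1c5834b7836b45a7bd09e48ece560d1f0f3f0f4fa3bf0f1c3b17c70f27479c178e414a174f0d170f1212370f0d8c7c0f1f273c3b47130b184f1c0f34808b0f0f35c16bc3cc2e7b0f3e830f0f534efe2f2e21d7ff0fce6f203f2308c74c8c2a20f26f4f006f8f336b2d27f20bce0fb9850d1989df063abf911fa931670c6e0caf4f8e06072f8387833f4b2f87078f0f0ccccccccccccccccccccccccccccccccccccccccccccccccccccccccccccccccccccccccccccccccccccccccccccccccccccccccccccccccccccccccccccccccccccccccccccccccccdbe2c39b466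e2ec1a898c16c9ee8d086aa58fc9147b35ae8ecfc896985d8d632be07c54deec2b085d23c0ac98beda8d318c1cf44f5dde54e8d22f4c55cba0e1cbd14f409e00d74d8de422b0552c6f1db0ec4d337ee5077ce369342d7cc8393db4568ad51cc96cf6965a904e26cf730cd44b537a71df41aac1363b52fb0431b8b43bdeecdcb6a8daa6fa855c4e505dae3e213fbeb9380e0192b803b2197bb14e8744f209ccac4c938ed2cc0f94b8235f637e55aae28e3d99c26c96de762cf263c96f58ceca9c588539a7f1e63c0a8cf834cb556c80bd0c8451cf35e2cc85dce5ec4e48223ce8694499cb89a4825859669c9893b5984a4c38f8cf1bf26b5c802bdd103c02cd696daedeb38e03ddc94fcbc9c6eabb0bf4c28987ec5e0b7598ce5c84f118d5cec8e88cd4f5310f51fc9444efe7fd9dbdcdceedc218ccccd8f6cdce088536c0e2dfdedc48d8ab6e0c4dd6ccdc52cec8cd420098d8c6d23484d3ccd66cc34c68c8c0ccccc3118f9b2eac66cc31c3cccce8cd8f2cccfbaa70cc3c6cf8f4d8c6b4bcccc95bc27e48c4ec4f08c4c83e49c28dcdd5d5cff644c4c6a0ee4dd55c6988ca55caa86e4197982f707ed0b04cefccc8cecccaaaaaaaaaaaaaaaaaaaaaaaaaaaaaaaaaaaaaaaaaaaaaaaaaaaaaaaaaaaaaaaaaaaaaaaaaaaaaaaaaaaaa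aaaaaaaaaaaaaaaaaaaaaaaaaaaaaaaaaaaaaaaaaaaaaaaaaaaaaaaaaaaaa98d63ef785a8e4bb0dfa67167ac2ac00cd7edc6ef6233c5c0a488e594d6a89e1fee783708a550d952922447aa1d15cefac042d50fbb69b9d61ba609713286c299cb3a24d1229fba50e7eba824d31ad1266268b3ca93f2b92ad809365fe2294ae36ca5a17b890ed4baa75a0c3eaaa6a62665aa25d2b8e51dabaa6e6b72ab8bbc9a938acb3ea286b5e495b2b0a08a730a65faac683ab6dbf487b6a82eaf926c82c6269aed3ed6bacd0c908e236aebf41fd8ed8a4ad11879bac97aedbb64b0fd69a4880e38a26ab7e7d88b9b5a5e4b980bd2de93caaaa5ee01f6de5f44dab0eaeaae687e26d95f81b288821de20e22ae44693f40c3772a8aba9a3568860a80f876922b9938aa8a2bc00c0eaa81f9ae38af61e2be882bbaeea8d2df72e635a62ab8e628aae3a88e4e2ce0881aa9ee60f2828a90987f9ffaeabba3942aaad798aa396bba6584221e39baad3d8845aaa9b4aaaf242eaaa8f95e65b6999a2ee2a5ec846abaaa86a82ae2aa9ae8cb72abab46aa453aaaaabeeacaaaafb5112aaaab4abaaa96a1aaaaaba696eb5a64aacb6baaa68a55a52a692b0b69a28d64b2b3369cb99e9a0ccea339a9a66b2b6d748a4a512eaa4caabbaea8aaa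

/-- the planes of a generator -/
noncomputable def pl_h : ℕ := nat_lit 0xfffffffffffffffffffffffffffffffffffffffffffffffffffffffffffffffffffffffffffffffffffffffffffffffffffffffffffffffffffffffffffffffffffffffffffffffffffffffffffffffffffffffffffffffffffffffffffffffffffffffffffffffffffffffffffffffffffffffffffffffffffffffffffffffffffffffffffffffffffffffffffffffffffffffffffffffffffffffffffffffffffffffffffffffffffffffffffffffffffffffffffffffffffffffffffffffffffffffffffffffffffffffffffffffffffffffffffffffffffffffffffffffffe7fbfd7b8ce90fbd4a3fd739db515efbbe73b517a6b7f6faafdef6b569270430e99a311a0263de09a399a04b14cccd85134ff881c00001e9c9189c0460000000000000000000000000000000000000000000000000000000000000000000000000000000000000000000000000000000000000000000000000000000000000000000000000000000000000000000000000000000000000000000000000000000000000000000000000000000000000000000000000000000000000000000000000000000000000000000000000000000000000000000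000000000000000000000000000000000000000000000000000000000000000000000000000000000000000000000000000000000000000000000000000000000000000000000000000ffffffffffffffffffffffffffffffffffffffffffffffffffffffffffffffffffffffffffffffffffffffffffffffffffffffffffffffffffffffffffffffffffffffffffffffffffffffffffffffffffffffffffffffffffffffffffffffffffffffffffffffff859a9658b492d4b54aa52e94e0a5492a2b246034ab52724baa890ab7dd168aa7aaa6fb913560ae61554a8f904ae8302f1249560a502a0000000000000000000000000000000000000000000000000000000000000000000000000000000000000000000000000000000000000000000000000000000000000180402847316f042b5c028c624aea104418c4ae8594809055021094a96d8fbcf1665cee5fd9c21f65c665fb4eb33327aecb0077e3ffffe1636e763fb9ffffffffffffffffffffffffffffffffffffffffffffffffffffffffffffffffffffffffffffffffffffffffffffffffffffffffffffffffffffffffffffffffffffffffffffffffffffffeff2eff5fe7f876b7de32e3c65ff9b36fbf96eddf66de57f9828446703c0288514694a226f0002884806f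794420000000000000000000000000000000000000000000000000000000000000000000000000000000000000000000000000000000000000000000000000000000000000000000000000000000000000000000000000000000000000000000000000000000000000000000000ffffffffffffffffffffffffffffffffffffffffffffffffffffffffffffffffffffffffffffffffffffffffffffffffffffffffffffffffffffffffffffffff000000000000000000000000000000000000000000000000000000000000000000000000000000007a6569a74b6d2b4ab55ad16b1f5ab6d5d4db9fcb54ad8db45576f54822e975585559046eca9f519eaab5706fb517cfd0edb6a9f5afd5fffffadeffcfd92cf83d2dbfb5f571bc60fb7badfe9cfeba5b4fdfffabddf7d3fcbdc04569f500a160914425750464d49060a20a350c18e460400c405223200700000180402847316f042b5c028c624aea104418c4ae8594809055021094a96d8fbcf1665cee5fd9c21f65c665fb4eb33327aecb0077e3ffffe1636e763fb9ffffffffffffffffffffffdb75ddbd975843ee519bd3e6676c4d736d99986426db2d577a940365db81a606808cdaabe6d3336cda91348166ae100000000000000000000000000000000000100d100a01807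894821cd1c39a0064c90406912209921a8067d7bb98fc3fd77aeb96b5dd90fffd77b7f9086bbdffffffffffffffffffffffffffffffffffffffffffffffffffffff7f57f793f4ffc9c7dbfe33795f27ffc6087801f8089fc008fc0894f007800000000000000000000000000000000000000000000000000000000000000000000000000000000000000000000000000000ffffffffffffffffffffffffffffffffffffffffffffffffffffffffffffffff0000000000000000000000000000000000000000000000000000000000000000fffffffffffffffffffffffffffffffffffff80a808c1fe2240813e1515c2189d895592e7cb00030fffffffffffdffefffffffffdf5ab6d5d4db9fcb54ad8db4557400000000200000100000801000000020402201120900092489c10585b52dffbdfffc76dbbfeffb7fdbbabf6fdfa6d6db7bf3a3f5f6fab4205eb3682ff7633b229600eb00940e01128853800a041c55c5c0e382091fbcc2be2d9c9550e8e421dd6afc67fd6fc7fbde8fdf7febef1c575ee7eec597ff9655821fd6bbedafbcf1665cec1d1100090500401008a022000880003002b56c8040404400005f6666c4d3e81333b6159cffefbbfffffffdd1ef77fc7fffffffeefbe6679bd924d2a8856bfc9a247e51f864620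000000008822100020011004fc80f7400d7cb59df77e14c4db6d3336cd29aeddd0b4ffc7cfcd37cdff79f806ff9a686912209921a8067d7bb98fc3fd77aeb94a5c500dbf037b4680001b07fbedf71dead93f877772b888fbc04201877fc8004114802ff0001d3a81bfc0b0036382401cc86a0d80039f787fe07f7603ff703f76b0ff87fffffffffffffffffffff1bff9f1ff1b9b7e79a018584d3628000000000000000000000000000000000000000000000000000ffffffffffffffffffffffffffffffff00000000000000000000000000000000ffffffffffffffffffffffffffffffff00000000000000000000000000000000ffffffffffffffffffffff0fb673fd9a00007ff5ffffe07ddbf7fd9efc00000000000000000d32007a6569a74b6f2b4ab55ad16b10a56daa2fe07e3c2a52720baa8bff6d7bffdffdf7fda46eca8f519ea000004020000600000000000085a529fff1fffe76dffffaffffdbfabfffffd900400000000400000000a0041410089cc4ffc9ffb4ffffffbefff7aeffffffff880000000400000002a200808450e8e421ffcafce7ffffffebdfdfdffffffffe4418c4aa000000688a040028441250430fdda313e6effff6ffffffffff333127a64b0077e3de820040684400005e6766c4dbe8333bb61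5dcfeee624268a7be3fae642f999893b29d005d9b65e6d32f577b940421db81be0f7f532554192ccc93046ec97e8851eebfee6580164b599a6683266db0521aacdbff0d320ea183f895821ff1c39a6164cd003c4e9df6694510fcbddf67cb55237a2206b51d90ffdd7707d9086a0d81c963efff527c0e201728feabbd5b27e100001c79c600d900271e80a92c6c0fbff63877ffccceffd89ff9f787fc00f360066700864901f848fef80f041f0238ca9c07fc13e0e00e46481865fe7a7b2c9d7ffffffffffb9fd35f9b980e50d0000000000000000000000000ffffffffffffffff0000000000000000ffffffffffffffff0000000000000000ffffffffffffffff0000000000000000ffffffffffffffff0000000000000000ffffffffffffffff000000f0498c00001c9907ff7f73ff9a0000006003bffffefffff92e7cbd3230fe6569a74b680002200000002ffffbffff7be5f72a52720a0002f54aa2e9555a500252d13544aa755fffffddf505ced0e40000400585b50dbffdfe7e76dff7d78000000000000826ffbffb7bf3ffffb52000a00007d0080484ffe9ffb4fffffe7800000000000000777f7f3effffffbf33bf004011f8e1c421f7fffce7fffffc3b50000800000000bbe62b55ffff80f97f021095ec3240430fddf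393e6efe21760c625eb46cccedc59b4c0b800a57de16346763fb9fee676e6dbd8c208000040258bbbfe7fbffdf1399b138010000011923ffcfe3ff7fdee856a0704000018091b9dfdf53ffff34c2008827e11104fc93eee7f2f7ffd9a66da6e20068129c00910ffdd3b4ffc7a94ae9c0008605e9006042297bffbfb5f9063d63b98c0b50bff366b5a3efe248fc8b7f9084bbdffbf5f67da00100188a8d4777443fbdff177fc8004300400000000acfecc6fffffffff73c00002000000006fb93ffffdfffff70371220e007480f8ff37ff23c00460f8e40063f07fcffc7865fe1838081c56df5286a84ef02ca06467f1af2ffb5fdff69420220000000000ffffffff00000000ffffffff00000000ffffffff00000000ffffffff00000000ffffffff00000000ffffffff00000000ffffffff00000000ffffffff00000000ffffffff00000000ffdfcfff020003e0dc997fff7f000005fffe026103bffff8d89546d1834000007bfffe58b495efc8954080000fffff7e2be0460854ad8c40aa8bfffdbff750000d5b4fbf7fecae740ab5700d8aea362f89b6a9b5a405a50dbff1a03325400f2b7ff95bca40020826fffffbeb000400cadfff7fea1f28009a04ff974b44080b01d6fff6af000128007f7fdffe65120040c6bcffbcdf00e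ee821fec07b46216403d0aff7e6624aa0018ba738158594f2fbaffde009ad7fdf33ab45530a42c8dffe5d314190005fddfbeecb30301c0e917f2260443a00585cff992c37d933b61500258bfbe3d0184020beeceff656684811963fffff040082117b95ffe0000008417ffffaab04880431fff77fe480104e893efe7fd50342218827bbfd36db33420075efff7e1180756a7de3ffff856060045d63bdfbafd01280fcbfdf8034aadc85a66fff1d91240940fa6ca5210001c8639c04af8309889ffcffac015f001ebf93fffbef4c00ff0000acffec6f0cb900008c3ffffffdd800006ff93eff04003998fc8ec9010043817ffffbe02138ca9c00e7ec7fff798000009bbffffb24812e90dad61705603ff67ee7812c2d04f938496bdd99f694480000ffff0000ffff0000ffff0000ffff0000ffff0000ffff0000ffff0000ffff0000ffff0000ffff0000ffff0000ffff0000ffff0000ffff0000ffff0000ffff0000ffff0000ffff0000ffff0000fff300053fd907f480ffe065ed29ec6003ffe18626401ffe7c0fcd007bfa97ff80073b276bba50002ffd4921d49a3034f5a001f4abcbf7308408afa5ad5b0699b60b51195fff80021ffde6001bff74400b45a72985620f4c4a94022c7faec4309fd01c26ffff0494ffcba44adfdfc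015e4de8b4604ff3f90f3f76801d2f74940bbfec1007fff8ac19a9b8043c80280031054f0f567fe6807addf6b03d08faaa499fcca10dbe1036cbff87e05707b0e08451a5fef5fc4809ffec9dce9bfc63e2608bb9f2399b6bf43fe211160810fff0031577f995dd82004ef794098bd8bbbf9af813d809688c009ef962571963bf400f9ff52b06b81fb5f8349acb174ced554e0532431f6e880167fd1eebf309e4039c8223bec37624fe924e80cf075fdd0b1ec030f767dd0e0837afe2bbcdd67c690112f4800fab780e0f4bf9c85c206103c4dffa400ff2a4034f07fc80073b5506cfddf9308f6776aa4c7ffad6f7ff901f7fb840001fefe0400f7c6f620dc3fccc202278039efb90307fde00008c3f734f0f84b81e6f03700dcfecc0007ffec4310867ffc109bbe6247db1c07b0ad50a8446fff54005fff8001effe2004dfdf4489eb232c00ff00ff00ff00ff00ff00ff00ff00ff00ff00ff00ff00ff00ff00ff00ff00ff00ff00ff00ff00ff00ff00ff00ff00ff00ff00ff00ff00ff00ff00ff00ff00ff00ff00ff00ff00ff00ff20eff0f400ffc53c2406c1f0f71f05b6c1f27c07b81e0e19a81fef80b2f2cc799cd1a07e95126fe01fef682f27d41fec81aa38db5f8180fea2f8cfb489ded807e65af4896784995f807a8f1f911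9f01bd28b3a4a947dc03a9f5441116b422e2c45cc2a802fbc26fd40e5f4f17409fa4b20d535f1d91454ed4482b4b0289601862daad4fed117e07fb04411f6749f40f7b37d014e7bf3e7e189a2afad309407de4c7119ffc97e108c1f0b46fe04e369d582ef41ee7f5ecfad3b2013c7361a7c65e8da69b89bb0d13f627774f9107c113f8f4485a95638f84427385c2807ea9826c9d8442fe69f403974c218616fb713f63940efdbf02f09e15e3f1dfecc1b00ff9c05ebda509f11f817cb197d6985813fe32329b006fd82a3806e585984bda2f52e2fcbf21088f86c281f757a41b7ac7d36732f803abf00e1499b47fa220384793afd66dc00df40f097b278b201b7e0f05ead10fda8d9907f44b9043f1ec07a1c04e7fbff60ff81bd00e500fa27c9188e7dff0ca200fe387f003f27f99e3f88bf405f0ef843fe99f8c4fed8f133e000e7103cc0864f8368fb01fa04ece057a0da29f70eef13ab005f007f01efa1df0dcb22dd805797c1a0f0f0f0f0f0f0f0f0f0f0f0f0f0f0f0f0f0f0f0f0f0f0f0f0f0f0f0f0f0f0f0f0f0f0f0f0f0f0f0f0f0f0f0f0f0f0f0f0f0f0f0f0f0f0f0f0f0f0f0f0f0f0f0f0f0f0f0f0f0f0f0f0f0d0d0d0fa7cf3b5d2b27de19878f09c7a15cdee8747306ee1561d11f3b23ce46383874475452c6e3e1db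1d72ce20e4b137db504ce0c61a1e82bcd5e8b08f47e4c98c2abe9f2689f8a787e189ec6d1ccd2b9a2849bb9e4fc7e40dc2d2f83eeff41c03c768eb9fb76a2e0e0d0dd35f2f8f0f01e578002f8763fb19c5bb3d191f1c7bcc061f124301078c8f1308d72f0f0f43fe212b0008c5384789400f9f1dcf66d9a76d0d0717be197a1e736f1e4e8c795f4f20906c8c9f2d279de1a61c804dde01ed972c57a2be9349d4efd1a6c639b2318f4f460f45b1770e7a3a1f70590e0a633e14737222ca0d1e7abe1a86784f2da56a092dac66a585c50c207a9b83b2468e1ed90c36f96e0ee7e10995a3e6479f67a4cd68ebb707a35712357a394a86678db2809bbf081ece1b39806f4f0b3d076407dc97c33b4e0e198b0a7fd98e0f0312be2b2e0d07db0b5e4dce6bc7039f2784df0d0f9f066ec78b22ed018e63c05f076f1a0d47ca07061f0fa78f5dfa0d88633f036daf87dc1f8b6b0c0f279a06833b856e8f642f119f038f9f6c9f263f6c0e03320f67078889cf1f5f034535770f0f8988c50d0e2fe58e872e3e4d9e0bc74f2d0f850a2bbd0ccccccccccccccccccccccccccccccccccccccccccccccccccccccccccccccccccccccccccccccccccccccccccccccccccccccccccccccccccccccccccccccccccccccccccccccccccccdc6ccdc8c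c2c8dcae3d9c6cb8ce5559b297e62c58d5ed3618a2940ec8892d3d0669279b4f16338079da28ad38319b7962ec48ed97b50933a2ed12ef8b9639921f3539b003796585669363a261e8cf8cedaae1813298135cab9a8d5e6dba335f3c37d6ce15e6c4a5c999b6cf9dc66e8cc50dcd3de748673c8aca28dde85fdd6a8ecf1adcd170fe64478c0894e8c8cec9e9c0dbeac2414e145b9159da9a28972f6e423a847e1c0cc9ccaae485c84b640caca56c47cd799e67729de56e0371d9e19700aea1d85df7b98e5a62a46ce86fb4ceaadd6ca11f548fb658dcb223cf620835394b306749c86ea219d940045cebd0e5a1cd7df3621be695dc3576a0f194fc89421dd7a1cfc88675c3d28f35ce79869b1e6c9274e0a9898c283472ef63ad4a49ccfdb08c06e8ff8513b5b0c88754ee29e68369fc0dc5dc668a4ea6cb8c9e0af967e3bc8cac4c25400b68bcc4d0d0ef7ceb0c8c4652c4559a46cbcc43a750f4ecdd2ce53546ccf4dd1f4c7575cdcee630c8e60c4dba5dcac4fbcc6445c44bcfddad6c9694c59c404c584cd055ac9a0ce2fbcef88408cd68d4d4ebaede5dcc8e12c262cea9af0d4d64d9edc65c480f8ceac4d5455b54caaaaaaaaaaaaaaaaaaaaaaaaaaaaaaaaaaaaaaaaaaaaaaaaaaaaaaaaaaaaaaaaaaaaaaaaaaaaaaaaaaaaa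aaaaaaaaaaaaaaaaaaaaaaaaaaaaaaaaaaaaaaaaaaaaaaaaaaaaaaaaaaaaaaa9aaaeaa6a92a49aaab8a4da9cad6716b9aca81b33acca872a7b4a69ae35b7b5754896fc7aaedfb340b79603ebbaada8b37a2b8c0ce3c62b3b44fc9c52b575fa96b42dc185e4ee4b698851c2d9c1aaca9eafc16f08054a8042c4747e1168440b69895b88161aefe32d09e086f68988eaa083be4b94e55ee23d650f0ecc3cb33cbb55fa9bb104a202223bac6684aea9b58aa6b5c32b09e13e78f738137ad6fd3b4a753ab68edabcef789806b2e4c95c6acad9a606ee5050208c72709b49b5372bc8e067af574a83a994f82467628c2f45a56936422ccc38cba1aabbad5e40915af889fad2ab26ba4c9e8d722cb357ba96acb3348ad7fc44ebeab3097d4eb58a28740ec775adddbb6dc765522469e1c6a20e694e57730cca632eadc2d29e44830577651e2d6a8cab9d9eb58ad8bc6dfaa8a370cd720aaaa31c3ce329a083eae70f3b0b8beaaac22acec07bee72b22c943c5baaaa42a213ea23ea22a52a8a2d5caa8bb58ac0e6a4beb8ab946a33c5a92bf5aaaec56b233533afa6b72aa33533a2aeb3e94ad592ab5aaa2b564a5a2b5acb6a92a3ac5252adaacaa8eed6da8ab0a9e04ca3e3ab458d80a9c7969ae13b2eb3eaaa8a3a2f3b22a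

/-- the planes of a generator -/
noncomputable def pl_i : ℕ := nat_lit 0xfffffffffffffffffffffffffffffffffffffffffffffffffffffffffffffffffffffffffffffffffffffffffffffffffffffffffffffffffffffffffffffffffffffffffffffffffffffffffffffffffffffffffffffffffffffffffffffffffffffffffffffffffffffffffffffffffffffffffffffffffffffffffffffffffffffffffffffffffffffffffffffffffffffffffffffffffffffffffffffffffffffffffffffffffffffffffffffffffffffffffffffffffffffffffffffffffffffffffffffffffffffffffffffffffffffffffffffffffffffffffffffffff9a2d57ce7da9b0eaa5d56ccfb965a5accbeefd58db7fef6556a3ed4abcda19c51675f6646c8d61665d66e5946333522a64900c8014ab361232fb20d980000000000000000000000000000000000000000000000000000000000000000000000000000000000000000000000000000000000000000000000000000000000000000000000000000000000000000000000000000000000000000000000000000000000000000000000000000000000000000000000000000000000000000000000000000000000000000000000000000000000000000000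000000000000000000000000000000000000000000000000000000000000000000000000000000000000000000000000000000000000000000000000000000000000000000000000000fffffffffffffffffffffffffffffffffffffffffffffffffffffffffffffffffffffffffffffffffffffffffffffffffffffffffffffffffffffffffffffffffffffffffffffffffffffffffffffffffffffffffffffffffffffffffffffffffffffffffffffffffa7f698d01e3fb5aa1d091e23fdeb695d45b9bcbd5ad9db54176005ae489540a001b5d48caaa15140020552d016d8983492489810205000000000000000000000000000000000000000000000000000000000000000000000000000000000000000000000000000000000000000000000000000000000000065d2a83182564f155a2a9330469a5a53341102a72480109aa95c12b54325e63ae98a099b93729e99a2991a6b9cccadd59b6ff37feb54c9edcd04df267ffffffffffffffffffffffffffffffffffffffffffffffffffffffffffffffffffffffffffffffffffffffffffffffffffffffffffffffffffffffffffffffffffffffffffffffffffffffffcdff0fe1fc7fee8707d054dffc07fd0f83dfbfeffa1f83c07c0f070410fc1c0bea1300907c0fc1e0010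87e0f8000000000000000000000000000000000000000000000000000000000000000000000000000000000000000000000000000000000000000000000000000000000000000000000000000000000000000000000000000000000000000000000000000000000000000000000ffffffffffffffffffffffffffffffffffffffffffffffffffffffffffffffffffffffffffffffffffffffffffffffffffffffffffffffffffffffffffffffff0000000000000000000000000000000000000000000000000000000000000000000000000000000005809672fe1c04a55e2f6e1dc021496a2ba464342a52624abe89ffa51b76abf5ffe4a2b73555eaebffdfaad2fe92767cb6db767efdfafffe45635ab236b74ad0d6d6aa5a9ed5ab4dad369b6b536bed756a55556aac2d6b50d52294dab4d494eb2a12b6a2bb0ac69655655a32e30994ab71012d544aab5452a65d2a83182564f155a2a9330469a5a53341102a72480109aa95c12b54325e63ae98a099b93729e99a2991a6b9cccadd59b6ff37feb54c9edcd04df267ffffffffffffffffffffffbfee3ffff87803d1af77fc1ddebd928efa2278a4197750eae42001bfe403e00f1b312ff41df7441fc4025480afc0200000000000000000000000000000000000003200f01e038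01178f82fab2003f802f07c20401005e07c3f83f0f8fbef03e3f415ecff6f83f03e1ffef781f07ffffffffffffffffffffffffffffffffffffffffffffffffffff6bff83ffc33fffe39afffcd3527f8fff9a407c207300039a403566b0e00300000000000000000000000000000000000000000000000000000000000000000000000000000000000000000000000000000ffffffffffffffffffffffffffffffffffffffffffffffffffffffffffffffff0000000000000000000000000000000000000000000000000000000000000000fffffffffffffffffffffffffffffffffffffff0f8ff9ffc3ff21fffae0f09e9036002c00300000745a1fff3fe3c07ffff3ffe3dc021496a2ba464342a52624abe88fd00006001505740000600014082aa9520009400405024922034a850d2d7fadfffefffecffbfadfffdfffdbf7efb7bedfffeffdf9befdfffebdddbfffffc80980000002200000048000800a000010010010018c000000ca08003200000001f7ffffbdf37fffffffbffbfe6fffff7fffbdcbffffc8199fffff1bfff7fdffbae98a099a026298000211000010088d80136f7301c00001e808000c000a1dde91924a80ccd5eaa236e9be20e7fbffc3ffeec13fbfffffffd97dd875be688af151bdffe401bfc1ff0808cd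000000800003070000000039e3ff0e040bfbfda20fe0391924df6441ff43e335ff3fe3b88fbfff8ffff380bffbff47c20401005e07c3f83f0f8fbef03e3f415ec1e6f82000001def780000e5e3cefffd07c62fc3ffc0e1043e0f8e08803e399c6420400f8ef60bfc063cc0001c6500032cad80700065bf83df8cfffc65bfca994f1ffcfffffffffffffffffffffa7ffefaffa7e6ff72600424130e10000000000000000000000000000000000000000000000000000ffffffffffffffffffffffffffffffff00000000000000000000000000000000ffffffffffffffffffffffffffffffff00000000000000000000000000000000fffffffffffffffffffffcf8438ce3eac10a06cf5703601fc96fe00050e04406fc081c018c0ffff825de967effdffca55e2f6e1dc000b694145a1a4b0000003541651ffffffffffffff6fab73555eaeb5000000000000000000000000050d2d7fffffffffffffffffffffffffffffff4000000000080000000000000000000037fffffffffdffffeffffffffff7fffffc00004080000000008000000200000001ffffffbdf37fffd7fffffbfe6fffffd3341102040001622000002400080200451675f665fd9e67fffdeeffffffc420558803f37fe80000e808001c000a1ddefd927a80ccf7ea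a3b75fbddf187c7ffee5088efe621426d736dbe2cfe1dff508ffc7e065be403e000ffced00be200bbe00b8dab7f503c5dc0dff40020b7da20fe044ddff4d2001ff4103e00f81f83f71178f92fab6217f842fbe191220ffa1f83e37c2f1f3bf88000740000ff6f81f03e1eb00001f07fbfdf7021effffc0c08fc0e4fffe0f80677fc0002089c03ff00094047c81ffd003fffd401fffbf8ff003ffbf83df805ffc003fc0000f07fc57fff00d200d505358300fc00105005819008d9ffbdbecf1efffffffffffdefedaded44052c28000000000000000000000000ffffffffffffffff0000000000000000ffffffffffffffff0000000000000000ffffffffffffffff0000000000000000ffffffffffffffff0000000000000000ffffffffffffffff00000307bc7300040000780f878c7fe3b6900c0faf11ba70fff7fec10f0ffffe25c09672fe1c000010c001c33fffffff3ffe7e7b0000000000131fa51b76abf5a0090548caaa1514affffffffe92767c920000000050d2d7ffffffffffffff68000000000000000bffffffffffdfbfda95800000240000037fffffffffdfffff2a000000004000003ffffaffe73fff548ee00003000000001fffffebffffffffd500010001000002cebacfdfbfff7f6daa95cd000000600451675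f77ffd9f1699a2891a6b8cbbdfaa77fd3d001354c925cd04cf267ffdde91d274f0ca0000018ca11e202effffcd1af776c04004000026de3aba5fbffff9d1bde066000000000647322abfff7ffd100752b405003dc3fd0ebbff877fffeff87dc4db92d4400002f335ff3fe3f801578ff000085e400400b9c216217fffe7c1f83f0f83fe07c1c0bea13e980fdfc3e1ffef781800e7e3c6021c07c4103c003f1ffbc1f07f6ffffe399c60100000009df07ff9fffffffffd40000000000000007ffc7fffeffffdb00a99401800541073fd3ffd5f8007c7f580070f80fc3fc18d9ff9c3e0c1e79ef2181982398125212bbfad3d7ffa6e6990b56cc0000000000ffffffff00000000ffffffff00000000ffffffff00000000ffffffff00000000ffffffff00000000ffffffff00000000ffffffff00000000ffffffff00000000ffffffff00000000fff8b3078dccde7bbf44ff9f2f000000668dffffa511b256ff681d3ff0f0000145dff92d420804a55eca01c30021fffed45b81842a52623501731fbfff9000005feda7fffeaa1500afdfaad2616d898364db767e4050d2d7fffefd5000000097ffffff400000000bfffffff5800000256a7ffff7400000037ffffffeb0200000d5fffffab84000003ffffff51cf440ab711ffff994000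0001fffffeb980000c3aafffeffd4698502ccbcec0a324889dc556a3e2b54327c075d665c71b91116fe75c76000000f737ff9b6d900047fffe5fb2008c000a1bb9f22db77c26d48aa00ca71fff3fc43432e519bbf9d98d190026de3ffffdd000002fc7fffc400001000e4fff7fc1900002efffbf23f50205e00d0ebff1f080001007c7ffffde54400002e3f7ffe1e4388ea8706ffff120200400b9effff1885e183e3fc3018c4077ffe7eea13ff1001f3c1f1dfff80707f9fdf9fde20002117c8fffe5ffc0000e908021c6639df0000f8c9df47ff9ff1003e002bfffffff807000007ffc5feca00067cff5640f0000fc007ff2dff00053582005bffffff0e400000e7fffffec3008580edf84796101b5f1be1f08306a45fdff6f4a8235b29900000ffff0000ffff0000ffff0000ffff0000ffff0000ffff0000ffff0000ffff0000ffff0000ffff0000ffff0000ffff0000ffff0000ffff0000ffff0000ffff0000ffff0000ffff0000ffc7f3003ff83c1160be816ff89fe0185490480f8d9f9864fc0803fe8c0f000165de4f528beb079235e76e013ffea490eba11a4fffed007f557502c0026ffe8a5feda5688b55aa14afff40009fffb4002dffde00bdf09ac5ffa102aff9530097fe9000bfff60000bffff000a7f7452256a2aa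008bbfbe0037ffe94014fff8001d5fab40547bfc0403fffa402ebc26bff7cbe52866bfeab001fff8010473764012afff8302a1720a7fca0009fb24b96b3fd0004fffe800266f36600065f111297ee19945cb1077f85577f0217e07fff84845e77e046f9be70fbf7a0315cd615a36a11e21183fc93fffd93c07bff2c4fee6863a2002224ef02c45fffbdfbba0603c0bd2803c02c402e8ffc0fc0d81f5dc0300b8058bb7a01897dcd924a1bfbd1002f3f80f1e1c408fe86872f28e7eff6410bdf2120e76201ffdfc01f06ffec7c1ff51000e8ffc203ffff5e0070707f9900efdfd00033efc0a001ff020000ef0801f3920061ffff002fffa7081c3fff0039afffffc807f8000657ff0201feff0024fca9bb0e7fcfc1003fd3002aff300100fbff60a8f1bffc08e7ff2181bc9e0390de79980277ff0c003fff0004b7ff1909eb4110fff44f5000ff00ff00ff00ff00ff00ff00ff00ff00ff00ff00ff00ff00ff00ff00ff00ff00ff00ff00ff00ff00ff00ff00ff00ff00ff00ff00ff00ff00ff00ff00ff00ff00ff00ff00ff00ff00ff3c036e7244317091aef97cdc50ff0073bf9b0e0370a300fc92bfd0ff00ff01640126433700f87fe03dd11c3f015a44e404fb04fd12dd75e9513d77d00ff5255f9803d841fe407caf40afe09ff84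ba82d6921c9bc5af793bd5d02ad86a8a097d32fc2bfe29fd10bfe00fc8a7c3fe4af207f9e989f241f837f216ad94ff07fe0d017caa747883f803f805cc7e80b2aaa851fa82f4b55d0a01f407fc467e59bf0eaf287c326007fa2cb5f218a7d80f88702fd08fe81ff02655098d81799e83e579bc11fa7410f6cf05fc0c25f0c7fc06b045e09dfe6a1639099d827336c1fc020df91bd02937cafbe0368fe7fc69262829163d1d1a6723e10bba1c783dc31ec00a470da93e6fc3c204b82cdbeefdcd800e0fbdcf84fd1a14177b1dd0136383fcfad30b0041f24776b79c1f0dfa7060dfecfdc5e42e81809f80303ef01fb033c01f66a04e9ef3d87fe01a1f72e706e66c3ef000fe033103f5c11b0bdff00e9f701ec6d08620700f02fff18ff1c6e00c1fc2b01f033dff8ff380f00c7013500e024ffe02f01ff0fff07ffd2ffe8f8cffd005f00ff40f1820300f700fd016f607b90ed07ff23f709f3003f00ffc4b758e06fe01733d09e24ef00f0f0f0f0f0f0f0f0f0f0f0f0f0f0f0f0f0f0f0f0f0f0f0f0f0f0f0f0f0f0f0f0f0f0f0f0f0f0f0f0f0f0f0f0f0f0f0f0f0f0f0f0f0f0f0f0f0f0f0f0f0f0f0f0f0f0f0f0f0f0f0f0f0faae61f046e88b6021f063fba310e069989cf1ef81fab6f08f9038c340f0f17991a61372e0f77699f0e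8e8b0f13744da449ecfd2b0b0a1b6b1b27e0de75a72f86643a1e1c0e4d5a4b8bc1a9b074b57a8d4f1f2b34ad07ba23ae61f4f1cd5d475ee3cbc18daac8bc1d0e35e2f2a28bcf07a582db4c91c6b74d3e1e3448c748985552385e3f2367e3c7ad6e286ea81f1cbf9d52ef1e964cc16b878376028f0383aa92c0f38f17047875ad05e0a30f758c2f2eaf129708345add0671470d6ea91f18f01d1ce0f16ea0e38f61bd6783c7c64cc7d1a59e0b788f0e83ca8723f7c53ce41d2f1837e2d61f21cc1dc78eb8f10ee21d5ad7865b1f0a671fc6607735bc2b4b3d523bc2b07f85c7487a0b05ca7b0cccc7e783a0858b68bc3c2b312079c3c523278c5809c781561608ce0b0e9c5e03b5d5192fe1f0987c0be3891f4fb7b9bf2859819f03c73fd9ed1f8ae7e1966fcf0d01f1fa1f7b01f8fd0b1f8c608f8f1ef88f0f3f4f00e299018f89c1df0e18360f10eb2a0f0f0c70cf0c2f1c8f0de64f31d2ef070cf30f6f0e8f016f5c571f044f0f090f9b1f0f0ecf0f2f05270f360e0f1c0b268e8e1f83cf4f83590a1f6e8fe11e06e9be432f0cccccccccccccccccccccccccccccccccccccccccccccccccccccccccccccccccccccccccccccccccccccccccccccccccccccccccccccccccccccccccccccccccccccccccccccccccce35ae5a9456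2fd7caf4c5283dc0cc6742e00cd060cec8acf1e4f242eccccc9636d6e7c6eecca798eec64d04ccd70acc99cd4cce4deac9993ad2e718c498cecccfa9775593cd9b5c9869714cc46eae455cc4546de9caa779416b188eccc3ce2c515308315cee62eb5a8d7086a0155e2cc64478c5e9c52b2498b5d97ece4d85764ce537d9204acf03aec6ed76d52b98da7b4e644a5b13e9b4cb6669a54b4ec36acce6f2abecc2c9a4496ebc96664c778b64296847388fab5cdac37820cad0aedcb699d692428de14c00de2ae38672ae8169a40d5559ee94fc890db566bf9306fec192ed68b71a8090a64b135d5b66c0a64d9e16ee61599cfb1ecf2e726c6a727aaafec7b14cab30667450cf81658864cea3d7904c52a67b9cf4d5e861e666236623f963c789e44e199dc5a28f4d53ddb3899ccccc91ed1e7383196698ccb66654c747cc55cb267326c7ccccc6996e6dafccd0c9b38c24cda7c4c8d8631cd44cd8e68c88dc8ccc92ecc1cc49a10ccd86298cccb4644cecce0cccce6c9f4ccdf30cc96adc84cecccc98cf4ccb3ccaecd4c94ccfc3cc20de8d4eacc8e8d5d4d4adcdccfc4e754d49acf92c8f09460c58e6fd9849839c75c0eccaaaaaaaaaaaaaaaaaaaaaaaaaaaaaaaaaaaaaaaaaaaaaaaaaaaaaaaaaaaaaaaaaaaaaaaaaaaaaaaaaaaaa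aaaaaaaaaaaaaaaaaaaaaaaaaaaaaaaaaaaaaaaaaaaaaaaaaaaaaaaaaaaaab396bb4ea18ed8ba28ab69c6facab130b482aab7caa4beaac62886b9aaaaad30ca74bb08b6a98186a5be832aaab3208356ccaaa2baa8d5ca244899793d6a058a2366da95b290faefa8a38fe1e53322a9ab28a1fd87f6d502f3c1cc56ae51bf8fe6f7b143bd9e1080669eb2f678b9a1bd090b6223df685759ef10e58663de1bd89a394ce5a3c954e34e368ed4c3f5c1ff21bea0a9d70cd9998917250e595ea26129225109084d7eedb8b13a9d42b4ac3b8e78a945eed3a1b8a87ec2c852b1e17dc5c1bb5e8e8a4ffce38ab5b87ee44c37916294abf5edbbae5a969e5e5c2b6ec184eaabc2ad4cddc04edba122451a44d4372a2076852531290aaa1494deda93b9c9a26649a96e846aa30515bd56d76aa7be108a99eb7425681aa8e794917ba57ba9d5ad54912249d312677aa0aca156a2961beabdd2bd56b669754d6eaa1556abcd56aaaaab5eab4a3ba28b5554b4b5caaaaad6a7ab62555b0aa955adaaaaa9494aacaaaaaaadad8a92a2d55baa9552eaaaa428f2adaa9482aa90ada2aa9482aa5a65a52a9a6aad6abeaa69af6c292aeeaacae2ab6b5eb28aaaa8aa594baabab8ad12e0a2a1f5b378a3c65e66f62545a1a5762b818afaaa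

/-- the planes of a generator -/
noncomputable def plT (x : Gen) : ℕ := Gen.rec pl_a pl_b pl_c pl_d pl_e pl_f pl_g pl_h pl_i x

/-- the mask -/
noncomputable def plM : ℕ := asm [1, 1, 1, 1, 1, 1, 1, 1, 1, 1, 1, 1]

/-- the image of a point : `2 ^ 4096 = 2` modulo `8191` -/
noncomputable def plk (T p : ℕ) : ℕ := Nat.mod (Nat.land (Nat.shiftRight T p) plM) 8191

/-- the number given by a column of planes -/
def plV : List ℕ → ℕ → ℕ
  | [], _ => 0
  | a :: l, p => (a.testBit p).toNat + 2 * plV l p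

theorem asm_col : ∀ (l : List ℕ) (p : ℕ), p < 4096 → (∀ a ∈ l, ∀ i, 4096 ≤ i → a.testBit i = false) →
    ((asm l >>> p) &&& asm (l.map fun _ => 1)) % 8191 = plV l p % 8191
  | [], p, _, _ => by
    show ((0 >>> p) &&& 0) % 8191 = 0 % 8191
    rw [Nat.and_zero]
  | a :: l, p, hp, h => by
    have ih := asm_col l p hp fun b hb => h b (List.mem_cons_of_mem _ hb)
    have e : (asm (a :: l) >>> p) &&& asm ((a :: l).map fun _ => 1) =
        2 ^ 4096 * ((asm l >>> p) &&& asm (l.map fun _ => 1)) + (a.testBit p).toNat := by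
      have hb : (a.testBit p).toNat < 2 ^ 4096 :=
        lt_of_le_of_lt (Bool.toNat_le _) (Nat.one_lt_two_pow (by norm_num))
      apply Nat.eq_of_testBit_eq
      intro i
      rw [Nat.testBit_two_pow_mul_add _ hb]
      show ((a ||| asm l <<< 4096) >>> p &&& (1 ||| asm (l.map fun _ => 1) <<< 4096)).testBit i = _
      simp only [Nat.testBit_and, Nat.testBit_or, Nat.testBit_shiftRight, Nat.testBit_shiftLeft, Nat.testBit_one_eq_true_iff_self_eq_zero]
      by_cases hi : i < 4096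
      · rw [if_pos hi, decide_eq_false (show ¬ i ≥ 4096 by omega), Bool.false_and, Bool.or_false]
        rcases Nat.eq_zero_or_pos i with rfl | h0
        · rw [decide_eq_false (show ¬ p + 0 ≥ 4096 by omega), Bool.false_and, Bool.or_false, Nat.add_zero]
          cases a.testBit p <;> rfl
        · have h1 : Nat.testBit 1 i = false := Nat.testBit_lt_two_pow (Nat.one_lt_two_pow h0.ne')
          rw [h1, Bool.and_false]
          exact (Nat.testBit_lt_two_pow (lt_of_le_of_lt (Bool.toNat_le _) (Nat.one_lt_two_pow h0.ne'))).symm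
      · have h1 : Nat.testBit 1 i = false := Nat.testBit_lt_two_pow (Nat.one_lt_two_pow (by omega))
        rw [if_neg hi, h1, h a List.mem_cons_self _ (by omega), decide_eq_true (show i ≥ 4096 by omega),
          decide_eq_true (show p + i ≥ 4096 by omega), Bool.false_or, Bool.false_or, Bool.true_and, Bool.true_and,
          show p + i - 4096 = p + (i - 4096) by omega]
    have e2 : 2 ^ 4096 % 8191 = 2 := by decide +kernel
    rw [e, plV, Nat.add_mod, Nat.mul_mod, e2, ih, Nat.add_comm (a.testBit p).toNat, Nat.add_mod (2 * plV l p),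
      Nat.mul_mod 2 (plV l p)]

theorem plV_range (q : ℕ) (f : ℕ → ℕ) (p : ℕ) : ∀ (n s : ℕ), (∀ b < s + n, (f b).testBit p = q.testBit b) →
    plV ((List.range' s n).map f) p = (q >>> s) % 2 ^ n
  | 0, s, _ => by simp [plV, Nat.mod_one]
  | n + 1, s, h => by
    rw [List.range'_succ, List.map_cons, plV, plV_range q f p n (s + 1) fun b hb => h b (by omega), h s (by omega),
      pow_succ', Nat.mod_mul, Nat.shiftRight_succ, Nat.toNat_testBit, Nat.shiftRight_eq_div_pow]

theorem plT_eq (x : Gen) : plT x = asm ((List.range' 0 12).map fun b => (net x).app (plane 12 b)) := by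
  cases x <;> exact Nat.eq_of_beq_eq_true (by decide +kernel)

theorem plk_eq (x : Gen) {p : ℕ} (hp : p < 4096) : plk (plT x) p = (net x).perm p := by
  have h1 := asm_col ((List.range' 0 12).map fun b => (net x).app (plane 12 b)) p hp fun a ha i hi => by
    obtain ⟨b, hb, rfl⟩ := List.mem_map.1 ha
    rw [testBit_app (net_ok x), perm_eq_of_le (net_ok x) (by omega)]
    exact testBit_plane_of_le _ _ _ (by omega) (by simpa using hb)
  have h2 : (net x).perm p < 2 ^ 12 := perm_lt (net_ok x) (by omega)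
  rw [plV_range ((net x).perm p) _ p 12 0 fun b hb => by
    rw [testBit_app (net_ok x), testBit_plane _ _ _ h2 (by omega)], ← plT_eq, Nat.shiftRight_zero,
    Nat.mod_eq_of_lt h2, Nat.mod_eq_of_lt (show (net x).perm p < 8191 by omega)] at h1
  exact h1

/-- one letter on seven points -/
noncomputable def st7 (T : ℕ) (κ : ℕ → ℕ → ℕ → ℕ → ℕ → ℕ → ℕ → Bool) (a b c d e f g : ℕ) : Bool :=
  seqB (plk T a) fun a => seqB (plk T b) fun b => seqB (plk T c) fun c => seqB (plk T d) fun d =>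
    seqB (plk T e) fun e => seqB (plk T f) fun f => seqB (plk T g) fun g => κ a b c d e f g

/-- a word on seven points -/
noncomputable def fw7 (w : List Gen) : (ℕ → ℕ → ℕ → ℕ → ℕ → ℕ → ℕ → Bool) → ℕ → ℕ → ℕ → ℕ → ℕ → ℕ → ℕ → Bool :=
  List.rec (fun κ => κ) (fun x _ ih κ => ih (st7 (plT x) κ)) w

theorem ptw_lt (w : List Gen) {p : ℕ} (hp : p < 4096) : ptWord (nw w) p < 4096 := by
  rw [ptWord_eq (nw_ok w)]
  exact wperm_lt (nw_ok w) hp

theorem ptw_cons (x : Gen) (w : List Gen) {p : ℕ} (hp : p < 4096) :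
    plk (plT x) (ptWord (nw w) p) = ptWord (nw (x :: w)) p := by
  rw [plk_eq x (ptw_lt w hp), ptWord_eq (nw_ok w), ptWord_eq (nw_ok (x :: w))]
  rfl

theorem fw7_eq : ∀ (w : List Gen) (κ : ℕ → ℕ → ℕ → ℕ → ℕ → ℕ → ℕ → Bool),
    fw7 w κ 92 88 43 40 16 2 0 = κ (ptWord (nw w) 92) (ptWord (nw w) 88) (ptWord (nw w) 43) (ptWord (nw w) 40)
      (ptWord (nw w) 16) (ptWord (nw w) 2) (ptWord (nw w) 0)
  | [], _ => rfl
  | x :: w, κ => by
    refine (fw7_eq w (st7 (plT x) κ)).trans ?_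
    rw [st7]
    simp only [seqB_eq]
    rw [ptw_cons x w (by norm_num), ptw_cons x w (by norm_num), ptw_cons x w (by norm_num), ptw_cons x w (by norm_num),
      ptw_cons x w (by norm_num), ptw_cons x w (by norm_num), ptw_cons x w (by norm_num)]

/-- the fast version of `eqB` -/
noncomputable def eqF (u v : List Gen) : Bool :=
  fw7 u (fun a b c d e f g => fw7 v (fun a' b' c' d' e' f' g' => and (Nat.beq a a') (and (Nat.beq b b')
    (and (Nat.beq c c') (and (Nat.beq d d') (and (Nat.beq e e') (and (Nat.beq f f') (and (Nat.beq g g') true)))))))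
    92 88 43 40 16 2 0) 92 88 43 40 16 2 0

theorem eqF_eq (u v : List Gen) : eqF u v = eqB u v := by
  rw [eqF, fw7_eq, fw7_eq]
  rfl

theorem eqB_of {u v : List Gen} (h : eqF u v = true) : eqB u v = true := eqF_eq u v ▸ h

theorem crt_of {y g a b : List Gen}
    (h : eqF (g ++ (y ++ g.reverse)) (a ++ (b ++ (a.reverse ++ b.reverse))) = true) : crt y g a b = true := eqB_of h

theorem cnj_of {g y c : List Gen} (h : eqF (g ++ (y ++ g.reverse)) c = true) : cnj g y c = true := eqB_of h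


def wk0 : List Gen := [.b, .c, .d, .h, .i, .e, .d, .h, .f, .e, .d, .c, .d, .e, .f, .h, .d, .e, .i, .h, .d, .c, .e, .d, .h, .i, .c, .d, .h, .f, .e, .d, .c, .b, .c, .d, .e, .f, .h, .d, .c, .i, .h, .d, .h, .i, .d, .e, .c, .d, .h, .f, .e, .d, .c, .b, .c, .d, .e, .f, .h, .d, .c, .e, .d, .i]

theorem ck0 : crt wk0 [.b, .c, .i, .a, .d, .h, .e, .d, .h, .g, .c, .g, .f, .c, .d, .a, .h, .b, .c, .a, .d, .e, .b, .h, .d, .h, .g, .c, .d, .e, .f, .a, .b, .h, .c, .d, .c, .a, .b, .c, .g, .h, .d, .i, .h, .f, .h, .e, .d, .e, .c, .d, .e, .h, .a, .d, .c, .b, .c, .a, .b, .d, .h, .e, .d, .e, .h, .c, .b, .e, .d, .e, .c, .h, .i, .d, .a, .c, .b, .c, .d, .h, .i, .a, .e, .d, .b, .c, .a, .i, .g, .b, .d, .c, .h, .e, .d, .c, .h, .a, .g, .e, .d, .i, .b, .f, .c, .a, .b, .h, .e, .d, .e, .h, .f, .i, .h, .e, .d, .e, .h, .d, .i, .g, .f, .h, .e, .d, .e, .f, .h, .i, .g] [.c, .h, .c, .i, .c, .d, .e, .c, .h, .e, .d, .c, .a, .i] [.d, .e, .i, .a, .d, .i, .g, .f, .g, .a, .e, .i, .e,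 .a, .e, .i, .f, .e, .g, .i] = true :=
  crt_of (by decide +kernel)

def wk1 : List Gen := [.b, .c, .d, .h, .i, .e, .d, .h, .f, .e, .d, .c, .d, .e, .f, .h, .d, .e, .i, .h, .d, .c]

theorem ck1 : crt wk1 [.e, .d, .c, .e, .d, .f, .e, .d, .i, .g, .f, .h, .e, .d, .e, .f, .h, .i, .g, .f, .g, .c, .d, .e, .a, .f, .e, .b, .c, .e, .a, .d, .b, .e, .h, .f, .c, .g, .f, .h, .e, .d, .e, .f, .h, .i, .c, .g, .d, .e, .h, .d, .e, .c, .b, .a, .e, .d, .f, .e, .g, .d, .b, .c, .b, .f, .c, .e, .a, .d, .c, .f, .b, .g] [.b, .c] [.e, .d] = true :=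
  crt_of (by decide +kernel)

def wk2 : List Gen := [.b, .c, .d, .h, .i, .e, .d, .h, .f, .e, .d, .c, .d, .e, .f, .h, .d, .e, .i, .h, .d, .c, .e, .d, .h, .i, .c, .d, .h, .f, .e, .d, .c, .b, .c, .d, .e, .f, .h, .d, .c, .i, .h, .d]

theorem ck2 : crt wk2 [.f, .b, .i, .h, .e, .d, .c, .b, .e, .d, .h, .f, .e, .d, .c, .e, .a, .i, .h, .d, .c, .h, .d, .i, .h, .c, .d, .e, .a, .h, .b, .c, .b, .a, .d, .g, .b, .c, .h, .b, .d, .e, .d, .h, .c, .f, .g, .b, .d, .e, .c, .a, .c, .b, .c, .b, .e, .d, .i, .h, .d, .e, .g, .c, .d, .b, .c, .e, .a, .b, .h, .f, .g, .h, .d, .c, .e, .d, .h, .i, .d, .e, .c, .d, .h, .g, .f, .h, .b, .a, .e, .c, .b, .d, .c] [.h, .g, .f] [.f, .d] = true :=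
  crt_of (by decide +kernel)

def wr1_0 : List Gen := [.c, .d]

theorem cr1_0 : crt wr1_0 [.d] [.c, .a] [.a, .d, .h] = true :=
  crt_of (by decide +kernel)

def wr1_110 : List Gen := [.b, .c, .d, .h, .i, .e, .d, .h, .f, .e, .d, .c, .d, .e, .f, .h, .d, .e, .i, .h, .d, .c, .b, .c, .d, .h, .i, .e, .d, .h, .f, .e, .d, .c, .d, .e, .f, .h, .d, .e, .i, .h, .d, .c, .e, .d, .h, .i, .c, .d, .h, .f, .e, .d, .c, .b, .c, .d, .e, .f, .h, .d, .c, .i, .h, .d, .h, .i, .d, .e, .c, .d, .h, .f, .e, .d, .c, .b, .c, .d, .e, .f, .h, .d, .c, .e, .d, .i, .c, .d]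

theorem cr1_110 : crt wr1_110 [.a, .f, .e, .d, .g, .f, .e, .h, .d, .c, .b, .g, .c, .d, .b, .c, .e, .a, .b, .h, .f, .g, .h, .d, .c, .e, .d, .i, .h, .d, .e, .c, .d, .h, .g, .f, .h, .b, .a, .e, .c, .b, .d, .c, .i, .d, .h, .f, .e, .d, .c, .a, .c, .a, .d, .e, .h, .f, .b, .c, .e, .d, .b, .h, .a, .b, .f, .c, .e, .a, .d, .b, .c, .h, .i, .e, .a, .d, .b, .a, .g, .c, .b, .f, .h, .d, .i, .h, .f, .g, .c, .d, .b, .c, .e, .a, .b, .h, .f, .g, .h, .d, .c, .e, .d, .i, .h, .d, .e, .c, .d, .h, .g, .f, .h, .b, .a, .e, .c, .b, .d, .c, .e, .d, .i, .h, .d, .e, .f, .h, .e, .d, .e, .f, .h] [.i, .g, .a] [.h, .b, .a, .f] = true :=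
  crt_of (by decide +kernel)

def wr1_28 : List Gen := [.b, .c, .d, .h, .i, .e, .d, .h, .f, .e, .d, .c, .d, .e, .f, .h, .d, .e, .i, .h, .d, .c, .e, .d, .h, .i, .c, .d, .h, .f, .e, .d, .c, .b, .c, .d, .e, .f, .h, .d, .c, .i, .h, .d, .c, .d]

theorem cr1_28 : crt wr1_28 [.d, .c, .b, .e, .d, .f, .h, .f, .b, .c, .g, .a, .b, .d, .a, .e, .i, .h, .c, .b, .d, .a, .e, .c, .f, .b, .a, .h, .b, .d, .e, .c, .b, .f, .h, .e, .d, .a, .c, .e, .i, .h, .c, .d, .h, .e, .b, .c, .e, .a, .b, .h, .f, .g, .h, .d, .c, .e, .d, .i, .h, .d, .e, .c, .d, .h, .g, .f, .h, .b, .a, .e, .c, .b, .d, .c, .h, .i, .d, .h, .e, .d, .c, .d, .e, .h, .d, .c, .b, .c, .a, .b, .d, .h, .e, .d, .e, .h, .c, .d, .e, .h, .b, .d, .c, .b, .a, .b] [.h, .a, .b] [.c, .i] = true :=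
  crt_of (by decide +kernel)

def wr2_0 : List Gen := [.e, .f, .h, .i]

theorem cr2_0 : crt wr2_0 [.e, .f, .g] [.i, .g] [.h, .f] = true :=
  crt_of (by decide +kernel)

def wr2_1 : List Gen := [.b, .c, .d, .h, .i, .e, .d, .h, .f, .e, .d, .c, .d, .e, .f, .h, .d, .e, .i, .h, .d, .c, .e, .f, .h, .i]

theorem cr2_1 : crt wr2_1 [.a, .d, .b, .c, .e, .a, .b, .h, .f, .g, .h, .d, .c, .e, .d, .i, .h, .d, .e, .c, .d, .h, .g, .f, .h, .b, .a, .e, .c, .b, .d, .c, .h, .c, .d, .b, .c, .e, .a, .b, .h, .f, .g, .h, .d, .c, .e, .d, .i, .h, .d, .e, .c, .d, .h, .g, .f, .h, .b, .a, .e, .c, .b, .d, .c] [.a, .f, .e, .b, .h] [.f, .i, .c] = true :=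
  crt_of (by decide +kernel)

def wr2_27 : List Gen := [.e, .d, .h, .i, .c, .d, .h, .f, .e, .d, .c, .b, .c, .d, .e, .f, .h, .d, .c, .i, .h, .d, .e, .f, .h, .i]

theorem cr2_27 : crt wr2_27 [.c, .b, .g, .e, .d, .f, .e, .c, .h, .d, .i, .h, .g, .e, .d, .c, .i, .e, .a, .d, .f, .e, .f, .h, .e, .d, .e, .f, .h, .i] [.a, .i, .f] [.h, .b] = true :=
  crt_of (by decide +kernel)

def wr2_28 : List Gen := [.b, .c, .d, .h, .i, .e, .d, .h, .f, .e, .d, .c, .d, .e, .f, .h, .d, .e, .i, .h, .d, .c, .e, .d, .h, .i, .c, .d, .h, .f, .e, .d, .c, .b, .c, .d, .e, .f, .h, .d, .c, .i, .h, .d, .e, .f, .h, .i]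

theorem cr2_28 : crt wr2_28 [.d, .c, .b, .i, .f, .h, .e, .d, .e, .f, .h, .i, .c, .h, .d, .i, .h, .g, .e, .d, .c, .i, .e, .c, .b, .e, .i, .f, .c, .g, .a, .f, .h, .d, .b, .c, .b, .h, .e, .d, .h, .c, .e, .b, .d, .a, .f, .c, .b, .f, .h, .e, .d, .a, .c, .e, .f, .d, .e, .g, .c, .d, .b, .c, .e, .a, .b, .h, .f, .g, .h, .d, .c, .e, .d, .i, .h, .d, .e, .c, .d, .h, .g, .f, .h, .b, .a, .e, .c, .b, .d, .c, .i, .h, .e, .d, .e, .h, .d, .i, .f, .h, .e, .d, .e, .f, .h, .i] [.a, .h, .g] [.b, .f, .i] = true :=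
  crt_of (by decide +kernel)

def wr2_54 : List Gen := [.e, .d, .h, .i, .c, .d, .h, .f, .e, .d, .c, .b, .c, .d, .e, .f, .h, .d, .c, .i, .h, .d, .e, .d, .h, .i, .c, .d, .h, .f, .e, .d, .c, .b, .c, .d, .e, .f, .h, .d, .c, .i, .h, .d, .e, .f, .h, .i]

theorem cr2_54 : crt wr2_54 [.b, .d, .b, .i, .a, .f, .e, .c, .d, .f, .a, .e, .h, .d, .c, .d, .i, .h, .d] [.b, .f] [.c, .e] = true :=
  crt_of (by decide +kernel)

def wr2_55 : List Gen := [.b, .c, .d, .h, .i, .e, .d, .h, .f, .e, .d, .c, .d, .e, .f, .h, .d, .e, .i, .h, .d, .c, .e, .d, .h, .i, .c, .d, .h, .f, .e, .d, .c, .b, .c, .d, .e, .f, .h, .d, .c, .i, .h, .d, .e, .d, .h, .i, .c, .d, .h, .f, .e, .d, .c, .b, .c, .d, .e, .f, .h, .d, .c, .i, .h, .d, .e, .f, .h, .i]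

theorem cr2_55 : crt wr2_55 [.c, .d, .b, .c, .e, .a, .b, .h, .f, .g, .h, .d, .c, .e, .d, .i, .h, .d, .e, .c, .d, .h, .g, .f, .h, .b, .a, .e, .c, .b, .d, .c, .g, .f, .h, .e, .d, .e, .f, .c, .d, .a, .e, .i, .h, .d, .c, .e, .f, .e, .i, .h, .i, .d, .c, .g, .f, .e, .h, .c, .d, .e, .h, .i, .b, .c, .d, .e, .g, .f, .b, .h, .d, .a, .g, .c, .h, .b, .c, .i, .g, .f, .a, .d, .e, .h, .f, .d, .i, .b, .h, .c, .d, .b, .c, .b, .c, .d, .a, .h, .b, .c, .a, .d, .e, .b, .h, .d, .h, .g, .c, .d, .e, .f, .a, .b, .h, .c, .d, .c, .a, .b, .c, .g, .h, .e, .d, .e, .h, .c, .d, .b, .c, .e, .a, .b, .h, .f, .g, .h, .d, .c, .e, .d, .i, .h, .d, .e, .c, .d, .h, .g, .f, .h, .b, .a, .e, .c, .b, .d, .c, .i, .d, .h, .i, .e, .f, .h, .e, .d, .e, .h, .d, .f, .b, .c, .g, .a, .b, .d, .a, .e, .i, .h, .c, .b, .d, .a, .e, .c, .f, .b, .a, .h, .b, .d, .e, .c, .b, .f, .h, .e, .d, .a, .c, .f, .e, .h] [.h, .a, .e, .c, .d, .c, .h, .d, .e, .i, .d, .h, .d, .g, .a] [.g, .b, .h, .c, .d, .b, .i,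 .h, .g, .d, .i] = true :=
  crt_of (by decide +kernel)

def wr4_0 : List Gen := [.c, .d, .c, .e, .d, .c, .f, .e, .h, .d, .c, .e, .d, .f, .h, .i, .h, .d, .c, .e, .d, .f, .h, .i]

theorem cr4_0 : crt wr4_0 [.b, .f, .e, .f, .h, .c, .d, .i, .e, .h, .f, .d, .c, .b, .g, .d, .g, .f, .e, .h, .c, .d, .e, .f, .h, .d, .b, .c, .f, .a, .d, .b, .e, .c, .h, .d, .c, .a, .e, .b, .h, .a, .d, .i, .c, .b, .h, .a, .e, .h, .e, .d, .e, .h, .i] [.c, .h, .c, .i, .c, .d, .e, .c, .h, .e, .d, .c, .a, .i] [.d, .e, .i, .a, .d, .i, .g, .f, .g, .a, .e, .i, .e, .a, .e, .i, .f, .e, .g, .i] = true :=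
  crt_of (by decide +kernel)

def wr4_1 : List Gen := [.b, .c, .d, .h, .i, .e, .d, .h, .f, .e, .d, .c, .d, .e, .f, .h, .d, .e, .i, .h, .d, .c, .c, .d, .c, .e, .d, .c, .f, .e, .h, .d, .c, .e, .d, .f, .h, .i, .h, .d, .c, .e, .d, .f, .h, .i]

theorem cr4_1 : crt wr4_1 [.d, .e] [.i, .c, .f] [.h, .b, .e] = true :=
  crt_of (by decide +kernel)

def wr4_10 : List Gen := [.b, .c, .d, .h, .i, .e, .d, .h, .f, .e, .d, .c, .d, .e, .f, .h, .d, .e, .i, .h, .d, .c, .d, .h, .i, .e, .c, .d, .h, .f, .e, .d, .c, .b, .c, .d, .e, .f, .h, .d, .c, .e, .i, .h, .c, .d, .c, .e, .d, .c, .f, .e, .h, .d, .c, .e, .d, .f, .h, .i, .h, .d, .c, .e, .d, .f, .h, .i]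

theorem cr4_10 : crt wr4_10 [.a, .f, .e, .d, .g, .f, .e, .h, .d, .c, .b, .e, .d, .f, .e, .c, .d, .e, .h, .d, .c, .d, .b, .c, .a, .d, .b, .c, .h, .b, .e, .d, .h, .c, .b, .e, .f, .d, .c, .b, .a, .i, .b, .h, .e, .d, .g, .f, .e, .h, .d, .c, .h, .d, .i, .h, .c, .d, .e, .h, .d, .c, .d, .b, .c, .a, .d, .b, .c, .h, .b, .e, .d, .h, .c, .b, .e, .f, .d, .c, .b, .a, .i, .b, .h, .e, .h, .e, .d, .e, .h, .e, .f, .d, .e, .i, .h, .g, .f, .c, .d, .e, .f, .h, .d, .b, .c, .f, .a, .d, .b, .e, .c, .h, .d, .b, .e, .c, .b, .h, .d, .c, .d, .a, .e, .b, .i, .a, .c, .h, .f, .g, .e, .d, .f, .e, .f, .h, .e, .d, .e, .f, .h, .g] [.c, .h, .c, .i, .c, .d, .e, .c, .h, .e, .d, .c, .a, .i] [.d, .e, .i, .a, .d, .i, .g, .f, .g, .a, .e, .i, .e, .a, .e, .i, .f, .e, .g, .i] = true :=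
  crt_of (by decide +kernel)

def wr4_20 : List Gen := [.b, .c, .d, .h, .i, .e, .d, .h, .f, .e, .d, .c, .d, .e, .f, .h, .d, .e, .i, .h, .d, .c, .b, .c, .d, .h, .i, .e, .d, .h, .f, .e, .d, .c, .d, .e, .f, .h, .d, .e, .i, .h, .d, .c, .d, .h, .i, .e, .c, .d, .h, .f, .e, .d, .c, .b, .c, .d, .e, .f, .h, .d, .c, .e, .i, .h, .d, .h, .i, .e, .c, .d, .h, .f, .e, .d, .c, .b, .c, .d, .e, .f, .h, .d, .c, .e, .i, .h, .c, .d, .c, .e, .d, .c, .f, .e, .h, .d, .c, .e, .d, .f, .h, .i, .h, .d, .c, .e, .d, .f, .h, .i]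

theorem cr4_20 : crt wr4_20 [.c, .b, .e, .d, .f, .e, .g, .f, .g, .c, .d, .b, .c, .e, .a, .b, .h, .f, .g, .h, .d, .c, .e, .d, .h, .i, .d, .e, .c, .d, .h, .g, .f, .h, .b, .a, .e, .c, .b, .d, .c, .h, .d, .c, .a, .g, .e, .d, .f, .e, .d, .f, .h, .e, .d, .e, .f, .h, .i] [.g, .b, .h, .a] [.f, .b, .d] = true :=
  crt_of (by decide +kernel)

def wyA : List Gen := [.d, .h, .i, .e, .d, .h, .c, .d, .e, .b, .c, .d, .h, .i, .e, .d, .h, .f, .e, .d, .c, .d, .e, .f, .h, .d, .e, .i, .h, .d, .c, .c, .d, .e, .d, .c, .h, .d, .e, .i, .h, .d]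

theorem cyA : crt wyA [.i, .h, .d, .c, .g, .f, .e, .d, .g, .f, .i] [.b, .a, .i, .a, .h, .i, .d, .g] [.g, .h, .c, .f, .d, .e, .d, .i, .c, .f, .d, .h] = true :=
  crt_of (by decide +kernel)

def wyB : List Gen := [.d, .h, .i, .e, .c, .d, .h, .f, .e, .d, .c, .b, .c, .d, .e, .f, .h, .d, .c, .e, .i, .h, .e, .f, .h, .i]

theorem cyB : crt wyB [.i, .f, .h, .e, .d, .c, .f, .e, .i, .h, .d] [.c, .d, .i, .f] [.b, .c, .e, .h] = true :=
  crt_of (by decide +kernel)

def wyE : List Gen := [.b, .c, .d, .h, .i, .e, .d, .h, .f, .e, .d, .c, .d, .e, .f, .h, .d, .e, .i, .h, .d, .c, .b, .c, .d, .h, .i, .e, .d, .h, .f, .e, .d, .c, .d, .e, .f, .h, .d, .e, .i, .h, .d, .c, .c, .d, .c, .e, .d, .f, .h, .i]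

theorem cyE : crt wyE [.g, .h, .i, .d, .h, .e, .d, .c, .b, .h, .i, .g, .h, .c, .d, .h, .e, .d, .c, .h, .d, .i, .h, .d, .g, .f, .h, .e, .d, .e, .f, .h] [.c, .g, .f, .d] [.e, .h, .b] = true :=
  crt_of (by decide +kernel)

end Cfsg.Agent.H3.Ore.FC
end

-- part: H3/Ore/Fi22Red
section
/-!
# `Fi22`: the 3-elements up to conjugacy (helper3)

The elements of the Sylow 3-subgroup `P0 = A R0` of `H834` are conjugate (in `3^5 : W(E6)`) to 22 words.
-/

set_option autoImplicit false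
set_option maxRecDepth 100000
set_option exponentiation.threshold 5000
set_option linter.style.longLine false
set_option linter.constructorNameAsVariable false

namespace Cfsg.Agent.H3.Ore.FR

open Cfsg.Spor Cfsg.Spor.Fi22 Cfsg.Agent.Lib.PermNet Cfsg.Agent.Lib.PermNetOrbit Cfsg.Agent.Lib.PermNetFix
open Cfsg.Agent.Fischer Cfsg.Agent.Fischer.Fi22PtsRep
open Cfsg.Agent.H834 Cfsg.Agent.H834.AC Cfsg.Agent.H834.RC
open Cfsg.Agent.H3.Ore.FC
open Matrix

/-- digits to an index -/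
def encd (a b c d e : ℕ) : ℕ := a % 3 + 3 * (b % 3) + 9 * (c % 3) + 27 * (d % 3) + 81 * (e % 3)

/-- the digits of an index -/
def dig (n : ℕ) : List ℕ := [n % 3, n / 3 % 3, n / 9 % 3, n / 27 % 3, n / 81 % 3]

/-- the vector of an index -/
def vec (n : ℕ) : V5 := lv5 (dig n)

theorem vec_apply (n : ℕ) : vec n = ![((n % 3 : ℕ) : ZMod 3), ((n / 3 % 3 : ℕ) : ZMod 3), ((n / 9 % 3 : ℕ) : ZMod 3),
    ((n / 27 % 3 : ℕ) : ZMod 3), ((n / 81 % 3 : ℕ) : ZMod 3)] := by
  ext k
  fin_cases k <;> rfl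

theorem vec_encd (a b c d e : ℕ) : vec (encd a b c d e) = ![(a : ZMod 3), b, c, d, e] := by
  have e0 : encd a b c d e % 3 = a % 3 := by unfold encd; (solve | lia | omega)
  have e1 : encd a b c d e / 3 % 3 = b % 3 := by unfold encd; (clear * -; solve | lia | omega)
  have e2 : encd a b c d e / 9 % 3 = c % 3 := by unfold encd; (clear * -; solve | lia | omega)
  have e3 : encd a b c d e / 27 % 3 = d % 3 := by unfold encd; (solve | lia | omega)
  have e4 : encd a b c d e / 81 % 3 = e % 3 := by unfold encd; (clear * -; solve | lia | omega)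
  rw [vec_apply, e0, e1, e2, e3, e4]
  simp only [ZMod.natCast_mod]

theorem encd_lt (a b c d e : ℕ) : encd a b c d e < 243 := by unfold encd; (clear * -; solve | lia | omega)

theorem exists_vec (v : V5) : ∃ n < 243, vec n = v := by
  refine ⟨encd (v 0).val (v 1).val (v 2).val (v 3).val (v 4).val, encd_lt _ _ _ _ _, ?_⟩
  rw [vec_encd]
  ext k
  (revert k; simp only [_root_.Fin.forall_fin_succ, _root_.Nat.succ_eq_add_one, Nat.reduceAdd, Fin.isValue, _root_.ZMod.natCast_val, _root_.ZMod.cast_id', _root_.id_eq, _root_.Matrix.cons_val_zero, _root_.Matrix.cons_val_succ, _root_.Fin.succ_zero_eq_one, _root_.Fin.succ_one_eq_two, Fin.reduceSucc, _root_.Matrix.cons_val_fin_one, _root_.IsEmpty.forall_iff, _root_.and_self])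

/-- addition of indices -/
def addN (n k : ℕ) : ℕ :=
  encd (n % 3 + k % 3) (n / 3 % 3 + k / 3 % 3) (n / 9 % 3 + k / 9 % 3) (n / 27 % 3 + k / 27 % 3) (n / 81 % 3 + k / 81 % 3)

theorem vec_addN (n k : ℕ) : vec (addN n k) = vec n + vec k := by
  unfold addN
  rw [vec_encd, vec_apply, vec_apply]
  ext j
  (revert j; simp only [_root_.Fin.forall_fin_succ, _root_.Nat.succ_eq_add_one, Nat.reduceAdd, _root_.Nat.cast_add, _root_.ZMod.natCast_mod, _root_.Pi.add_apply, Fin.isValue, _root_.Matrix.cons_val_zero, _root_.Matrix.cons_val_succ, _root_.Matrix.cons_val_fin_one, _root_.implies_true, _root_.and_self])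

/-- negation of indices -/
def negN (n : ℕ) : ℕ := encd (2 * (n % 3)) (2 * (n / 3 % 3)) (2 * (n / 9 % 3)) (2 * (n / 27 % 3)) (2 * (n / 81 % 3))

theorem vec_negN (n : ℕ) : vec (negN n) = -vec n := by
  have h2 : (2 : ZMod 3) = -1 := by decide
  unfold negN
  rw [vec_encd, vec_apply]
  ext j
  (revert j; simp only [h2, _root_.Fin.forall_fin_succ, _root_.Nat.succ_eq_add_one, Nat.reduceAdd, _root_.Nat.cast_mul, _root_.Nat.cast_ofNat, _root_.ZMod.natCast_mod, _root_.neg_mul, _root_.one_mul, _root_.Pi.neg_apply, Fin.isValue, _root_.Matrix.cons_val_zero, _root_.Matrix.cons_val_succ, _root_.Matrix.cons_val_fin_one, _root_.implies_true, _root_.and_self])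

/-- one coordinate of the image -/
def dot (l : List (List ℕ)) (n k : ℕ) : ℕ :=
  n % 3 * (l.getD 0 []).getD k 0 + n / 3 % 3 * (l.getD 1 []).getD k 0 + n / 9 % 3 * (l.getD 2 []).getD k 0 +
    n / 27 % 3 * (l.getD 3 []).getD k 0 + n / 81 % 3 * (l.getD 4 []).getD k 0

/-- the action of a generator on indices -/
def ap1 (g : Gen) (n : ℕ) : ℕ := encd (dot (im g) n 0) (dot (im g) n 1) (dot (im g) n 2) (dot (im g) n 3) (dot (im g) n 4)

theorem ap1_lt (g : Gen) (n : ℕ) : ap1 g n < 243 := encd_lt _ _ _ _ _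

theorem vec_dot (l : List (List ℕ)) (n : ℕ) : vec (encd (dot l n 0) (dot l n 1) (dot l n 2) (dot l n 3) (dot l n 4)) =
    vec n 0 • lv5 (l.getD 0 []) + vec n 1 • lv5 (l.getD 1 []) + vec n 2 • lv5 (l.getD 2 []) +
      vec n 3 • lv5 (l.getD 3 []) + vec n 4 • lv5 (l.getD 4 []) := by
  have h : ∀ k : Fin 5, ((dot l n k : ℕ) : ZMod 3) = (vec n 0 • lv5 (l.getD 0 []) + vec n 1 • lv5 (l.getD 1 []) +
      vec n 2 • lv5 (l.getD 2 []) + vec n 3 • lv5 (l.getD 3 []) + vec n 4 • lv5 (l.getD 4 [])) k := fun k => by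
    rw [dot, Nat.cast_add, Nat.cast_add, Nat.cast_add, Nat.cast_add, Nat.cast_mul, Nat.cast_mul, Nat.cast_mul,
      Nat.cast_mul, Nat.cast_mul]
    rfl
  rw [vec_encd]
  funext k
  rw [← h k]
  fin_cases k <;> rfl

theorem refl_lin (u v : V5) : v - bf u v • u = v 0 • (e5 0 - bf u (e5 0) • u) + v 1 • (e5 1 - bf u (e5 1) • u) +
    v 2 • (e5 2 - bf u (e5 2) • u) + v 3 • (e5 3 - bf u (e5 3) • u) + v 4 • (e5 4 - bf u (e5 4) • u) := by
  have h1 : v = v 0 • e5 0 + v 1 • e5 1 + v 2 • e5 2 + v 3 • e5 3 + v 4 • e5 4 := by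
    funext k
    fin_cases k <;> simp [e5]
  have h2 : bf u v = v 0 * bf u (e5 0) + v 1 * bf u (e5 1) + v 2 * bf u (e5 2) + v 3 * bf u (e5 3) +
      v 4 * bf u (e5 4) := by
    simp only [bf, e5, _root_.Fin.isValue, _root_.Pi.single_eq_same, _root_.mul_one, _root_.ne_eq, _root_.one_ne_zero, _root_.not_false_eq_true, _root_.Pi.single_eq_of_ne, _root_.MulZeroClass.mul_zero, _root_.zero_add, _root_.add_zero, _root_.Fin.reduceEq, _root_.zero_ne_one]
    ring
  rw [h2]
  simp only [smul_sub, add_smul, mul_smul]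
  nth_rw 1 [h1]
  abel

theorem chk_ap0 : ([Gen.b, .c, .d, .e, .f, .h, .i].all fun g => decide (∀ j : Fin 5,
    e5 j - bf (root g) (e5 j) • root g = lv5 ((im g).getD j []))) = true := by
  decide +kernel

theorem chk_ap {g : Gen} (hg : g ∈ [Gen.b, .c, .d, .e, .f, .h, .i]) (n : ℕ) :
    vec n - bf (root g) (vec n) • root g = vec (ap1 g n) := by
  have h := of_decide_eq_true (List.all_eq_true.1 chk_ap0 g hg)
  rw [refl_lin, h 0, h 1, h 2, h 3, h 4, ap1, vec_dot]
  rfl

/-- the tables of `ap1` -/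
noncomputable def apT (x : Gen) : ℕ :=
  Gen.rec (nat_lit 0) 
    (nat_lit 0xf0f1f2efedeeebeceae7e8e9e6e4e5e2e3e1dedfe0dddbdcd9dad8d5d6d7d4d2d3d0d1cfcccdcecbc9cac7c8c6c3c4c5c2c0c1bebfbdbabbbcb9b7b8b5b6b4b1b2b3b0aeafacadaba8a9aaa7a5a6a3a4a29fa0a19e9c9d9a9b999697989593949192908d8e8f8c8a8b8889878485868381827f807e7b7c7d7a7879767775727374716f706d6e6c696a6b6866676465636061625f5d5e5b5c5a5758595654555253514e4f504d4b4c494a4845464744424340413f3c3d3e3b393a3738363334353230312e2f2d2a2b2c292728252624212223201e1f1c1d1b18191a1715161314120f10110e0c0d0a0b09060708050304010200) 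
    (nat_lit 0xf2eeeaecf1edefebf0e6e2e7e9e5e1e3e8e4dadfdbddd9dee0dcd8d7d3cfd1d6d2d4d0d5cbc7cccecac6c8cdc9bfc4c0c2bec3c5c1bdbcb8b4b6bbb7b9b5bab0acb1b3afabadb2aea4a9a5a7a3a8aaa6a2a19d999ba09c9e9a9f959196989490929793898e8a8c888d8f8b8786827e808581837f847a767b7d7975777c786e736f716d7274706c6b6763656a666864695f5b60625e5a5c615d535854565257595551504c484a4f4b4d494e44404547433f414642383d393b373c3e3a3635312d2f3430322e3329252a2c2824262b271d221e201c21231f1b1a16121419151713180e0a0f110d090b100c020703050106080400) 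
    (nat_lit 0xe9e8e7dddcdbecebeaf2f1f0e6e5e4dad9d8e0dfdeefeeede3e2e1c5c4c3d4d3d2c8c7c6cecdccc2c1c0d1d0cfd7d6d5cbcac9bfbebdbcbbbab0afaea4a3a2aaa9a8b9b8b7adacabb3b2b1a7a6a5b6b5b48f8e8d9e9d9c9291909897968c8b8a9b9a99a1a09f9594938988878685847a79786e6d6c7473728382817776757d7c7b71706f807f7e6261605655546564636b6a695f5e5d5352515958576867665c5b5a504f4e4443423837363e3d3c4d4c4b41403f4746453b3a394a49482c2b2a201f1e2f2e2d3534332928271d1c1b2322213231302625240807061716150b0a0911100f0504031413121a19180e0d0c020100) 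
    (nat_lit 0xbcbbbab9b8b7b6b5b4e9e8e7e6e5e4e3e2e1c5c4c3c2c1c0bfbebdd7d6d5d4d3d2d1d0cfb3b2b1b0afaeadacabe0dfdedddcdbdad9d8f2f1f0efeeedecebeacecdcccbcac9c8c7c6aaa9a8a7a6a5a4a3a26b6a6968676665646398979695949392919074737271706f6e6d6c868584838281807f7e6261605f5e5d5c5b5a8f8e8d8c8b8a898887a1a09f9e9d9c9b9a997d7c7b7a79787776755958575655545352511a191817161514131247464544434241403f232221201f1e1d1c1b3534333231302f2e2d11100f0e0d0c0b0a093e3d3c3b3a39383736504f4e4d4c4b4a49482c2b2a292827262524080706050403020100) 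
    (nat_lit 0xd0cfd1d6d5d7d3d2d4c7c6c8cdcccecac9cbbebdbfc4c3c5c1c0c2edefeeeaecebf0f2f1e4e6e5e1e3e2e7e9e8dbdddcd8dad9dee0dfbcbbbab9b8b7b6b5b4b3b2b1b0afaeadacabaaa9a8a7a6a5a4a3a27f7e808584868281837675777c7b7d79787a6d6c6e737274706f719c9e9d999b9a9fa1a09395949092919698978a8c8b8789888d8f8e6b6a696867666564636261605f5e5d5c5b5a5958575655545352512e2d2f3433353130322524262b2a2c2827291c1b1d2221231f1e204b4d4c484a494e504f4244433f4140454746393b3a3638373c3e3d1a191817161514131211100f0e0d0c0b0a09080706050403020100) 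
    (nat_lit 0x0) 
    (nat_lit 0x504f4e4d4c4b4a4948e9e8e7e6e5e4e3e2e18f8e8d8c8b8a8988873534333231302f2e2dcecdcccbcac9c8c7c674737271706f6e6d6c1a1918171615141312b3b2b1b0afaeadacab595857565554535251a1a09f9e9d9c9b9a9947464544434241403fe0dfdedddcdbdad9d8868584838281807f7e2c2b2a292827262524c5c4c3c2c1c0bfbebd6b6a6968676665646311100f0e0d0c0b0a09aaa9a8a7a6a5a4a3a2f2f1f0efeeedecebea9897969594939291903e3d3c3b3a39383736d7d6d5d4d3d2d1d0cf7d7c7b7a7978777675232221201f1e1d1c1bbcbbbab9b8b7b6b5b46261605f5e5d5c5b5a080706050403020100) 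
    (nat_lit 0x9a999ba09fa19d9c9e9190929796989493958887898e8d8f8b8a8c7f7e808584868281837675777c7b7d79787a6d6c6e737274706f716463656a696b6766685b5a5c6160625e5d5f525153585759555456edefeeeaecebf0f2f1e4e6e5e1e3e2e7e9e8dbdddcd8dad9dee0dfd2d4d3cfd1d0d5d7d6c9cbcac6c8c7cccecdc0c2c1bdbfbec3c5c4b7b9b8b4b6b5babcbbaeb0afabadacb1b3b2a5a7a6a2a4a3a8aaa9504f4e4d4c4b4a494847464544434241403f3e3d3c3b3a393837363534333231302f2e2d2c2b2a292827262524232221201f1e1d1c1b1a191817161514131211100f0e0d0c0b0a09080706050403020100) x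

/-- the fast version of `ap1` -/
noncomputable def apF (g : Gen) (n : ℕ) : ℕ := Nat.land (Nat.shiftRight (apT g) (Nat.mul 8 n)) 255

private noncomputable def _root_.Cfsg.Agent.KObb4999d.k0 : (by first | exact type_of% @Cfsg.Agent.Lib.PermNet.seqB | exact Unit : Sort _) := by first | (refine @Subtype.val _ (fun g => @Cfsg.Agent.Lib.PermNet.seqB = @g) (@Subtype.mk _ _ (@(fun x0 x1 => @Bool.rec.{1} @(fun x2 => @Bool) (@x1 @x0) (@x1 @x0) (@Nat.beq @x0 (nat_lit 0)))) ?_); rfl') | exact @Cfsg.Agent.Lib.PermNet.seqB | exact ()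
private theorem _root_.Cfsg.Agent.KObb4999d.e0 : (by first | exact @Cfsg.Agent.Lib.PermNet.seqB = @_root_.Cfsg.Agent.KObb4999d.k0 | exact True : Prop) := by first | (delta _root_.Cfsg.Agent.KObb4999d.k0; exact @Subtype.property _ (fun g => @Cfsg.Agent.Lib.PermNet.seqB = @g) _) | rfl | trivial
private theorem _root_.Cfsg.Agent.KObb4999d.e4.{ku, kv} {α : Type kv} {M : List α → Sort ku} (φ : ∀ l, M l) {z : M List.nil} {s : ∀ a l, M l → M (List.cons a l)} (h0 : φ List.nil = z) (hs : ∀ a l, φ (List.cons a l) = s a l (φ l)) (l : List α) : φ l = @List.rec α M z s l := List.rec h0 (fun a l ih => (hs a l).trans (congrArg (s a l) ih)) l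
private noncomputable def _root_.Cfsg.Agent.KObb4999d.k7.{ku0} : type_of% @List.all.{ku0} := @(fun x0 x1 x2 => @List.rec.{(ku0+1), ku0} @x0 @(fun x3 => (@x0 → @Bool) → @Bool) @(fun x3 => @Bool.true) @(fun x3 x4 x5 x6 => @Bool.rec.{1} @(fun x7 => @Bool) @Bool.false (@x5 @x6) (@x6 @x3)) @x1 @x2)
private theorem _root_.Cfsg.Agent.KObb4999d.e7.{ku0} : @List.all.{ku0} = @_root_.Cfsg.Agent.KObb4999d.k7.{ku0} := by delta _root_.Cfsg.Agent.KObb4999d.k7; funext a0 a1 a2; refine (congrFun (_root_.Cfsg.Agent.KObb4999d.e4 (fun a1 a2 => @List.all.{ku0} a0 a1 a2) ?_ (fun c0 c1 => ?_) a1) a2 :) <;> (rfl')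
private noncomputable def _root_.Cfsg.Agent.KObb4999d.k28.{ku0} : type_of% @List.get?Internal.{ku0} := @(fun x0 x1 x2 => @List.rec.{(ku0+1), ku0} @x0 @(fun x3 => ℕ → @Option.{ku0} @x0) @(fun x3 => @Option.none.{ku0} _) @(fun x3 x4 x5 x6 => @Nat.rec.{(ku0+1)} @(fun x7 => @Option.{ku0} @x0) (@Option.some.{ku0} _ @x3) @(fun x7 x8 => @x5 @x7) @x6) @x1 @x2)
private theorem _root_.Cfsg.Agent.KObb4999d.e28.{ku0} : @List.get?Internal.{ku0} = @_root_.Cfsg.Agent.KObb4999d.k28.{ku0} := by delta _root_.Cfsg.Agent.KObb4999d.k28; funext a0 a1 a2; refine (congrFun (_root_.Cfsg.Agent.KObb4999d.e4 (fun a1 a2 => @List.get?Internal.{ku0} a0 a1 a2) ?_ (fun c0 c1 => ?_) a1) a2 :) <;> [(funext b0; (rfl')); (funext b0; (cases b0 with | @zero  => (rfl') | @succ b0_0 => (rfl')))]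
private theorem _root_.Cfsg.Agent.KObb4999d.e31.{ku} {M : Nat → Sort ku} (φ : ∀ n, M n) {z : M Nat.zero} {s : ∀ n, M n → M (Nat.succ n)} (h0 : φ Nat.zero = z) (hs : ∀ n, φ (Nat.succ n) = s n (φ n)) (n : Nat) : φ n = @Nat.rec M z s n := Nat.rec h0 (fun n ih => (hs n).trans (congrArg (s n) ih)) n
private noncomputable def _root_.Cfsg.Agent.KObb4999d.k32 : type_of% @List.range.loop := @(fun x0 x1 => @Nat.rec.{1} @(fun x2 => (@List.{0} ℕ) → @List.{0} ℕ) @(fun x2 => @x2) @(fun x2 x3 x4 => @x3 (@x2 :: @x4)) @x0 @x1)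
private theorem _root_.Cfsg.Agent.KObb4999d.e32 : @List.range.loop = @_root_.Cfsg.Agent.KObb4999d.k32 := by delta _root_.Cfsg.Agent.KObb4999d.k32; funext a0 a1; refine (congrFun (_root_.Cfsg.Agent.KObb4999d.e31 (fun a0 a1 => @List.range.loop a0 a1) ?_ (fun c0 => ?_) a0) a1 :) <;> (rfl')
private noncomputable def _root_.Cfsg.Agent.KObb4999d.k33 : type_of% @List.range := @(fun x0 => @Cfsg.Agent.KObb4999d.k32 @x0 [])
private theorem _root_.Cfsg.Agent.KObb4999d.e33 : @List.range = @_root_.Cfsg.Agent.KObb4999d.k33 := by delta _root_.Cfsg.Agent.KObb4999d.k33; rewrite [← Cfsg.Agent.KObb4999d.e32]; rfl'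
private noncomputable def _root_.Cfsg.Agent.KObb4999d.k34 : (by first | exact type_of% @Cfsg.Agent.H3.Ore.FR.apF | exact Unit : Sort _) := by first | (refine @Subtype.val _ (fun g => @Cfsg.Agent.H3.Ore.FR.apF = @g) (@Subtype.mk _ _ (@(fun x0 x1 => @Nat.land (@Nat.shiftRight (@Cfsg.Spor.Fi22.Gen.rec.{1} @(fun x2 => ℕ) (nat_lit 0) (nat_lit 1499649364735842365666397712035390637070369493169240968569742392785063590005111990269342605432758669580082744994451128234284563505970797813974981618856380843754182860020362867894579925527542449481317940738269331878850278775745771107609240415052598408735229329596340781118827962411146543135584706277206643718634951861286225180292255716529421786795950631737785077944675010454118188166954375211236474872747371374841251828245703013256358082708794998848758487933470478046991812796962627898273022607350241422341811791437153254191724376355751382257949105156098531249445264360557985713272979968) (nat_lit 15120237239611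66366375989322695505055126334102518621478741328480298097695542490312288660983267923876353797697757469798572003219829518724810366392570356850989637408879918715761170406711384438503639684854090391878710760347470811024094934100677699388942707213318952003055749590074505015647854738795362578942364397509095742511290863391728335339190028870365568289759107907872489880737576243382059893759008640120368122554701534000284576954058241001984476455756331159912549445950327507255160652506164580042946845796391371214261574417076856327219818725661876230601677650711030415626173652927488) (nat_lit 1455861297038369821988779914618833776879712912867084427212298406209875378641107617495596342746539379210584558473327031623007508595999777779249742161057738055702029086034782288567004592247863135776124291768999659413813167991484954526929753452805131612403369515791946949902139825315039063459847798696094805395682458140277526956879431371471283356717904406407693425359027210933062911677446581991540802362864599605122526598503396844557262330560289943959114816141975294653852825014415757018879034430280057249563919551243721746462743630715325384742325387430293234619799290188494142622966874368)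 (nat_lit 1174681638661093638939751426937587385307952880460706416469987987120368520026050177646168126861273785775863769152422715654359787168885070684670575384669389620105887949503626477621401913204374260821042208086067089906198307312117092298525177395339174939845672709507215639473923802190467537784264048060856113065001998797913196766035369683454208997874773397678827182508495786888925341450774793328248736416375986221666844393543626628451345001145593542313765877775835849207218103325202061581787478580473155947065097704547350688559272782642377793107159496841733224161161836704594225435047493888) (nat_lit 1299650665472779403250200179841855648530650359050978579032597121398357630636577172119328002770743353343692288817087371884058309579698222978693297161050155944920722041015510576898315293446139533162018321323510056164809489252576950069437322518953617319856498037779393555697409342378602046903205160482060012400160307380934148893007859681152433371699630300968557619190196454676802621383620620076779442318705108390019973963059831475846938557335273278786570439738637117312335748841375219412143496084399219567089723028738248207583078805996006660187630590599341530243194288606354005930205643008)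 (nat_lit 0) (nat_lit 499850450511017108006858875649652899026214906731419627390859991905523115978059470361524513037833290980745213796070540078836804135808177491055673349340175605950141135897935894640555740203813683358360764887941307580781945348147970616167909066585212486385596333686745571172958664822886478156738723730284982931760461664994217998744520549708748757132855328571171273102593026677836784263676874667403532276999324823653944995013601553273624271425180276828024846494141065987150143697738539119749079806680605954955957793812000419821307906353202434426990510166669782190127258408154745396674035968) (nat_lit 962235071397741137783682453666613670314502356116721551733474937764842492992200504652052255598772271859654870490028281512522028185529118368066581637872461870507782503018681502770058204659344066762795211759776531072234403790622933821323055103776992408735953863864318234300073314676410552630110853845045897958153573016951268830629629311671577622556033527938937869007910320443403810252627169598335098063204925164586707665692266096937292564250818019534645131589109649364986141876342517857155168155167482955287757171898000322682388321310240344520531131724314559639866738894362680293557666048)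 @x0) (@Nat.mul (nat_lit 8) @x1)) (nat_lit 255))) ?_); rfl') | exact @Cfsg.Agent.H3.Ore.FR.apF | exact ()
private theorem _root_.Cfsg.Agent.KObb4999d.e34 : (by first | exact @Cfsg.Agent.H3.Ore.FR.apF = @_root_.Cfsg.Agent.KObb4999d.k34 | exact True : Prop) := by first | (delta _root_.Cfsg.Agent.KObb4999d.k34; exact @Subtype.property _ (fun g => @Cfsg.Agent.H3.Ore.FR.apF = @g) _) | rfl | trivial
private noncomputable def _root_.Cfsg.Agent.KObb4999d.k35 : (by first | exact type_of% @Cfsg.Agent.H3.Ore.FR.encd | exact Unit : Sort _) := by first | (refine @Subtype.val _ (fun g => @Cfsg.Agent.H3.Ore.FR.encd = @g) (@Subtype.mk _ _ (@(fun x0 x1 x2 x3 x4 => @Nat.add (@Nat.add (@Nat.add (@Nat.add (@Nat.mod @x0 (nat_lit 3)) (@Nat.mul (nat_lit 3) (@Nat.mod @x1 (nat_lit 3)))) (@Nat.mul (nat_lit 9) (@Nat.mod @x2 (nat_lit 3)))) (@Nat.mul (nat_lit 27) (@Nat.mod @x3 (nat_lit 3)))) (@Nat.mul (nat_lit 81) (@Nat.mod @x4 (nat_lit 3))))) ?_); rfl') | exact @Cfsg.Agent.H3.Ore.FR.encd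 | exact ()
private theorem _root_.Cfsg.Agent.KObb4999d.e35 : (by first | exact @Cfsg.Agent.H3.Ore.FR.encd = @_root_.Cfsg.Agent.KObb4999d.k35 | exact True : Prop) := by first | (delta _root_.Cfsg.Agent.KObb4999d.k35; exact @Subtype.property _ (fun g => @Cfsg.Agent.H3.Ore.FR.encd = @g) _) | rfl | trivial
private noncomputable def _root_.Cfsg.Agent.KObb4999d.k36 : (by first | exact type_of% @Cfsg.Agent.H3.Ore.FR.dot | exact Unit : Sort _) := by first | (refine @Subtype.val _ (fun g => @Cfsg.Agent.H3.Ore.FR.dot = @g) (@Subtype.mk _ _ (@(fun x0 x1 x2 => @Nat.add (@Nat.add (@Nat.add (@Nat.add (@Nat.mul (@Nat.mod @x1 (nat_lit 3)) (@Option.rec.{1, 0} ℕ @(fun x3 => ℕ) (nat_lit 0) @(fun x3 => @x3) (@Cfsg.Agent.KObb4999d.k28.{0} _ (@Option.rec.{1, 0} (@List.{0} ℕ) @(fun x3 => @List.{0} ℕ) [] @(fun x3 => @x3) (@Cfsg.Agent.KObb4999d.k28.{0} _ @x0 (nat_lit 0))) @x2))) (@Nat.mul (@Nat.mod (@Nat.div @x1 (nat_lit 3)) (nat_lit 3)) (@Option.rec.{1, 0} ℕ @(fun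 x3 => ℕ) (nat_lit 0) @(fun x3 => @x3) (@Cfsg.Agent.KObb4999d.k28.{0} _ (@Option.rec.{1, 0} (@List.{0} ℕ) @(fun x3 => @List.{0} ℕ) [] @(fun x3 => @x3) (@Cfsg.Agent.KObb4999d.k28.{0} _ @x0 (nat_lit 1))) @x2)))) (@Nat.mul (@Nat.mod (@Nat.div @x1 (nat_lit 9)) (nat_lit 3)) (@Option.rec.{1, 0} ℕ @(fun x3 => ℕ) (nat_lit 0) @(fun x3 => @x3) (@Cfsg.Agent.KObb4999d.k28.{0} _ (@Option.rec.{1, 0} (@List.{0} ℕ) @(fun x3 => @List.{0} ℕ) [] @(fun x3 => @x3) (@Cfsg.Agent.KObb4999d.k28.{0} _ @x0 (nat_lit 2))) @x2)))) (@Nat.mul (@Nat.mod (@Nat.div @x1 (nat_lit 27)) (nat_lit 3)) (@Option.rec.{1, 0} ℕ @(fun x3 => ℕ) (nat_lit 0) @(fun x3 => @x3) (@Cfsg.Agent.KObb4999d.k28.{0} _ (@Option.rec.{1, 0} (@List.{0} ℕ) @(fun x3 => @List.{0} ℕ) [] @(fun x3 => @x3) (@Cfsg.Agent.KObb4999d.k28.{0} _ @x0 (nat_lit 3))) @x2)))) (@Nat.mul (@Nat.mod (@Nat.div @x1 (nat_lit 81)) (nat_lit 3)) (@Option.rec.{1, 0} ℕ @(fun x3 => ℕ) (nat_lit 0) @(fun x3 => @x3) (@Cfsg.Agent.KObb4999d.k28.{0}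 _ (@Option.rec.{1, 0} (@List.{0} ℕ) @(fun x3 => @List.{0} ℕ) [] @(fun x3 => @x3) (@Cfsg.Agent.KObb4999d.k28.{0} _ @x0 (nat_lit 4))) @x2))))) ?_); rewrite [← Cfsg.Agent.KObb4999d.e28.{0}]; rfl') | exact @Cfsg.Agent.H3.Ore.FR.dot | exact ()
private theorem _root_.Cfsg.Agent.KObb4999d.e36 : (by first | exact @Cfsg.Agent.H3.Ore.FR.dot = @_root_.Cfsg.Agent.KObb4999d.k36 | exact True : Prop) := by first | (delta _root_.Cfsg.Agent.KObb4999d.k36; exact @Subtype.property _ (fun g => @Cfsg.Agent.H3.Ore.FR.dot = @g) _) | rfl | trivial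
private noncomputable def _root_.Cfsg.Agent.KObb4999d.k37 : (by first | exact type_of% @Cfsg.Agent.H3.Ore.FR.ap1 | exact Unit : Sort _) := by first | (refine @Subtype.val _ (fun g => @Cfsg.Agent.H3.Ore.FR.ap1 = @g) (@Subtype.mk _ _ (@(fun x0 x1 => @Cfsg.Agent.KObb4999d.k35 (@Cfsg.Agent.KObb4999d.k36 (@Cfsg.Agent.H834.AC.im @x0) @x1 (nat_lit 0)) (@Cfsg.Agent.KObb4999d.k36 (@Cfsg.Agent.H834.AC.im @x0) @x1 (nat_lit 1)) (@Cfsg.Agent.KObb4999d.k36 (@Cfsg.Agent.H834.AC.im @x0) @x1 (nat_lit 2)) (@Cfsg.Agent.KObb4999d.k36 (@Cfsg.Agent.H834.AC.im @x0) @x1 (nat_lit 3)) (@Cfsg.Agent.KObb4999d.k36 (@Cfsg.Agent.H834.AC.im @x0) @x1 (nat_lit 4)))) ?_); rewrite [← Cfsg.Agent.KObb4999d.e36, ← Cfsg.Agent.KObb4999d.e35]; (try delta Cfsg.Agent.H3.Ore.FR.ap1); (try generalize @Cfsg.Agent.H3.Ore.FR.encd = g0); (try generalize @Cfsg.Agent.H3.Ore.FR.dot = g1); (try generalize @Cfsg.Agent.H834.AC.im = g2); rfl') | exact @Cfsg.Agent.H3.Ore.FR.ap1 | exact ()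
private theorem _root_.Cfsg.Agent.KObb4999d.e37 : (by first | exact @Cfsg.Agent.H3.Ore.FR.ap1 = @_root_.Cfsg.Agent.KObb4999d.k37 | exact True : Prop) := by first | (delta _root_.Cfsg.Agent.KObb4999d.k37; exact @Subtype.property _ (fun g => @Cfsg.Agent.H3.Ore.FR.ap1 = @g) _) | rfl | trivial

theorem apF_chk : ([Gen.b, .c, .d, .e, .f, .h, .i].all fun g => (List.range 243).all fun n =>
    seqB n fun n => Nat.beq (apF g n) (ap1 g n)) = true := by
  (first | (rewrite [Cfsg.Agent.KObb4999d.e7.{0}, Cfsg.Agent.KObb4999d.e33, Cfsg.Agent.KObb4999d.e0, Cfsg.Agent.KObb4999d.e34, Cfsg.Agent.KObb4999d.e37]; decide +kernel) | decide +kernel)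

/-- the seven generators of `3^5 : W(E6)` -/
def gs : List Gen := [.b, .c, .d, .e, .f, .h, .i]

/-- letters of `3^5 : W(E6)` -/
def ok7 : Gen → Bool
  | .a => false
  | .g => false
  | _ => true

/-- the action of a word on indices -/
def apw (w : List Gen) (n : ℕ) : ℕ := w.foldr ap1 n

/-- the fast version of `apw` -/
noncomputable def apwF (w : List Gen) (n : ℕ) : ℕ := List.rec n (fun g _ ih => seq ih (apF g)) w

theorem apwF_eq {w : List Gen} (hw : w.all ok7 = true) {n : ℕ} (hn : n < 243) : apwF w n = apw w n := by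
  induction w with
  | nil => rfl
  | cons g w ih =>
    rw [List.all_cons, Bool.and_eq_true] at hw
    have h1 : apw w n < 243 := by
      cases w with
      | nil => exact hn
      | cons x w => exact ap1_lt _ _
    have h2 : g ∈ [Gen.b, .c, .d, .e, .f, .h, .i] := by
      have h3 := hw.1
      revert h3
      cases g <;> decide
    have h3 := List.all_eq_true.1 (List.all_eq_true.1 apF_chk g h2) _ (List.mem_range.2 h1)
    rw [seqB_eq] at h3
    show seq (apwF w n) (apF g) = ap1 g (apw w n)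
    rw [seq_eq, ih hw.2]
    exact Nat.eq_of_beq_eq_true h3

/-- representatives of the 3-elements of `W(E6)` -/
def rho (j : ℕ) : List Gen :=
  [[], [.c, .d], [.e, .f, .h, .i], [.c, .d, .c, .e, .d, .f, .h, .i], [.c, .d, .c, .e, .d, .c, .f, .e, .h, .d, .c, .e, .d, .f, .h, .i, .h, .d, .c, .e, .d, .f, .h, .i]].getD j []

/-- the checks of a list of words -/
noncomputable def chkWB : List (List Gen × ℕ) → ℕ → Bool :=
  List.rec (motive := fun _ => ℕ → Bool) (fun _ => true) (fun x _ ih n =>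
    and (and (eqF (x.1 ++ (yword n ++ x.1.reverse)) (rho x.2)) (and (x.1.all ok7) (Nat.blt x.2 5))) (ih (Nat.succ n)))

/-- words conjugating the elements of `R0` to the representatives -/
def wl0 : List (List Gen × ℕ) := [
  ([], 0),
  ([.e, .f, .h, .d, .c, .e, .d, .i, .h, .d, .c, .e, .d], 1),
  ([.c, .e, .f, .h, .d, .c, .e, .d, .i, .h, .d, .c, .e, .d], 1),
  ([.c, .e, .d, .c, .f, .e, .d], 1),
  ([.d, .c, .f, .h, .d, .c, .e, .f, .i, .h, .d, .c, .e, .d], 2),
  ([.d, .c, .h, .d, .c, .e, .f, .i, .h, .d, .c, .e, .d], 2),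
  ([.e, .d, .c, .f, .e, .d], 1),
  ([.d, .c, .f, .h, .d, .e, .f, .i, .h, .d, .c, .e, .d], 2),
  ([.d, .c, .h, .d, .e, .f, .i, .h, .d, .c, .e, .d], 2)]

theorem chkW0 : chkWB wl0 0 = true := by decide +kernel

/-- words conjugating the elements of `R0` to the representatives -/
def wl1 : List (List Gen × ℕ) := [
  ([.c, .h, .d, .c, .i, .h, .d], 1),
  ([.d, .c, .e, .d, .c, .f, .e, .h, .d, .c, .i, .h, .d, .c], 2),
  ([.d, .c, .e, .d, .c, .f, .e, .h, .d, .c, .i, .h, .d], 2),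
  ([.e, .h], 2),
  ([.d, .e, .d, .h], 4),
  ([.d, .e, .d, .c, .h], 4),
  ([.h], 2),
  ([.e, .d, .h], 4),
  ([.e, .d, .c, .h], 4)]

theorem chkW1 : chkWB wl1 9 = true := by decide +kernel

/-- words conjugating the elements of `R0` to the representatives -/
def wl2 : List (List Gen × ℕ) := [
  ([.h, .d, .c, .i, .h, .d], 1),
  ([.d, .c, .e, .d, .f, .e, .h, .d, .c, .i, .h, .d, .c], 2),
  ([.d, .c, .e, .d, .f, .e, .h, .d, .c, .i, .h, .d], 2),
  ([.e], 2),
  ([.d, .e, .d], 4),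
  ([.d, .e, .d, .c], 4),
  ([], 2),
  ([.e, .d], 4),
  ([.e, .d, .c], 4)]

theorem chkW2 : chkWB wl2 18 = true := by decide +kernel

/-- words conjugating the elements of `R0` to the representatives -/
def wl3 : List (List Gen × ℕ) := [
  ([.d, .c, .e, .d, .h, .i, .h, .d, .e, .f], 2),
  ([.d, .h, .d, .c, .e, .d, .f, .i], 3),
  ([.d, .e, .h, .d, .c, .e, .d, .f, .e, .i, .h], 3),
  ([.d, .c, .h, .d, .c, .e, .d, .f, .e, .h, .i, .h], 3),
  ([.d, .e, .h, .d, .c, .e, .d], 3),
  ([.d, .c, .e, .d, .i, .h, .d, .c, .e], 2),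
  ([.d, .c, .e, .f, .e, .d, .c, .h, .i, .h, .d], 3),
  ([.d, .c, .e, .i, .h, .d], 2),
  ([.d, .c, .h, .d, .c, .e, .d, .h], 3)]

theorem chkW3 : chkWB wl3 27 = true := by decide +kernel

/-- words conjugating the elements of `R0` to the representatives -/
def wl4 : List (List Gen × ℕ) := [
  ([.d, .h, .d, .c, .e, .d, .f, .h, .i, .h], 3),
  ([.d, .e, .h, .d, .c, .e, .d, .f, .e], 3),
  ([.d, .c, .e, .h, .d, .i, .h, .d, .e, .f], 2),
  ([.d, .e, .h, .d, .c, .e, .d, .h, .i], 3),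
  ([.d, .c, .e, .f, .i, .h, .d, .e], 2),
  ([.d, .c, .h, .d, .c, .e, .d, .f, .e, .h], 3),
  ([.d, .c, .e, .d, .h, .i, .h, .d], 2),
  ([.d, .c, .h, .d, .c, .e, .d, .i], 3),
  ([.d, .c, .e, .h, .d, .c, .e, .d, .f, .i, .h], 3)]

theorem chkW4 : chkWB wl4 36 = true := by decide +kernel

/-- words conjugating the elements of `R0` to the representatives -/
def wl5 : List (List Gen × ℕ) := [
  ([.d, .e, .h, .d, .c, .e, .d, .f, .e, .h, .i], 3),
  ([.d, .c, .e, .i, .h, .d, .e, .f], 2),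
  ([.d, .h, .d, .c, .e, .d, .f, .h], 3),
  ([.d, .c, .e, .d, .f, .h, .i, .h, .d, .e], 2),
  ([.d, .c, .h, .d, .c, .e, .d, .f, .e, .i], 3),
  ([.d, .e, .h, .d, .c, .e, .d, .i, .h], 3),
  ([.d, .c, .h, .d, .c, .e, .d, .h, .i, .h], 3),
  ([.d, .c, .e, .h, .d, .c, .e, .d, .f], 3),
  ([.d, .c, .e, .h, .d, .i, .h, .d], 2)]

theorem chkW5 : chkWB wl5 45 = true := by decide +kernel

/-- words conjugating the elements of `R0` to the representatives -/
def wl6 : List (List Gen × ℕ) := [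
  ([.d, .c, .e, .d, .c, .h, .d, .e, .f, .i], 2),
  ([.c, .e, .d, .f, .e, .d, .c, .h, .d, .i], 3),
  ([.c, .e, .d, .f, .e, .d, .c, .h, .d, .c, .e, .i, .h], 3),
  ([.c, .e, .d, .f, .e, .d, .c, .h, .d, .e, .f, .i], 3),
  ([.c, .d, .e, .d, .f, .e, .d, .c, .h, .d, .c, .i, .h], 3),
  ([.d, .c, .e, .d, .c, .f, .h, .d, .e, .i], 2),
  ([.c, .d, .f, .h, .d, .c, .e, .d, .f, .h, .i, .h, .d], 3),
  ([.d, .c, .e, .d, .c, .h, .d, .i], 2),
  ([.c, .d, .e, .d, .f, .e, .d, .c, .h, .d, .e, .i], 3)]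

theorem chkW6 : chkWB wl6 54 = true := by decide +kernel

/-- words conjugating the elements of `R0` to the representatives -/
def wl7 : List (List Gen × ℕ) := [
  ([.c, .d, .f, .h, .d, .c, .e, .d, .f, .i, .h, .d, .c, .e], 3),
  ([.c, .d, .e, .d, .f, .e, .d, .c, .h, .d, .c], 3),
  ([.d, .c, .e, .d, .c, .h, .d, .c, .e], 2),
  ([.c, .f, .h, .d, .c, .e, .d, .f, .i, .h, .d], 3),
  ([.d, .c, .f, .e, .h, .d, .i, .h], 2),
  ([.c, .d, .f, .h, .d, .c, .e, .d, .i, .h, .d, .c], 3),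
  ([.d, .c, .f, .e, .h, .d, .e, .f, .i, .h], 2),
  ([.c, .e, .d, .c, .f, .e, .d, .c, .h, .d, .i, .h], 3),
  ([.c, .e, .d, .f, .e, .d, .c, .h, .d, .c, .e], 3)]

theorem chkW7 : chkWB wl7 63 = true := by decide +kernel

/-- words conjugating the elements of `R0` to the representatives -/
def wl8 : List (List Gen × ℕ) := [
  ([.c, .d, .f, .h, .d, .c, .e, .f, .i, .h, .d], 3),
  ([.d, .c, .f, .e, .h, .d], 2),
  ([.c, .e, .d, .c, .i, .h, .d, .c, .e, .d], 3),
  ([.d, .c, .f, .e, .h, .d, .e, .f], 2),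
  ([.c, .e, .d, .c, .f, .e, .d, .c, .h, .d], 3),
  ([.c, .d, .e, .d, .h, .i, .h, .d, .c, .e, .d, .f, .e], 3),
  ([.c, .e, .d, .c, .f, .e, .d, .c, .h, .d, .e, .f], 3),
  ([.c, .d, .e, .d, .h, .i, .h, .d, .c, .e, .d], 3),
  ([.d, .c, .e, .f, .e, .h, .d, .e], 2)]

theorem chkW8 : chkWB wl8 72 = true := by decide +kernel

/-- elements of `W(E6)` commuting with `rho 1` -/
def cl1 : List (List Gen) := [
  [],
  [.c, .e, .d, .c, .i, .h, .d, .c, .e, .d, .h],
  [.d, .e, .d, .c, .h, .d, .c, .e, .d, .h, .i],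
  [.h, .d, .c, .e, .d, .h, .i, .h, .d, .c, .e, .d, .h, .i],
  [.d, .e, .d, .c, .h, .d, .c, .e, .d, .f, .h],
  [.d, .e, .d, .c, .h, .d, .c, .e, .d, .f, .h, .i],
  [.e, .d, .c, .f, .e, .d, .h, .d, .c, .e, .d, .f, .e],
  [.h, .d, .c, .e, .d, .h, .i, .h, .d, .c, .e, .d, .f, .h],
  [.e, .d, .c, .f, .e, .d, .h, .d, .c, .e, .d, .f, .e, .i],
  [.d, .h, .d, .c, .e, .d, .f, .e, .h, .d, .i, .h, .d, .c, .e, .d, .f, .e],
  [.d, .e, .d, .c, .f, .e, .d, .h, .d, .e, .f, .i, .h, .d, .c, .e, .d, .h],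
  [.d, .h, .d, .c, .e, .d, .f, .e, .h, .d, .c, .i, .h, .d, .c, .e, .d, .f, .e],
  [.d, .e, .d, .c, .f, .e, .d, .h, .d, .e, .f, .i, .h, .d, .c, .e, .d, .h, .i],
  [.e, .d, .c, .h, .d, .c, .e, .d, .f, .e, .h, .d, .c, .i, .h, .d, .c, .e, .d, .h],
  [.e, .d, .c, .h, .d, .c, .e, .d, .f, .e, .h, .d, .c, .i, .h, .d, .c, .e, .d, .h, .i],
  [.e, .d, .c, .h, .d, .c, .e, .d, .f, .e, .h, .d, .c, .i, .h, .d, .c, .e, .d, .f, .h],
  [.e, .d, .c, .h, .d, .c, .e, .d, .f, .e, .h, .d, .c, .i, .h, .d, .c, .e, .d, .f, .h, .i],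
  [.c, .e, .d, .c, .f, .e, .d, .h, .d, .c, .e, .d, .f, .e, .h, .d, .c, .i, .h, .d, .c, .e, .d, .f, .e, .h, .d, .c, .i, .h, .d, .e]]

def sl1 : List ℕ := [
  0, 0, 4136, 1, 1, 4138, 2, 2, 4131, 4, 4, 4135, 5, 5,
  4137, 3, 3, 4133, 8, 8, 4134, 6, 6, 4139, 7, 7, 4132, 2187,
  0, 733, 2195, 1, 734, 2191, 2, 732, 2192, 4, 737, 2188, 5, 735,
  2193, 3, 736, 2194, 8, 729, 2190, 6, 730, 2189, 7, 731, 1706, 2681,
  733, 1704, 2677, 734, 1705, 2673, 732, 1707, 2674, 737, 1708, 2679, 735, 1709,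
  2678, 736, 1702, 2676, 729, 1703, 2675, 730, 1701, 2680, 731, 2430, 244, 1462,
  2438, 246, 1463, 2434, 251, 1461, 2435, 243, 1466, 2431, 248, 1464, 2436, 250,
  1465, 2437, 245, 1458, 2433, 247, 1459, 2432, 249, 1460, 3167, 249, 0, 3165,
  245, 1, 3166, 247, 2, 3159, 251, 4, 3160, 244, 5, 3161, 246, 3,
  3163, 250, 8, 3164, 243, 6, 3162, 248, 7, 244, 3651, 979, 246, 3652,
  975, 251, 3653, 974, 243, 3646, 972, 248, 3647, 980, 250, 3645, 976, 245,
  3650, 977, 247, 3648, 973, 249, 3649, 978, 1949, 2924, 486, 1947, 2920, 494,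
  1948, 2916, 490, 1950, 2917, 491, 1951, 2922, 487, 1952, 2921, 492, 1945, 2919,
  493, 1946, 2918, 489, 1944, 2923, 488, 490, 3408, 493, 486, 3409, 489, 494,
  3410, 488, 492, 3403, 486, 491, 3404, 494, 487, 3402, 490, 488, 3407, 491,
  493, 3405, 487, 489, 3406, 492, 1218, 734, 3895, 1217, 732, 3896, 1222, 733,
  3894, 1223, 735, 3890, 1219, 736, 3888, 1215, 737, 3889, 1216, 730, 3891, 1221,
  731, 3892, 1220, 729, 3893]

def rl1 : List ℕ := [0, 1, 28, 110]

/-- elements of `W(E6)` commuting with `rho 2` -/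
def cl2 : List (List Gen) := [
  [],
  [.c],
  [.f, .e],
  [.i, .h],
  [.c, .e, .f],
  [.c, .f, .e],
  [.d, .e, .d, .f, .h, .d, .e, .f, .i, .h, .d],
  [.d, .e, .d, .f, .h, .d, .e, .i, .h, .d, .e],
  [.d, .e, .f, .e, .h, .d, .e, .f, .i, .h, .d],
  [.d, .e, .f, .e, .h, .d, .e, .i, .h, .d, .c, .e],
  [.d, .e, .f, .e, .h, .d, .e, .f, .i, .h, .d, .c],
  [.d, .e, .d, .f, .h, .d, .e, .i, .h, .d, .c, .e],
  [.c, .d, .e, .f, .e, .h, .d, .e, .f, .i, .h, .d],
  [.c, .d, .e, .d, .f, .h, .d, .e, .i, .h, .d, .e],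
  [.c, .d, .e, .d, .f, .h, .d, .e, .f, .i, .h, .d],
  [.d, .e, .f, .h, .d, .c, .e, .d, .h, .i, .h, .d, .c, .e, .d, .f, .e, .h, .d],
  [.d, .e, .d, .f, .e, .h, .d, .c, .e, .d, .h, .i, .h, .d, .c, .e, .d, .f, .e, .h, .d],
  [.d, .e, .f, .e, .d, .h, .d, .c, .e, .d, .h, .i, .h, .d, .c, .e, .d, .f, .e, .h, .d]]

def sl2 : List ℕ := [
  0, 0, 270, 54, 243, 54, 297, 27, 27, 0, 270, 3672, 243, 3645,
  54, 3699, 27, 297, 1530, 3420, 2223, 3447, 2250, 1476, 2196, 1503, 3474, 0,
  0, 270, 54, 243, 54, 297, 27, 27, 486, 1242, 4158, 1215, 4131, 540,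
  4185, 513, 1269, 2007, 2925, 2439, 2952, 2466, 1953, 2493, 1980, 2979, 0, 0,
  270, 54, 243, 54, 297, 27, 27, 774, 972, 3888, 1026, 3942, 747, 3915,
  801, 999, 1773, 3177, 2691, 3204, 2718, 1719, 2745, 1746, 3231, 9, 9, 279,
  63, 252, 63, 306, 36, 36, 729, 1008, 3924, 981, 3897, 783, 3951, 756,
  1035, 1764, 3168, 2682, 3195, 2709, 1710, 2736, 1737, 3222, 9, 9, 279, 63,
  252, 63, 306, 36, 36, 9, 279, 3681, 252, 3654, 63, 3708, 36, 306,
  1494, 3465, 2241, 3411, 2187, 1521, 2214, 1467, 3438, 9, 9, 279, 63, 252,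
  63, 306, 36, 36, 549, 1224, 4140, 1278, 4194, 522, 4167, 495, 1251, 1998,
  2916, 2430, 2943, 2457, 1944, 2484, 1971, 2970, 18, 18, 288, 72, 261, 72,
  315, 45, 45, 531, 1287, 4203, 1260, 4176, 504, 4149, 558, 1233, 2016, 2934,
  2448, 2961, 2475, 1962, 2502, 1989, 2988, 18, 18, 288, 72, 261, 72, 315,
  45, 45, 792, 1044, 3960, 1017, 3933, 765, 3906, 738, 990, 1755, 3159, 2673,
  3186, 2700, 1701, 2727, 1728, 3213, 18, 18, 288, 72, 261, 72, 315, 45,
  45, 18, 288, 3690, 261, 3663, 72, 3717, 45, 315, 1458, 3429, 2205, 3456,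
  2232, 1485, 2259, 1512, 3402]

def rl2 : List ℕ := [0, 1, 9, 27, 28, 54, 55]

/-- elements of `W(E6)` commuting with `rho 3` -/
def cl3 : List (List Gen) := [
  []]

def sl3 : List ℕ := [
  0, 0, 0, 58, 58, 58, 35, 35, 35, 33, 33, 33, 1, 1,
  1, 59, 59, 59, 57, 57, 57, 34, 34, 34, 2, 2, 2, 61,
  61, 61, 29, 29, 29, 3, 3, 3, 4, 4, 4, 62, 62, 62,
  27, 27, 27, 28, 28, 28, 5, 5, 5, 60, 60, 60, 32, 32,
  32, 6, 6, 6, 55, 55, 55, 56, 56, 56, 30, 30, 30, 7,
  7, 7, 8, 8, 8, 54, 54, 54, 31, 31, 31, 44, 44, 44,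
  9, 9, 9, 67, 67, 67, 68, 68, 68, 42, 42, 42, 10, 10,
  10, 11, 11, 11, 66, 66, 66, 43, 43, 43, 12, 12, 12, 70,
  70, 70, 38, 38, 38, 36, 36, 36, 13, 13, 13, 71, 71, 71,
  69, 69, 69, 37, 37, 37, 14, 14, 14, 64, 64, 64, 41, 41,
  41, 15, 15, 15, 16, 16, 16, 65, 65, 65, 39, 39, 39, 40,
  40, 40, 17, 17, 17, 63, 63, 63, 76, 76, 76, 53, 53, 53,
  18, 18, 18, 19, 19, 19, 77, 77, 77, 51, 51, 51, 52, 52,
  52, 20, 20, 20, 75, 75, 75, 47, 47, 47, 21, 21, 21, 79,
  79, 79, 80, 80, 80, 45, 45, 45, 22, 22, 22, 23, 23, 23,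
  78, 78, 78, 46, 46, 46, 24, 24, 24, 73, 73, 73, 50, 50,
  50, 48, 48, 48, 25, 25, 25, 74, 74, 74, 72, 72, 72, 49,
  49, 49, 26, 26, 26]

def rl3 : List ℕ := [0, 1, 2]

/-- elements of `W(E6)` commuting with `rho 4` -/
def cl4 : List (List Gen) := [
  [],
  [.c, .d, .h, .d],
  [.d, .h, .d, .c],
  [.c, .d, .e, .f, .e, .h],
  [.c, .e, .d, .h, .d, .i],
  [.d, .c, .f, .h, .d, .c, .e, .f],
  [.d, .f, .h, .d, .c, .e, .d, .f],
  [.c, .d, .c, .e, .d, .f, .h, .i],
  [.c, .d, .f, .e, .h, .d, .e, .f],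
  [.c, .d, .h, .i, .h, .d, .c, .e],
  [.d, .h, .d, .c, .e, .d, .i, .h, .d, .e],
  [.h, .d, .c, .e, .d, .f, .e, .h, .d, .i],
  [.c, .d, .c, .e, .d, .h, .d, .e, .f, .i],
  [.c, .d, .e, .f, .h, .d, .i, .h, .d, .e],
  [.c, .d, .e, .h, .d, .e, .i, .h, .d, .e],
  [.d, .f, .h, .d, .c, .e, .f, .i, .h, .d, .c, .e],
  [.d, .c, .h, .d, .i, .h, .d, .c, .e, .d, .f, .e],
  [.d, .c, .f, .h, .d, .c, .i, .h, .d, .c, .e, .d],
  [.d, .c, .e, .d, .h, .d, .e, .f, .i, .h, .d, .c],
  [.c, .d, .c, .f, .e, .h, .d, .c, .e, .d, .f, .h],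
  [.c, .d, .c, .h, .d, .c, .e, .d, .f, .e, .h, .i],
  [.c, .d, .e, .f, .e, .h, .d, .i, .h, .d, .c, .e],
  [.c, .d, .e, .f, .h, .d, .e, .f, .i, .h, .d, .e],
  [.c, .d, .h, .d, .e, .i, .h, .d, .c, .e, .d, .h]]

def sl4 : List ℕ := [
  0, 0, 3646, 4861, 486, 4139, 5346, 249, 1703, 5590, 0, 4377, 2188, 1458,
  3896, 3410, 734, 2924, 5103, 4620, 0, 2681, 1222, 2434, 3159, 1950, 974, 1945,
  975, 3163, 4622, 1, 5104, 1220, 2432, 2676, 244, 1706, 5350, 1, 3645, 1,
  493, 4136, 4868, 735, 2918, 3402, 1, 4378, 5589, 1465, 3893, 2194, 3890, 2191,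
  1463, 2921, 3406, 730, 4379, 5591, 2, 2436, 2674, 1215, 979, 3167, 1949, 2,
  5105, 4621, 4133, 4863, 491, 1709, 5354, 248, 3647, 2, 2, 2675, 1218, 2435,
  3162, 1948, 973, 5106, 4619, 3, 4862, 489, 4134, 5348, 243, 1708, 3, 3,
  3651, 2195, 1459, 3888, 3405, 733, 2917, 5597, 3, 4382, 4, 4380, 5596, 1466,
  3894, 2192, 737, 2920, 3409, 4618, 4, 5107, 1216, 2430, 2679, 1952, 977, 3166,
  4, 3653, 4, 487, 4131, 4866, 247, 1702, 5349, 1705, 5353, 251, 3652, 5,
  5, 4137, 4864, 494, 2923, 3404, 729, 4381, 5595, 5, 3891, 2189, 1461, 978,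
  3161, 1944, 5, 5108, 4617, 2437, 2677, 1223, 3403, 732, 2919, 5592, 6, 4375,
  2190, 1460, 3892, 3165, 1946, 972, 5109, 4624, 6, 2678, 1217, 2433, 5347, 246,
  1704, 6, 6, 3650, 4860, 492, 4132, 490, 4138, 4867, 250, 1707, 5351, 7,
  3649, 7, 1464, 3889, 2187, 736, 2922, 3407, 7, 4376, 5594, 1221, 2431, 2673,
  1947, 976, 3160, 4623, 7, 5110, 8, 5111, 4625, 2438, 2680, 1219, 980, 3164,
  1951, 3648, 8, 8, 4135, 4865, 488, 1701, 5352, 245, 4374, 5593, 8, 3895,
  2193, 1462, 2916, 3408, 731]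

def rl4 : List ℕ := [0, 1, 10, 20]

/-- the check of one index -/
noncomputable def chk1 (cl : List (List Gen)) (sl rl : List ℕ) (r : List Gen) (n : ℕ) : Bool :=
  rl.elem (addN (addN (sl.getD n 0 % 243) (apwF (cl.getD (sl.getD n 0 / 243) []) n)) (negN (apwF r (sl.getD n 0 % 243))))

/-- all checks of a representative -/
noncomputable def chkJ (cl : List (List Gen)) (sl rl : List ℕ) (r : List Gen) : Bool :=
  and ((List.range 243).all fun n => chk1 cl sl rl r n) (and (r.all ok7) (cl.all fun c => and (c.all ok7) (eqF (c ++ r) (r ++ c))))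

private noncomputable def _root_.Cfsg.Agent.KObb4999d.k1 : (by first | exact type_of% @Cfsg.Agent.H3.Ore.FC.st7 | exact Unit : Sort _) := by first | (refine @Subtype.val _ (fun g => @Cfsg.Agent.H3.Ore.FC.st7 = @g) (@Subtype.mk _ _ (@(fun x0 x1 x2 x3 x4 x5 x6 x7 x8 => @Cfsg.Agent.KObb4999d.k0 (@Nat.mod (@Nat.land (@Nat.shiftRight @x0 @x2) @Cfsg.Agent.H3.Ore.FC.plM) (nat_lit 8191)) @(fun x9 => @Cfsg.Agent.KObb4999d.k0 (@Nat.mod (@Nat.land (@Nat.shiftRight @x0 @x3) @Cfsg.Agent.H3.Ore.FC.plM) (nat_lit 8191)) @(fun x10 => @Cfsg.Agent.KObb4999d.k0 (@Nat.mod (@Nat.land (@Nat.shiftRight @x0 @x4) @Cfsg.Agent.H3.Ore.FC.plM) (nat_lit 8191)) @(fun x11 => @Cfsg.Agent.KObb4999d.k0 (@Nat.mod (@Nat.land (@Nat.shiftRight @x0 @x5) @Cfsg.Agent.H3.Ore.FC.plM) (nat_lit 8191)) @(fun x12 => @Cfsg.Agent.KObb4999d.k0 (@Nat.mod (@Nat.land (@Nat.shiftRight @x0 @x6) @Cfsg.Agent.H3.Ore.FC.plM) (nat_lit 8191)) @(fun x13 => @Cfsg.Agent.KObb4999d.k0 (@Nat.mod (@Nat.land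 (@Nat.shiftRight @x0 @x7) @Cfsg.Agent.H3.Ore.FC.plM) (nat_lit 8191)) @(fun x14 => @Cfsg.Agent.KObb4999d.k0 (@Nat.mod (@Nat.land (@Nat.shiftRight @x0 @x8) @Cfsg.Agent.H3.Ore.FC.plM) (nat_lit 8191)) @(fun x15 => @x1 @x9 @x10 @x11 @x12 @x13 @x14 @x15))))))))) ?_); rewrite [← Cfsg.Agent.KObb4999d.e0]; (try delta Cfsg.Agent.H3.Ore.FC.st7 Cfsg.Agent.H3.Ore.FC.plk); (try generalize @Cfsg.Agent.Lib.PermNet.seqB = g0); (try generalize @Cfsg.Agent.H3.Ore.FC.plM = g1); rfl') | exact @Cfsg.Agent.H3.Ore.FC.st7 | exact ()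
private theorem _root_.Cfsg.Agent.KObb4999d.e1 : (by first | exact @Cfsg.Agent.H3.Ore.FC.st7 = @_root_.Cfsg.Agent.KObb4999d.k1 | exact True : Prop) := by first | (delta _root_.Cfsg.Agent.KObb4999d.k1; exact @Subtype.property _ (fun g => @Cfsg.Agent.H3.Ore.FC.st7 = @g) _) | rfl | trivial
private noncomputable def _root_.Cfsg.Agent.KObb4999d.k2 : (by first | exact type_of% @Cfsg.Agent.H3.Ore.FC.fw7 | exact Unit : Sort _) := by first | (refine @Subtype.val _ (fun g => @Cfsg.Agent.H3.Ore.FC.fw7 = @g) (@Subtype.mk _ _ (@(fun x0 => @List.rec.{1, 0} @Cfsg.Spor.Fi22.Gen @(fun x1 => (ℕ → ℕ → ℕ → ℕ → ℕ → ℕ → ℕ → @Bool) → ℕ → ℕ → ℕ → ℕ → ℕ → ℕ → ℕ → @Bool) @(fun x1 => @x1) @(fun x1 x2 x3 x4 => @x3 (@Cfsg.Agent.KObb4999d.k1 (@Cfsg.Spor.Fi22.Gen.rec.{1} @(fun x5 => ℕ) @Cfsg.Agent.H3.Ore.FC.pl_a @Cfsg.Agent.H3.Ore.FC.pl_b @Cfsg.Agent.H3.Ore.FC.pl_c @Cfsg.Agent.H3.Ore.FC.pl_d @Cfsg.Agent.H3.Ore.FC.pl_e @Cfsg.Agent.H3.Ore.FC.pl_f @Cfsg.Agent.H3.Ore.FC.pl_g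 @Cfsg.Agent.H3.Ore.FC.pl_h @Cfsg.Agent.H3.Ore.FC.pl_i @x1) @x4)) @x0)) ?_); rewrite [← Cfsg.Agent.KObb4999d.e1]; (try delta Cfsg.Agent.H3.Ore.FC.fw7 Cfsg.Agent.H3.Ore.FC.plT); (try generalize @Cfsg.Agent.H3.Ore.FC.st7 = g0); (try generalize @Cfsg.Agent.H3.Ore.FC.pl_a = g1); (try generalize @Cfsg.Agent.H3.Ore.FC.pl_b = g2); (try generalize @Cfsg.Agent.H3.Ore.FC.pl_c = g3); (try generalize @Cfsg.Agent.H3.Ore.FC.pl_d = g4); (try generalize @Cfsg.Agent.H3.Ore.FC.pl_e = g5); (try generalize @Cfsg.Agent.H3.Ore.FC.pl_f = g6); (try generalize @Cfsg.Agent.H3.Ore.FC.pl_g = g7); (try generalize @Cfsg.Agent.H3.Ore.FC.pl_h = g8); (try generalize @Cfsg.Agent.H3.Ore.FC.pl_i = g9); rfl') | exact @Cfsg.Agent.H3.Ore.FC.fw7 | exact ()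
private theorem _root_.Cfsg.Agent.KObb4999d.e2 : (by first | exact @Cfsg.Agent.H3.Ore.FC.fw7 = @_root_.Cfsg.Agent.KObb4999d.k2 | exact True : Prop) := by first | (delta _root_.Cfsg.Agent.KObb4999d.k2; exact @Subtype.property _ (fun g => @Cfsg.Agent.H3.Ore.FC.fw7 = @g) _) | rfl | trivial
private noncomputable def _root_.Cfsg.Agent.KObb4999d.k3 : (by first | exact type_of% @Cfsg.Agent.H3.Ore.FC.eqF | exact Unit : Sort _) := by first | (refine @Subtype.val _ (fun g => @Cfsg.Agent.H3.Ore.FC.eqF = @g) (@Subtype.mk _ _ (@(fun x0 x1 => @Cfsg.Agent.KObb4999d.k2 @x0 @(fun x2 x3 x4 x5 x6 x7 x8 => @Cfsg.Agent.KObb4999d.k2 @x1 @(fun x9 x10 x11 x12 x13 x14 x15 => @Bool.rec.{1} @(fun x16 => @Bool) @Bool.false (@Bool.rec.{1} @(fun x16 => @Bool) @Bool.false (@Bool.rec.{1} @(fun x16 => @Bool) @Bool.false (@Bool.rec.{1} @(fun x16 => @Bool) @Bool.false (@Bool.rec.{1} @(fun x16 => @Bool) @Bool.false (@Bool.rec.{1} @(fun x16 => @Bool) @Bool.false (@Bool.rec.{1}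 @(fun x16 => @Bool) @Bool.false @Bool.true (@Nat.beq @x8 @x15)) (@Nat.beq @x7 @x14)) (@Nat.beq @x6 @x13)) (@Nat.beq @x5 @x12)) (@Nat.beq @x4 @x11)) (@Nat.beq @x3 @x10)) (@Nat.beq @x2 @x9)) (nat_lit 92) (nat_lit 88) (nat_lit 43) (nat_lit 40) (nat_lit 16) (nat_lit 2) (nat_lit 0)) (nat_lit 92) (nat_lit 88) (nat_lit 43) (nat_lit 40) (nat_lit 16) (nat_lit 2) (nat_lit 0))) ?_); rewrite [← Cfsg.Agent.KObb4999d.e2]; (try delta Cfsg.Agent.H3.Ore.FC.eqF); (try generalize @Cfsg.Agent.H3.Ore.FC.fw7 = g0); rfl') | exact @Cfsg.Agent.H3.Ore.FC.eqF | exact ()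
private theorem _root_.Cfsg.Agent.KObb4999d.e3 : (by first | exact @Cfsg.Agent.H3.Ore.FC.eqF = @_root_.Cfsg.Agent.KObb4999d.k3 | exact True : Prop) := by first | (delta _root_.Cfsg.Agent.KObb4999d.k3; exact @Subtype.property _ (fun g => @Cfsg.Agent.H3.Ore.FC.eqF = @g) _) | rfl | trivial
private noncomputable def _root_.Cfsg.Agent.KObb4999d.k38 : (by first | exact type_of% @Cfsg.Agent.H3.Ore.FR.ok7 | exact Unit : Sort _) := by first | (refine @Subtype.val _ (fun g => @Cfsg.Agent.H3.Ore.FR.ok7 = @g) (@Subtype.mk _ _ (@(fun x0 => @Cfsg.Spor.Fi22.Gen.rec.{1} @(fun x1 => ((@Nat.hasNotBit (nat_lit 65) (@Cfsg.Spor.Fi22.Gen.ctorIdx @x1)) → @Bool) → @Bool) @(fun x1 => @Bool.false) @(fun x1 => @x1 (@Nat.ne_of_beq_eq_false _ _ (@Eq.refl.{1} _ @Bool.false))) @(fun x1 => @x1 (@Nat.ne_of_beq_eq_false _ _ (@Eq.refl.{1} _ @Bool.false))) @(fun x1 => @x1 (@Nat.ne_of_beq_eq_false _ _ (@Eq.refl.{1} _ @Bool.false))) @(fun x1 => @x1 (@Nat.ne_of_beq_eq_false _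 _ (@Eq.refl.{1} _ @Bool.false))) @(fun x1 => @x1 (@Nat.ne_of_beq_eq_false _ _ (@Eq.refl.{1} _ @Bool.false))) @(fun x1 => @Bool.false) @(fun x1 => @x1 (@Nat.ne_of_beq_eq_false _ _ (@Eq.refl.{1} _ @Bool.false))) @(fun x1 => @x1 (@Nat.ne_of_beq_eq_false _ _ (@Eq.refl.{1} _ @Bool.false))) @x0 @(fun x1 => @Bool.true))) ?_); (try delta Cfsg.Agent.H3.Ore.FR.ok7); (try generalize @Cfsg.Spor.Fi22.Gen.ctorIdx = g0); rfl') | exact @Cfsg.Agent.H3.Ore.FR.ok7 | exact ()
private theorem _root_.Cfsg.Agent.KObb4999d.e38 : (by first | exact @Cfsg.Agent.H3.Ore.FR.ok7 = @_root_.Cfsg.Agent.KObb4999d.k38 | exact True : Prop) := by first | (delta _root_.Cfsg.Agent.KObb4999d.k38; exact @Subtype.property _ (fun g => @Cfsg.Agent.H3.Ore.FR.ok7 = @g) _) | rfl | trivial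
private noncomputable def _root_.Cfsg.Agent.KObb4999d.k39.{ku0} : type_of% @List.append.{ku0} := @(fun x0 x1 x2 => @List.rec.{(ku0+1), ku0} @x0 @(fun x3 => (@List.{ku0} @x0) → @List.{ku0} @x0) @(fun x3 => @x3) @(fun x3 x4 x5 x6 => @x3 :: (@x5 @x6)) @x1 @x2)
private theorem _root_.Cfsg.Agent.KObb4999d.e39.{ku0} : @List.append.{ku0} = @_root_.Cfsg.Agent.KObb4999d.k39.{ku0} := by delta _root_.Cfsg.Agent.KObb4999d.k39; funext a0 a1 a2; refine (congrFun (_root_.Cfsg.Agent.KObb4999d.e4 (fun a1 a2 => @List.append.{ku0} a0 a1 a2) ?_ (fun c0 c1 => ?_) a1) a2 :) <;> (rfl')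
private noncomputable def _root_.Cfsg.Agent.KObb4999d.k42 : (by first | exact type_of% @Cfsg.Agent.H3.Ore.FR.rho | exact Unit : Sort _) := by first | (refine @Subtype.val _ (fun g => @Cfsg.Agent.H3.Ore.FR.rho = @g) (@Subtype.mk _ _ (@(fun x0 => @Option.rec.{1, 0} (@List.{0} @Cfsg.Spor.Fi22.Gen) @(fun x1 => @List.{0} @Cfsg.Spor.Fi22.Gen) [] @(fun x1 => @x1) (@Cfsg.Agent.KObb4999d.k28.{0} _ ([] :: ((@Cfsg.Spor.Fi22.Gen.c :: (@Cfsg.Spor.Fi22.Gen.d :: [])) :: ((@Cfsg.Spor.Fi22.Gen.e :: (@Cfsg.Spor.Fi22.Gen.f :: (@Cfsg.Spor.Fi22.Gen.h :: (@Cfsg.Spor.Fi22.Gen.i :: [])))) :: ((@Cfsg.Spor.Fi22.Gen.c :: (@Cfsg.Spor.Fi22.Gen.d :: (@Cfsg.Spor.Fi22.Gen.c :: (@Cfsg.Spor.Fi22.Gen.e :: (@Cfsg.Spor.Fi22.Gen.d :: (@Cfsg.Spor.Fi22.Gen.f :: (@Cfsg.Spor.Fi22.Gen.h :: (@Cfsg.Spor.Fi22.Gen.i :: [])))))))) :: ((@Cfsg.Spor.Fi22.Gen.c :: (@Cfsg.Spor.Fi22.Gen.d :: (@Cfsg.Spor.Fi22.Gen.c :: (@Cfsg.Spor.Fi22.Gen.e :: (@Cfsg.Spor.Fi22.Gen.d :: (@Cfsg.Spor.Fi22.Gen.c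 :: (@Cfsg.Spor.Fi22.Gen.f :: (@Cfsg.Spor.Fi22.Gen.e :: (@Cfsg.Spor.Fi22.Gen.h :: (@Cfsg.Spor.Fi22.Gen.d :: (@Cfsg.Spor.Fi22.Gen.c :: (@Cfsg.Spor.Fi22.Gen.e :: (@Cfsg.Spor.Fi22.Gen.d :: (@Cfsg.Spor.Fi22.Gen.f :: (@Cfsg.Spor.Fi22.Gen.h :: (@Cfsg.Spor.Fi22.Gen.i :: (@Cfsg.Spor.Fi22.Gen.h :: (@Cfsg.Spor.Fi22.Gen.d :: (@Cfsg.Spor.Fi22.Gen.c :: (@Cfsg.Spor.Fi22.Gen.e :: (@Cfsg.Spor.Fi22.Gen.d :: (@Cfsg.Spor.Fi22.Gen.f :: (@Cfsg.Spor.Fi22.Gen.h :: (@Cfsg.Spor.Fi22.Gen.i :: [])))))))))))))))))))))))) :: []))))) @x0))) ?_); rewrite [← Cfsg.Agent.KObb4999d.e28.{0}]; rfl') | exact @Cfsg.Agent.H3.Ore.FR.rho | exact ()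
private theorem _root_.Cfsg.Agent.KObb4999d.e42 : (by first | exact @Cfsg.Agent.H3.Ore.FR.rho = @_root_.Cfsg.Agent.KObb4999d.k42 | exact True : Prop) := by first | (delta _root_.Cfsg.Agent.KObb4999d.k42; exact @Subtype.property _ (fun g => @Cfsg.Agent.H3.Ore.FR.rho = @g) _) | rfl | trivial
private noncomputable def _root_.Cfsg.Agent.KObb4999d.oEq.{ku} (α : Sort ku) (a b : Nat) (f t : α) : α := @Decidable.rec (a = b) (fun _ => α) (fun _ => f) (fun _ => t) (Nat.decEq a b)
private noncomputable def _root_.Cfsg.Agent.KObb4999d.k44.{ku} (α : Sort ku) (a b : Nat) (f t : α) : α := @Bool.rec (fun _ => α) f t (Nat.beq a b)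
private theorem _root_.Cfsg.Agent.KObb4999d.e44.{ku} : @_root_.Cfsg.Agent.KObb4999d.oEq.{ku} = @_root_.Cfsg.Agent.KObb4999d.k44.{ku} := funext fun α => funext fun a => funext fun b => funext fun f => funext fun t => by delta _root_.Cfsg.Agent.KObb4999d.oEq _root_.Cfsg.Agent.KObb4999d.k44; cases h : Nat.beq a b <;> cases Nat.decEq a b <;> rename_i g <;> first | rfl | exact absurd g (Nat.ne_of_beq_eq_false h) | exact absurd (Nat.eq_of_beq_eq_true h) g
private noncomputable def _root_.Cfsg.Agent.KObb4999d.k45.{ku0} : type_of% @List.elem.{ku0} := @(fun x0 x1 x2 x3 => @List.rec.{1, ku0} @x0 @(fun x4 => @Bool) @Bool.false @(fun x4 x5 x6 => @Bool.rec.{1} @(fun x7 => @Bool) @x6 @Bool.true (@BEq.beq.{ku0} _ @x1 @x2 @x4)) @x3)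
private theorem _root_.Cfsg.Agent.KObb4999d.e45.{ku0} : @List.elem.{ku0} = @_root_.Cfsg.Agent.KObb4999d.k45.{ku0} := by delta _root_.Cfsg.Agent.KObb4999d.k45; funext a0 a1 a2 a3; refine (_root_.Cfsg.Agent.KObb4999d.e4 (fun a3 => @List.elem.{ku0} a0 a1 a2 a3) ?_ (fun c0 c1 => ?_) a3 :) <;> (rfl')
private noncomputable def _root_.Cfsg.Agent.KObb4999d.k46 : (by first | exact type_of% @Cfsg.Agent.H3.Ore.FR.addN | exact Unit : Sort _) := by first | (refine @Subtype.val _ (fun g => @Cfsg.Agent.H3.Ore.FR.addN = @g) (@Subtype.mk _ _ (@(fun x0 x1 => @Cfsg.Agent.KObb4999d.k35 (@Nat.add (@Nat.mod @x0 (nat_lit 3)) (@Nat.mod @x1 (nat_lit 3))) (@Nat.add (@Nat.mod (@Nat.div @x0 (nat_lit 3)) (nat_lit 3)) (@Nat.mod (@Nat.div @x1 (nat_lit 3)) (nat_lit 3))) (@Nat.add (@Nat.mod (@Nat.div @x0 (nat_lit 9)) (nat_lit 3)) (@Nat.mod (@Nat.div @x1 (nat_lit 9)) (nat_lit 3))) (@Nat.add (@Nat.mod (@Nat.div @x0 (nat_lit 27)) (nat_lit 3)) (@Nat.mod (@Nat.div @x1 (nat_lit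 27)) (nat_lit 3))) (@Nat.add (@Nat.mod (@Nat.div @x0 (nat_lit 81)) (nat_lit 3)) (@Nat.mod (@Nat.div @x1 (nat_lit 81)) (nat_lit 3))))) ?_); rewrite [← Cfsg.Agent.KObb4999d.e35]; (try delta Cfsg.Agent.H3.Ore.FR.addN); (try generalize @Cfsg.Agent.H3.Ore.FR.encd = g0); rfl') | exact @Cfsg.Agent.H3.Ore.FR.addN | exact ()
private theorem _root_.Cfsg.Agent.KObb4999d.e46 : (by first | exact @Cfsg.Agent.H3.Ore.FR.addN = @_root_.Cfsg.Agent.KObb4999d.k46 | exact True : Prop) := by first | (delta _root_.Cfsg.Agent.KObb4999d.k46; exact @Subtype.property _ (fun g => @Cfsg.Agent.H3.Ore.FR.addN = @g) _) | rfl | trivial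
private noncomputable def _root_.Cfsg.Agent.KObb4999d.k47 : (by first | exact type_of% @Cfsg.Agent.Lib.PermNet.seq | exact Unit : Sort _) := by first | (refine @Subtype.val _ (fun g => @Cfsg.Agent.Lib.PermNet.seq = @g) (@Subtype.mk _ _ (@(fun x0 x1 => @Bool.rec.{1} @(fun x2 => ℕ) (@x1 @x0) (@x1 @x0) (@Nat.beq @x0 (nat_lit 0)))) ?_); rfl') | exact @Cfsg.Agent.Lib.PermNet.seq | exact ()
private theorem _root_.Cfsg.Agent.KObb4999d.e47 : (by first | exact @Cfsg.Agent.Lib.PermNet.seq = @_root_.Cfsg.Agent.KObb4999d.k47 | exact True : Prop) := by first | (delta _root_.Cfsg.Agent.KObb4999d.k47; exact @Subtype.property _ (fun g => @Cfsg.Agent.Lib.PermNet.seq = @g) _) | rfl | trivial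
private noncomputable def _root_.Cfsg.Agent.KObb4999d.k48 : (by first | exact type_of% @Cfsg.Agent.H3.Ore.FR.negN | exact Unit : Sort _) := by first | (refine @Subtype.val _ (fun g => @Cfsg.Agent.H3.Ore.FR.negN = @g) (@Subtype.mk _ _ (@(fun x0 => @Cfsg.Agent.KObb4999d.k35 (@Nat.mul (nat_lit 2) (@Nat.mod @x0 (nat_lit 3))) (@Nat.mul (nat_lit 2) (@Nat.mod (@Nat.div @x0 (nat_lit 3)) (nat_lit 3))) (@Nat.mul (nat_lit 2) (@Nat.mod (@Nat.div @x0 (nat_lit 9)) (nat_lit 3))) (@Nat.mul (nat_lit 2) (@Nat.mod (@Nat.div @x0 (nat_lit 27)) (nat_lit 3))) (@Nat.mul (nat_lit 2) (@Nat.mod (@Nat.div @x0 (nat_lit 81)) (nat_lit 3))))) ?_); rewrite [← Cfsg.Agent.KObb4999d.e35]; (try delta Cfsg.Agent.H3.Ore.FR.negN); (try generalize @Cfsg.Agent.H3.Ore.FR.encd = g0); rfl') | exact @Cfsg.Agent.H3.Ore.FR.negN | exact ()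
private theorem _root_.Cfsg.Agent.KObb4999d.e48 : (by first | exact @Cfsg.Agent.H3.Ore.FR.negN = @_root_.Cfsg.Agent.KObb4999d.k48 | exact True : Prop) := by first | (delta _root_.Cfsg.Agent.KObb4999d.k48; exact @Subtype.property _ (fun g => @Cfsg.Agent.H3.Ore.FR.negN = @g) _) | rfl | trivial
private noncomputable def _root_.Cfsg.Agent.KObb4999d.k49 : (by first | exact type_of% @Cfsg.Agent.H3.Ore.FR.chk1 | exact Unit : Sort _) := by first | (refine @Subtype.val _ (fun g => @Cfsg.Agent.H3.Ore.FR.chk1 = @g) (@Subtype.mk _ _ (@(fun x0 x1 x2 x3 x4 => @Cfsg.Agent.KObb4999d.k45.{0} _ (@BEq.mk.{0} _ @(fun x5 x6 => @Cfsg.Agent.KObb4999d.k44.{1} @Bool @x5 @x6 @Bool.false @Bool.true)) (@Cfsg.Agent.KObb4999d.k46 (@Cfsg.Agent.KObb4999d.k46 (@Nat.mod (@Option.rec.{1, 0} ℕ @(fun x5 => ℕ) (nat_lit 0) @(fun x5 => @x5) (@Cfsg.Agent.KObb4999d.k28.{0} _ @x1 @x4)) (nat_lit 243)) (@List.rec.{1, 0} @Cfsg.Spor.Fi22.Gen @(fun x5 => ℕ) @x4 @(fun x5 x6 x7 => @Cfsg.Agent.KObb4999d.k47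 @x7 (@Cfsg.Agent.KObb4999d.k34 @x5)) (@Option.rec.{1, 0} (@List.{0} @Cfsg.Spor.Fi22.Gen) @(fun x5 => @List.{0} @Cfsg.Spor.Fi22.Gen) [] @(fun x5 => @x5) (@Cfsg.Agent.KObb4999d.k28.{0} _ @x0 (@Nat.div (@Option.rec.{1, 0} ℕ @(fun x5 => ℕ) (nat_lit 0) @(fun x5 => @x5) (@Cfsg.Agent.KObb4999d.k28.{0} _ @x1 @x4)) (nat_lit 243)))))) (@Cfsg.Agent.KObb4999d.k48 (@List.rec.{1, 0} @Cfsg.Spor.Fi22.Gen @(fun x5 => ℕ) (@Nat.mod (@Option.rec.{1, 0} ℕ @(fun x5 => ℕ) (nat_lit 0) @(fun x5 => @x5) (@Cfsg.Agent.KObb4999d.k28.{0} _ @x1 @x4)) (nat_lit 243)) @(fun x5 x6 x7 => @Cfsg.Agent.KObb4999d.k47 @x7 (@Cfsg.Agent.KObb4999d.k34 @x5)) @x3))) @x2)) ?_); rewrite [← Cfsg.Agent.KObb4999d.e48, ← Cfsg.Agent.KObb4999d.e34, ← Cfsg.Agent.KObb4999d.e47, ← Cfsg.Agent.KObb4999d.e28.{0}, ← Cfsg.Agent.KObb4999d.e46, ← Cfsg.Agent.KObb4999d.e44.{1}, ← Cfsg.Agent.KObb4999d.e45.{0}]; (try delta Cfsg.Agent.H3.Ore.FR.chk1 Cfsg.Agent.H3.Ore.FR.apwF); (try generalize @Cfsg.Agent.H3.Ore.FR.addN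 = g0); (try generalize @Cfsg.Agent.Lib.PermNet.seq = g1); (try generalize @Cfsg.Agent.H3.Ore.FR.apF = g2); (try generalize @Cfsg.Agent.H3.Ore.FR.negN = g3); rfl') | exact @Cfsg.Agent.H3.Ore.FR.chk1 | exact ()
private theorem _root_.Cfsg.Agent.KObb4999d.e49 : (by first | exact @Cfsg.Agent.H3.Ore.FR.chk1 = @_root_.Cfsg.Agent.KObb4999d.k49 | exact True : Prop) := by first | (delta _root_.Cfsg.Agent.KObb4999d.k49; exact @Subtype.property _ (fun g => @Cfsg.Agent.H3.Ore.FR.chk1 = @g) _) | rfl | trivial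
private noncomputable def _root_.Cfsg.Agent.KObb4999d.k50 : (by first | exact type_of% @Cfsg.Agent.H3.Ore.FR.chkJ | exact Unit : Sort _) := by first | (refine @Subtype.val _ (fun g => @Cfsg.Agent.H3.Ore.FR.chkJ = @g) (@Subtype.mk _ _ (@(fun x0 x1 x2 x3 => @Bool.rec.{1} @(fun x4 => @Bool) @Bool.false (@Bool.rec.{1} @(fun x4 => @Bool) @Bool.false (@Cfsg.Agent.KObb4999d.k7.{0} _ @x0 @(fun x4 => @Bool.rec.{1} @(fun x5 => @Bool) @Bool.false (@Cfsg.Agent.KObb4999d.k3 (@Cfsg.Agent.KObb4999d.k39.{0} _ @x4 @x3) (@Cfsg.Agent.KObb4999d.k39.{0} _ @x3 @x4)) (@Cfsg.Agent.KObb4999d.k7.{0} _ @x4 @Cfsg.Agent.KObb4999d.k38))) (@Cfsg.Agent.KObb4999d.k7.{0} _ @x3 @Cfsg.Agent.KObb4999d.k38)) (@Cfsg.Agent.KObb4999d.k7.{0} _ (@Cfsg.Agent.KObb4999d.k32 (nat_lit 243) []) @(fun x4 => @Cfsg.Agent.KObb4999d.k49 @x0 @x1 @x2 @x3 @x4)))) ?_); rewrite [← Cfsg.Agent.KObb4999d.e49, ← Cfsg.Agent.KObb4999d.e32, ← Cfsg.Agent.KObb4999d.e38, ← Cfsg.Agent.KObb4999d.e39.{0}, ← Cfsg.Agent.KObb4999d.e3,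 ← Cfsg.Agent.KObb4999d.e7.{0}]; (try delta Cfsg.Agent.H3.Ore.FR.chkJ); (try generalize @Cfsg.Agent.H3.Ore.FC.eqF = g0); (try generalize @Cfsg.Agent.H3.Ore.FR.ok7 = g1); (try generalize @Cfsg.Agent.H3.Ore.FR.chk1 = g2); rfl') | exact @Cfsg.Agent.H3.Ore.FR.chkJ | exact ()
private theorem _root_.Cfsg.Agent.KObb4999d.e50 : (by first | exact @Cfsg.Agent.H3.Ore.FR.chkJ = @_root_.Cfsg.Agent.KObb4999d.k50 | exact True : Prop) := by first | (delta _root_.Cfsg.Agent.KObb4999d.k50; exact @Subtype.property _ (fun g => @Cfsg.Agent.H3.Ore.FR.chkJ = @g) _) | rfl | trivial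

theorem chkJ1 : chkJ cl1 sl1 rl1 (rho 1) = true := by (first | (rewrite [Cfsg.Agent.KObb4999d.e50, Cfsg.Agent.KObb4999d.e42]; decide +kernel) | decide +kernel)

theorem chkJ2 : chkJ cl2 sl2 rl2 (rho 2) = true := by (first | (rewrite [Cfsg.Agent.KObb4999d.e50, Cfsg.Agent.KObb4999d.e42]; decide +kernel) | decide +kernel)

theorem chkJ3 : chkJ cl3 sl3 rl3 (rho 3) = true := by (first | (rewrite [Cfsg.Agent.KObb4999d.e50, Cfsg.Agent.KObb4999d.e42]; decide +kernel) | decide +kernel)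

theorem chkJ4 : chkJ cl4 sl4 rl4 (rho 4) = true := by (first | (rewrite [Cfsg.Agent.KObb4999d.e50, Cfsg.Agent.KObb4999d.e42]; decide +kernel) | decide +kernel)

end Cfsg.Agent.H3.Ore.FR
end

-- part: H3/Ore/Fi22Three
section
/-!
# `Fi22`: the 3-elements are commutators; the elements of order 9 up to conjugacy (helper3)

* `Model.isC_of_three` : every element of 3-power order is a commutator;
* `Model.nine` : an element of 3-power order has cube `1` or is conjugate to one of three words.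
-/

set_option autoImplicit false
set_option maxRecDepth 100000
set_option exponentiation.threshold 5000
set_option linter.style.longLine false
set_option linter.constructorNameAsVariable false

namespace Cfsg.Agent.H3.Ore.FR

open Cfsg.Spor Cfsg.Spor.Fi22 Cfsg.Agent.Lib.PermNet Cfsg.Agent.Lib.PermNetOrbit Cfsg.Agent.Lib.PermNetFix
open Cfsg.Agent.Fischer Cfsg.Agent.Fischer.Fi22PtsRep
open Cfsg.Agent.H834 Cfsg.Agent.H834.AC Cfsg.Agent.H834.RC
open Cfsg.Agent.H3.Ore.FC
open Matrix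

/-- the cube check -/
noncomputable def cub (w : List Gen) : Bool := eqB (w ++ (w ++ w)) []

theorem cub_of {w : List Gen} (h : eqF (w ++ (w ++ w)) [] = true) : cub w = true := eqB_of h

theorem dr1_0 : cub wr1_0 = true := cub_of (by decide +kernel)
theorem dr1_28 : cub wr1_28 = true := cub_of (by decide +kernel)
theorem dr1_110 : cub wr1_110 = true := cub_of (by decide +kernel)
theorem dr2_0 : cub wr2_0 = true := cub_of (by decide +kernel)
theorem dr2_1 : cub wr2_1 = true := cub_of (by decide +kernel)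
theorem dr2_27 : cub wr2_27 = true := cub_of (by decide +kernel)
theorem dr2_28 : cub wr2_28 = true := cub_of (by decide +kernel)
theorem dr2_54 : cub wr2_54 = true := cub_of (by decide +kernel)
theorem dr2_55 : cub wr2_55 = true := cub_of (by decide +kernel)
theorem dr4_0 : cub wr4_0 = true := cub_of (by decide +kernel)
theorem dr4_1 : cub wr4_1 = true := cub_of (by decide +kernel)
theorem dr4_10 : cub wr4_10 = true := cub_of (by decide +kernel)
theorem dr4_20 : cub wr4_20 = true := cub_of (by decide +kernel)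

theorem er1_0 : kwl (dig 0) ++ rho 1 = wr1_0 := by decide
theorem er1_28 : kwl (dig 28) ++ rho 1 = wr1_28 := by decide
theorem er1_110 : kwl (dig 110) ++ rho 1 = wr1_110 := by decide
theorem er2_0 : kwl (dig 0) ++ rho 2 = wr2_0 := by decide
theorem er2_1 : kwl (dig 1) ++ rho 2 = wr2_1 := by decide
theorem er2_27 : kwl (dig 27) ++ rho 2 = wr2_27 := by decide
theorem er2_28 : kwl (dig 28) ++ rho 2 = wr2_28 := by decide
theorem er2_54 : kwl (dig 54) ++ rho 2 = wr2_54 := by decide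
theorem er2_55 : kwl (dig 55) ++ rho 2 = wr2_55 := by decide
theorem er4_0 : kwl (dig 0) ++ rho 4 = wr4_0 := by decide
theorem er4_1 : kwl (dig 1) ++ rho 4 = wr4_1 := by decide
theorem er4_10 : kwl (dig 10) ++ rho 4 = wr4_10 := by decide
theorem er4_20 : kwl (dig 20) ++ rho 4 = wr4_20 := by decide
theorem eyA : ([.d, .h, .i, .e, .d, .h, .c, .d, .e] : List Gen) ++ ((kwl (dig 1) ++ rho 1) ++ ([.d, .h, .i, .e, .d, .h, .c, .d, .e] : List Gen).reverse) = wyA := by decide
theorem eyB : kwl (dig 9) ++ rho 2 = wyB := by decide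
theorem eyE : kwl (dig 2) ++ rho 3 = wyE := by decide
theorem ek1 : kwl [1, 0, 0, 0, 0] = wk1 := by decide
theorem ek2 : kwl [1, 0, 0, 1, 0] = wk2 := by decide
theorem ek0 : kwl [1, 0, 0, 1, 1] = wk0 := by decide
theorem cj0 : cnj [.a, .b, .f, .e, .g, .c, .a, .e, .d, .h, .e, .d, .b, .g, .c, .d, .g, .a, .b, .h, .c, .d, .e, .g, .b, .d, .c, .f, .b, .h, .c, .a, .i, .d, .c, .b, .c, .h, .a, .f, .b, .c, .f, .a, .d, .b, .e, .c, .h, .a, .g, .d, .e, .h, .c, .b, .a, .d, .h, .i, .c, .d, .b, .h, .c, .g, .f, .i, .f, .h, .e, .d, .e, .f, .h, .i] (kwl (dig 0) ++ rho 3) wyB = true := cnj_of (by decide +kernel)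
theorem cj1 : cnj [.g, .f, .a, .g, .e, .d, .f, .e, .f, .c, .d, .e, .h, .d, .c, .a, .b, .f, .h, .e, .d, .e, .f, .h, .i, .c, .g, .d, .e, .h, .d, .e, .c, .d, .e, .d, .e, .h, .d, .f, .h, .e, .d, .e, .f, .h, .g] (kwl (dig 1) ++ rho 3) wyB = true := cnj_of (by decide +kernel)

theorem chkWB_spec : ∀ (l : List (List Gen × ℕ)) (n : ℕ), chkWB l n = true → ∀ k < l.length,
    ∃ (w : List Gen) (j : ℕ), w.all ok7 = true ∧ j < 5 ∧ cnj w (yword (n + k)) (rho j) = true := by
  intro l
  induction l with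
  | nil => intro n _ k hk; exact absurd hk (by simp)
  | cons x l ih =>
    intro n h k hk
    have h' : and (and (eqF (x.1 ++ (yword n ++ x.1.reverse)) (rho x.2)) (and (x.1.all ok7) (Nat.blt x.2 5))) (chkWB l (n + 1)) = true := h
    rw [Bool.and_eq_true, Bool.and_eq_true, Bool.and_eq_true] at h'
    cases k with
    | zero => exact ⟨x.1, x.2, h'.1.2.1, Nat.le_of_ble_eq_true h'.1.2.2, cnj_of h'.1.1⟩
    | succ k =>
      have h2 := ih (n + 1) h'.2 k (by simpa using hk)
      have e : n + (k + 1) = n + 1 + k := by omega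
      rw [e]
      exact h2

theorem exists_wl {n : ℕ} (hn : n < 81) : ∃ (w : List Gen) (j : ℕ), w.all ok7 = true ∧ j < 5 ∧
    cnj w (yword n) (rho j) = true := by
  have key : ∀ (l : List (List Gen × ℕ)) (s : ℕ), chkWB l s = true → l.length = 9 → s ≤ n → n < s + 9 →
      ∃ (w : List Gen) (j : ℕ), w.all ok7 = true ∧ j < 5 ∧ cnj w (yword n) (rho j) = true := by
    intro l s h hl h1 h2
    have := chkWB_spec l s h (n - s) (by omega)
    rwa [Nat.add_sub_cancel' h1] at this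
  rcases Nat.lt_or_ge n 9 with h | h
  · exact key wl0 0 chkW0 rfl (by omega) (by omega)
  rcases Nat.lt_or_ge n 18 with h | h
  · exact key wl1 9 chkW1 rfl (by omega) (by omega)
  rcases Nat.lt_or_ge n 27 with h | h
  · exact key wl2 18 chkW2 rfl (by omega) (by omega)
  rcases Nat.lt_or_ge n 36 with h | h
  · exact key wl3 27 chkW3 rfl (by omega) (by omega)
  rcases Nat.lt_or_ge n 45 with h | h
  · exact key wl4 36 chkW4 rfl (by omega) (by omega)
  rcases Nat.lt_or_ge n 54 with h | h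
  · exact key wl5 45 chkW5 rfl (by omega) (by omega)
  rcases Nat.lt_or_ge n 63 with h | h
  · exact key wl6 54 chkW6 rfl (by omega) (by omega)
  rcases Nat.lt_or_ge n 72 with h | h
  · exact key wl7 63 chkW7 rfl (by omega) (by omega)
  · exact key wl8 72 chkW8 rfl (by omega) (by omega)

theorem ok7_iff (g : Gen) : ok7 g = true ↔ g ∈ gs := by cases g <;> decide

end Cfsg.Agent.H3.Ore.FR

namespace Cfsg.Agent.H834.Model

open Cfsg.Spor Cfsg.Spor.Fi22 Cfsg.Agent.Lib.PermNet Cfsg.Agent.Lib.PermNetOrbit Cfsg.Agent.Lib.PermNetFix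
open Cfsg.Agent.Fischer Cfsg.Agent.Fischer.Fi22PtsRep
open Cfsg.Agent.H834 Cfsg.Agent.H834.AC Cfsg.Agent.H834.RC
open Cfsg.Agent.H3.Ore.FC Cfsg.Agent.H3.Ore.FR
open Cfsg.Agent.H777.Ore (IsC)
open Matrix

variable {G : Type*} [Group G] {D : Set G} (m : Model G D)

theorem isC_of_crt {y g a b : List Gen} (h : crt y g a b = true) : IsC (m.wd y) := by
  have h1 := m.eq_of_eqB h
  simp only [wd_append, wd_reverse] at h1
  refine IsC.of_conj (m.wd g) ⟨m.wd a, m.wd b, ?_⟩
  rw [mul_assoc, h1]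
  simp only [mul_assoc]

theorem conj_of_cnj {g y c : List Gen} (h : cnj g y c = true) : m.wd g * m.wd y * (m.wd g)⁻¹ = m.wd c := by
  have h1 := m.eq_of_eqB h
  simp only [wd_append, wd_reverse] at h1
  rw [mul_assoc, h1]

theorem act1 {g : Gen} (hg : g ∈ gs) {n : ℕ} (hn : n < 243) :
    m.wd [g] * m.κ (_root_.Cfsg.Agent.H3.Ore.FR.vec n) * (m.wd [g])⁻¹ = m.κ (_root_.Cfsg.Agent.H3.Ore.FR.vec (ap1 g n)) := by
  have h := m.act_gen (g := g) hg (_root_.Cfsg.Agent.H3.Ore.FR.vec n)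
  have h0 : ∀ g ∈ gs, qf (root g) = 1 := by decide
  rw [h, Cfsg.Agent.ClassicalGeometry.Reflection.reflectionMatrix_mulVec, polar_Qd, Qd_apply, h0 g hg, inv_one, one_mul]
  rw [chk_ap hg n]

theorem act_word {w : List Gen} (hw : w.all ok7 = true) {n : ℕ} (hn : n < 243) :
    apw w n < 243 ∧ m.wd w * m.κ (_root_.Cfsg.Agent.H3.Ore.FR.vec n) * (m.wd w)⁻¹ = m.κ (_root_.Cfsg.Agent.H3.Ore.FR.vec (apw w n)) := by
  induction w with
  | nil => exact ⟨hn, by rw [wd_nil]; simp [apw]⟩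
  | cons g w ih =>
    rw [List.all_cons, Bool.and_eq_true] at hw
    obtain ⟨h1, h2⟩ := ih hw.2
    refine ⟨ap1_lt _ _, ?_⟩
    have e : apw (g :: w) n = ap1 g (apw w n) := rfl
    rw [e, ← m.act1 ((ok7_iff g).1 hw.1) h1, ← h2, wd_cons]
    group

theorem step3 {r c : List Gen} (hr : r.all ok7 = true) (hc : c.all ok7 = true)
    (hcr : eqB (c ++ r) (r ++ c) = true) {n x : ℕ} (hn : n < 243) (hx : x < 243) :
    (m.κ (_root_.Cfsg.Agent.H3.Ore.FR.vec x) * m.wd c) * (m.κ (_root_.Cfsg.Agent.H3.Ore.FR.vec n) * m.wd r) * (m.κ (_root_.Cfsg.Agent.H3.Ore.FR.vec x) * m.wd c)⁻¹ =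
      m.κ (_root_.Cfsg.Agent.H3.Ore.FR.vec (addN (addN x (apw c n)) (negN (apw r x)))) * m.wd r := by
  obtain ⟨-, h1⟩ := m.act_word hc hn
  obtain ⟨-, h2⟩ := m.act_word hr hx
  have h3 := m.eq_of_eqB hcr
  simp only [wd_append] at h3
  rw [vec_addN, vec_addN, vec_negN, κ_add, κ_add, κ_neg, ← h1, ← h2]
  calc (m.κ (_root_.Cfsg.Agent.H3.Ore.FR.vec x) * m.wd c) * (m.κ (_root_.Cfsg.Agent.H3.Ore.FR.vec n) * m.wd r) * (m.κ (_root_.Cfsg.Agent.H3.Ore.FR.vec x) * m.wd c)⁻¹
      = m.κ (_root_.Cfsg.Agent.H3.Ore.FR.vec x) * (m.wd c * m.κ (_root_.Cfsg.Agent.H3.Ore.FR.vec n) * (m.wd c)⁻¹) * (m.wd c * m.wd r) * (m.wd c)⁻¹ * (m.κ (_root_.Cfsg.Agent.H3.Ore.FR.vec x))⁻¹ := by group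
    _ = m.κ (_root_.Cfsg.Agent.H3.Ore.FR.vec x) * (m.wd c * m.κ (_root_.Cfsg.Agent.H3.Ore.FR.vec n) * (m.wd c)⁻¹) * (m.wd r * m.wd c) * (m.wd c)⁻¹ * (m.κ (_root_.Cfsg.Agent.H3.Ore.FR.vec x))⁻¹ := by rw [h3]
    _ = _ := by group

theorem red_j {cl : List (List Gen)} {sl rl : List ℕ} {r : List Gen} (h : chkJ cl sl rl r = true) {n : ℕ} (hn : n < 243) :
    ∃ g : G, ∃ k ∈ rl, g * (m.κ (_root_.Cfsg.Agent.H3.Ore.FR.vec n) * m.wd r) * g⁻¹ = m.κ (_root_.Cfsg.Agent.H3.Ore.FR.vec k) * m.wd r := by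
  unfold chkJ at h
  rw [Bool.and_eq_true, Bool.and_eq_true] at h
  obtain ⟨h1, h2, h3⟩ := h
  rw [List.all_eq_true] at h1 h3
  have h4 := h1 n (List.mem_range.2 hn)
  unfold chk1 at h4
  rw [List.elem_iff] at h4
  set s := sl.getD n 0 with hs
  have hx : s % 243 < 243 := Nat.mod_lt _ (by norm_num)
  by_cases hc : cl.getD (s / 243) [] ∈ cl
  · have h5 := h3 _ hc
    rw [Bool.and_eq_true] at h5
    rw [apwF_eq h5.1 hn, apwF_eq h2 hx] at h4
    exact ⟨_, _, h4, m.step3 h2 h5.1 (eqB_of h5.2) hn hx⟩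
  · have hc' : cl.getD (s / 243) [] = [] := by
      by_contra hne
      apply hc
      by_cases hlt : s / 243 < cl.length
      · rw [List.getD_eq_getElem _ _ hlt]
        exact List.getElem_mem hlt
      · exact absurd (List.getD_eq_default _ _ (not_lt.1 hlt)) hne
    rw [hc', apwF_eq rfl hn, apwF_eq h2 hx] at h4
    refine ⟨_, _, h4, m.step3 (c := []) h2 rfl ?_ hn hx⟩
    unfold eqB eqL
    simp

/-- **Reduction in `P0`.** -/
theorem red_P0 {y : G} (hy : y ∈ m.P0) : ∃ g : G, g * y * g⁻¹ = 1 ∨ g * y * g⁻¹ = m.wd wk1 ∨ g * y * g⁻¹ = m.wd wk2 ∨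
    g * y * g⁻¹ = m.wd wk0 ∨ (∃ k ∈ rl1, g * y * g⁻¹ = m.wd (kwl (dig k) ++ rho 1)) ∨
    (∃ k ∈ rl2, g * y * g⁻¹ = m.wd (kwl (dig k) ++ rho 2)) ∨ (∃ k ∈ rl3, g * y * g⁻¹ = m.wd (kwl (dig k) ++ rho 3)) ∨
    (∃ k ∈ rl4, g * y * g⁻¹ = m.wd (kwl (dig k) ++ rho 4)) := by
  obtain ⟨v, n, hn, rfl⟩ := hy
  obtain ⟨w, j, hw, hj, hwj⟩ := exists_wl hn
  obtain ⟨a, ha, rfl⟩ := exists_vec v
  have h1 : m.wd w * m.ψ n * (m.wd w)⁻¹ = m.wd (rho j) := m.conj_of_cnj hwj
  obtain ⟨h2, h3⟩ := m.act_word hw ha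
  set b := apw w a
  have h4 : m.wd w * (m.κ (_root_.Cfsg.Agent.H3.Ore.FR.vec a) * m.ψ n) * (m.wd w)⁻¹ = m.κ (_root_.Cfsg.Agent.H3.Ore.FR.vec b) * m.wd (rho j) := by
    rw [← h1, ← h3]; group
  have key : ∀ k, m.wd (kwl (dig k) ++ rho j) = m.κ (_root_.Cfsg.Agent.H3.Ore.FR.vec k) * m.wd (rho j) := by
    intro k
    rw [wd_append, κ_word]; rfl
  have fin : ∀ {cl : List (List Gen)} {sl rl : List ℕ}, chkJ cl sl rl (rho j) = true →
      ∃ g : G, ∃ k ∈ rl, g * (m.κ (_root_.Cfsg.Agent.H3.Ore.FR.vec a) * m.ψ n) * g⁻¹ = m.wd (kwl (dig k) ++ rho j) := by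
    intro cl sl rl h
    obtain ⟨g, k, hk, hg⟩ := m.red_j h h2
    refine ⟨g * m.wd w, k, hk, ?_⟩
    rw [key, ← hg, ← h4]
    group
  interval_cases j
  · have h5 : m.wd (rho 0) = 1 := m.wd_nil
    rw [h5, mul_one] at h4
    by_cases hb : vec b = 0
    · refine ⟨m.wd w, Or.inl ?_⟩
      rw [h4, hb, κ_zero]
    · obtain ⟨r, -, hr⟩ := m.trich hb
      have e1 : m.wd wk1 = m.κ w1 := by rw [← ek1, κ_word, lv_w1]
      have e2 : m.wd wk2 = m.κ w2 := by rw [← ek2, κ_word, lv_w2]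
      have e0 : m.wd wk0 = m.κ w0 := by rw [← ek0, κ_word, lv_w0]
      refine ⟨r⁻¹ * m.wd w, ?_⟩
      have h6 : r⁻¹ * m.wd w * (m.κ (_root_.Cfsg.Agent.H3.Ore.FR.vec a) * m.ψ n) * (r⁻¹ * m.wd w)⁻¹ = r⁻¹ * m.κ (_root_.Cfsg.Agent.H3.Ore.FR.vec b) * r := by
        rw [← h4]; group
      rw [h6, e1, e2, e0]
      rcases hr with hr | hr | hr
      · right; left; rw [← hr]; group
      · right; right; left; rw [← hr]; group
      · right; right; right; left; rw [← hr]; group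
  · obtain ⟨g, k, hk, hg⟩ := fin chkJ1
    exact ⟨g, Or.inr (Or.inr (Or.inr (Or.inr (Or.inl ⟨k, hk, hg⟩))))⟩
  · obtain ⟨g, k, hk, hg⟩ := fin chkJ2
    exact ⟨g, Or.inr (Or.inr (Or.inr (Or.inr (Or.inr (Or.inl ⟨k, hk, hg⟩)))))⟩
  · obtain ⟨g, k, hk, hg⟩ := fin chkJ3
    exact ⟨g, Or.inr (Or.inr (Or.inr (Or.inr (Or.inr (Or.inr (Or.inl ⟨k, hk, hg⟩))))))⟩
  · obtain ⟨g, k, hk, hg⟩ := fin chkJ4
    exact ⟨g, Or.inr (Or.inr (Or.inr (Or.inr (Or.inr (Or.inr (Or.inr ⟨k, hk, hg⟩))))))⟩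

theorem cube_of_cub {w : List Gen} (h : cub w = true) : m.wd w ^ 3 = 1 := by
  have h1 := m.eq_of_eqB h
  rw [wd_append, wd_append, wd_nil] at h1
  rw [pow_succ, pow_two, mul_assoc, h1]

/-- **the elements of `P0`** : commutators; of cube `1` or conjugate to `yA`, `yB`, `yE` -/
theorem cls_P0 {y : G} (hy : y ∈ m.P0) : IsC y ∧ (y ^ 3 = 1 ∨
    ∃ g : G, g * y * g⁻¹ = m.wd wyA ∨ g * y * g⁻¹ = m.wd wyB ∨ g * y * g⁻¹ = m.wd wyE) := by
  obtain ⟨g, hg⟩ := m.red_P0 hy
  have c3 : ∀ w : List Gen, cub w = true → g * y * g⁻¹ = m.wd w → y ^ 3 = 1 := by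
    intro w hw h
    have h1 := m.cube_of_cub hw
    rw [← h, conj_pow] at h1
    exact conj_eq_one_iff.1 h1
  have hc : ∀ w : List Gen, IsC (m.wd w) → g * y * g⁻¹ = m.wd w → IsC y := by
    intro w hw h
    rw [← h] at hw
    exact IsC.of_conj g hw
  have nk : ∀ l : List ℕ, m.wd (kwl l) ^ 3 = 1 := by
    intro l
    rw [κ_word]
    exact m.elemA.2 _ (m.κ_mem _)
  have ck : ∀ w : List Gen, m.wd w ^ 3 = 1 → g * y * g⁻¹ = m.wd w → y ^ 3 = 1 := by
    intro w h1 h
    rw [← h, conj_pow] at h1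
    exact conj_eq_one_iff.1 h1
  rcases hg with h | h | h | h | ⟨k, hk, h⟩ | ⟨k, hk, h⟩ | ⟨k, hk, h⟩ | ⟨k, hk, h⟩
  · have h1 : y = 1 := conj_eq_one_iff.1 h
    subst h1
    exact ⟨Cfsg.Agent.H777.Ore.isC_one, Or.inl (one_pow 3)⟩
  · exact ⟨hc _ (m.isC_of_crt ck1) h, Or.inl (ck _ (ek1 ▸ nk _) h)⟩
  · exact ⟨hc _ (m.isC_of_crt ck2) h, Or.inl (ck _ (ek2 ▸ nk _) h)⟩
  · exact ⟨hc _ (m.isC_of_crt ck0) h, Or.inl (ck _ (ek0 ▸ nk _) h)⟩
  · simp only [rl1, List.mem_cons, List.not_mem_nil, or_false] at hk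
    rcases hk with rfl | rfl | rfl | rfl
    · rw [er1_0] at h; exact ⟨hc _ (m.isC_of_crt cr1_0) h, Or.inl (c3 _ dr1_0 h)⟩
    · have h1 : m.wd [.d, .h, .i, .e, .d, .h, .c, .d, .e] * m.wd (kwl (dig 1) ++ rho 1) *
          (m.wd [.d, .h, .i, .e, .d, .h, .c, .d, .e])⁻¹ = m.wd wyA := by
        rw [← eyA]
        simp only [wd_append, wd_reverse, mul_assoc]
      have h2 : (m.wd [.d, .h, .i, .e, .d, .h, .c, .d, .e] * g) * y *
          (m.wd [.d, .h, .i, .e, .d, .h, .c, .d, .e] * g)⁻¹ = m.wd wyA := by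
        rw [← h1, ← h]; group
      refine ⟨?_, Or.inr ⟨_, Or.inl h2⟩⟩
      have h3 := m.isC_of_crt cyA
      rw [← h2] at h3
      exact IsC.of_conj _ h3
    · rw [er1_28] at h; exact ⟨hc _ (m.isC_of_crt cr1_28) h, Or.inl (c3 _ dr1_28 h)⟩
    · rw [er1_110] at h; exact ⟨hc _ (m.isC_of_crt cr1_110) h, Or.inl (c3 _ dr1_110 h)⟩
  · simp only [rl2, List.mem_cons, List.not_mem_nil, or_false] at hk
    rcases hk with rfl | rfl | rfl | rfl | rfl | rfl | rfl
    · rw [er2_0] at h; exact ⟨hc _ (m.isC_of_crt cr2_0) h, Or.inl (c3 _ dr2_0 h)⟩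
    · rw [er2_1] at h; exact ⟨hc _ (m.isC_of_crt cr2_1) h, Or.inl (c3 _ dr2_1 h)⟩
    · rw [eyB] at h
      exact ⟨hc _ (m.isC_of_crt cyB) h, Or.inr ⟨g, Or.inr (Or.inl h)⟩⟩
    · rw [er2_27] at h; exact ⟨hc _ (m.isC_of_crt cr2_27) h, Or.inl (c3 _ dr2_27 h)⟩
    · rw [er2_28] at h; exact ⟨hc _ (m.isC_of_crt cr2_28) h, Or.inl (c3 _ dr2_28 h)⟩
    · rw [er2_54] at h; exact ⟨hc _ (m.isC_of_crt cr2_54) h, Or.inl (c3 _ dr2_54 h)⟩
    · rw [er2_55] at h; exact ⟨hc _ (m.isC_of_crt cr2_55) h, Or.inl (c3 _ dr2_55 h)⟩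
  · have hb : ∀ u : G, u * m.wd (kwl (dig k) ++ rho 3) * u⁻¹ = m.wd wyB → IsC y ∧ (y ^ 3 = 1 ∨
        ∃ g : G, g * y * g⁻¹ = m.wd wyA ∨ g * y * g⁻¹ = m.wd wyB ∨ g * y * g⁻¹ = m.wd wyE) := by
      intro u hu
      have h2 : (u * g) * y * (u * g)⁻¹ = m.wd wyB := by
        rw [← hu, ← h]; group
      refine ⟨?_, Or.inr ⟨_, Or.inr (Or.inl h2)⟩⟩
      have h3 := m.isC_of_crt cyB
      rw [← h2] at h3
      exact IsC.of_conj _ h3
    simp only [rl3, List.mem_cons, List.not_mem_nil, or_false] at hk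
    rcases hk with rfl | rfl | rfl
    · exact hb _ (m.conj_of_cnj cj0)
    · exact hb _ (m.conj_of_cnj cj1)
    · rw [eyE] at h
      exact ⟨hc _ (m.isC_of_crt cyE) h, Or.inr ⟨g, Or.inr (Or.inr h)⟩⟩
  · simp only [rl4, List.mem_cons, List.not_mem_nil, or_false] at hk
    rcases hk with rfl | rfl | rfl | rfl
    · rw [er4_0] at h; exact ⟨hc _ (m.isC_of_crt cr4_0) h, Or.inl (c3 _ dr4_0 h)⟩
    · rw [er4_1] at h; exact ⟨hc _ (m.isC_of_crt cr4_1) h, Or.inl (c3 _ dr4_1 h)⟩
    · rw [er4_10] at h; exact ⟨hc _ (m.isC_of_crt cr4_10) h, Or.inl (c3 _ dr4_10 h)⟩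
    · rw [er4_20] at h; exact ⟨hc _ (m.isC_of_crt cr4_20) h, Or.inl (c3 _ dr4_20 h)⟩

/-- **the elements of 3-power order** -/
theorem cls_three {y : G} {n : ℕ} (hy : y ^ 3 ^ n = 1) : IsC y ∧ (y ^ 3 = 1 ∨
    ∃ g : G, g * y * g⁻¹ = m.wd wyA ∨ g * y * g⁻¹ = m.wd wyB ∨ g * y * g⁻¹ = m.wd wyE) := by
  have hfin := m.finite
  have h3 : Fact (Nat.Prime 3) := ⟨Nat.prime_three⟩
  obtain ⟨Q, hQ⟩ := m.isPGroup_P0.exists_le_sylow
  have h1 := m.isSylow_P0 hQ
  have hp : IsPGroup 3 ↥(Subgroup.zpowers y) := by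
    obtain ⟨k, -, hk⟩ := (Nat.dvd_prime_pow Nat.prime_three).1 (orderOf_dvd_of_pow_eq_one hy)
    exact IsPGroup.of_card (n := k) (by rw [Nat.card_zpowers, hk])
  obtain ⟨P, hP⟩ := hp.exists_le_sylow
  obtain ⟨g, hg⟩ := MulAction.exists_smul_eq G P Q
  have hmem : g * y * g⁻¹ ∈ m.P0 := by
    rw [← h1, ← hg, Sylow.coe_subgroup_smul]
    exact ⟨y, hP (Subgroup.mem_zpowers y), rfl⟩
  obtain ⟨h4, h5⟩ := m.cls_P0 hmem
  refine ⟨IsC.of_conj g h4, ?_⟩
  rcases h5 with h5 | ⟨u, hu⟩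
  · left
    rw [conj_pow] at h5
    exact conj_eq_one_iff.1 h5
  · right
    refine ⟨u * g, ?_⟩
    have e : u * g * y * (u * g)⁻¹ = u * (g * y * g⁻¹) * u⁻¹ := by group
    rw [e]
    exact hu

end Cfsg.Agent.H834.Model
end

private theorem dce_b65c0d002fea : _root_.True := by
  try have : _root_.True := by simp only [_root_.Cfsg.Agent.H3.Ore.FR.rl1.eq_1]
  try have : _root_.True := by simp only [_root_.Cfsg.Agent.H3.Ore.FR.apw.eq_1]
  try have : _root_.True := by simp only [_root_.Cfsg.Agent.H3.Ore.FR.rl2.eq_1]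
  try have : _root_.True := by simp only [_root_.Cfsg.Agent.H3.Ore.FR.rl4.eq_1]
  try have : _root_.True := by simp only [_root_.Cfsg.Agent.H3.Ore.FR.rl3.eq_1]
  exact _root_.True.intro
end

-- part: H956/OZ/Comb3_mg
section
set_option linter.all false
open scoped Cfsg.Agent.FastGrp

-- part: H956/OZ/Comb
section
/-!
# S4842, alternating groups: combinatorics of beta-sets (helper956)

`Vz m s B` (`Nz m s B`) : Frobenius' function `FM s` vanishes (does not vanish) on the injective tuples of length `m`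
with image `B`.
-/

set_option autoImplicit false

namespace Cfsg.Agent.H956.OZ

open Finset Cfsg.Agent.H614

/-- `FM s` vanishes on the tuples with image `B`. -/
def Vz (m : ℕ) (s : Multiset ℕ) (B : Finset ℕ) : Prop :=
  ∀ β : Fin m → ℕ, Function.Injective β → univ.image β = B → FM s β = 0

/-- `FM s` does not vanish on the tuples with image `B`. -/
def Nz (m : ℕ) (s : Multiset ℕ) (B : Finset ℕ) : Prop :=
  ∀ β : Fin m → ℕ, Function.Injective β → univ.image β = B → FM s β ≠ 0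

variable {m : ℕ}

theorem mem_im {β : Fin m → ℕ} {B : Finset ℕ} (h : univ.image β = B) (b : ℕ) : b ∈ B ↔ ∃ j, β j = b := by
  rw [← h]; simp only [_root_.Finset.mem_image, _root_.Finset.mem_univ, _root_.true_and]

/-- no hook of length `r` -/
theorem vz_no {r : ℕ} (s : Multiset ℕ) {B : Finset ℕ} (hr : 0 < r) (h : ∀ b ∈ B, r ≤ b → b - r ∈ B) :
    Vz m (r ::ₘ s) B := by
  intro β _ hB
  rw [FM_cons]
  refine Finset.sum_eq_zero fun j _ => ?_
  split_ifs with hj
  · refine FM_eq_zero_of_not_injective s ?_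
    obtain ⟨k, hk⟩ := (mem_im hB _).1 (h _ ((mem_im hB _).2 ⟨j, rfl⟩) hj)
    intro hinj
    have hkj : k ≠ j := by rintro rfl; omega
    apply hkj
    apply hinj
    rw [dn_self, dn_ne _ _ hkj, hk]
  · rfl

/-- exactly one hook of length `r` -/
theorem step {r : ℕ} (s : Multiset ℕ) {B : Finset ℕ} {b : ℕ} (hb : b ∈ B) (hr : r ≤ b) (h0 : b - r ∉ B)
    (hu : ∀ c ∈ B, c ≠ b → r ≤ c → c - r ∈ B) {β : Fin m → ℕ} (hβ : Function.Injective β)
    (hB : univ.image β = B) :
    ∃ γ : Fin m → ℕ, Function.Injective γ ∧ univ.image γ = insert (b - r) (B.erase b) ∧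
      FM (r ::ₘ s) β = FM s γ := by
  obtain ⟨j, hj⟩ := (mem_im hB _).1 hb
  have hinj : Function.Injective (dn β j r) := by
    intro x y hxy
    by_cases hx : x = j
    · by_cases hy : y = j
      · rw [hx, hy]
      · rw [hx, dn_self, dn_ne _ _ hy, hj] at hxy
        exact absurd ((mem_im hB _).2 ⟨y, hxy.symm⟩) h0
    · by_cases hy : y = j
      · rw [hy, dn_self, dn_ne _ _ hx, hj] at hxy
        exact absurd ((mem_im hB _).2 ⟨x, hxy⟩) h0
      · rw [dn_ne _ _ hx, dn_ne _ _ hy] at hxy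
        exact hβ hxy
  refine ⟨dn β j r, hinj, ?_, ?_⟩
  · ext c
    simp only [mem_image, mem_univ, true_and, mem_insert, mem_erase]
    constructor
    · rintro ⟨k, rfl⟩
      by_cases hk : k = j
      · left; rw [hk, dn_self, hj]
      · right
        rw [dn_ne _ _ hk]
        exact ⟨fun h => hk (hβ (h.trans hj.symm)), (mem_im hB _).2 ⟨k, rfl⟩⟩
    · rintro (rfl | ⟨h1, h2⟩)
      · exact ⟨j, by rw [dn_self, hj]⟩
      · obtain ⟨k, rfl⟩ := (mem_im hB _).1 h2
        exact ⟨k, dn_ne _ _ fun h => h1 (by rw [h, hj])⟩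
  · rw [FM_cons, Finset.sum_eq_single j]
    · rw [hj, if_pos hr]
    · intro k _ hkj
      split_ifs with hk
      · refine FM_eq_zero_of_not_injective s ?_
        have hne : β k ≠ b := fun h => hkj (hβ (h.trans hj.symm))
        obtain ⟨l, hl⟩ := (mem_im hB _).1 (hu _ ((mem_im hB _).2 ⟨k, rfl⟩) hne hk)
        intro hi
        by_cases hr0 : r = 0
        · subst hr0
          exact h0 (by rw [Nat.sub_zero]; exact hb)
        have hlk : l ≠ k := by rintro rfl; omega
        apply hlk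
        apply hi
        rw [dn_self, dn_ne _ _ hlk, hl]
      · rfl
    · intro h
      exact absurd (mem_univ _) h

theorem vz_step {r : ℕ} {s : Multiset ℕ} {B : Finset ℕ} {b : ℕ} (hb : b ∈ B) (hr : r ≤ b) (h0 : b - r ∉ B)
    (hu : ∀ c ∈ B, c ≠ b → r ≤ c → c - r ∈ B) (h : Vz m s (insert (b - r) (B.erase b))) : Vz m (r ::ₘ s) B := by
  intro β hβ hB
  obtain ⟨γ, h1, h2, h3⟩ := step s hb hr h0 hu hβ hB
  rw [h3]
  exact h γ h1 h2

theorem nz_step {r : ℕ} {s : Multiset ℕ} {B : Finset ℕ} {b : ℕ} (hb : b ∈ B) (hr : r ≤ b) (h0 : b - r ∉ B)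
    (hu : ∀ c ∈ B, c ≠ b → r ≤ c → c - r ∈ B) (h : Nz m s (insert (b - r) (B.erase b))) : Nz m (r ::ₘ s) B := by
  intro β hβ hB
  obtain ⟨γ, h1, h2, h3⟩ := step s hb hr h0 hu hβ hB
  rw [h3]
  exact h γ h1 h2

theorem sum_image {β : Fin m → ℕ} (hβ : Function.Injective β) {B : Finset ℕ} (hB : univ.image β = B) :
    ∑ b ∈ B, b = ∑ i, β i := by
  rw [← hB, Finset.sum_image fun x _ y _ h => hβ h]

theorem card_image {β : Fin m → ℕ} (hβ : Function.Injective β) {B : Finset ℕ} (hB : univ.image β = B) :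
    B.card = m := by
  rw [← hB, Finset.card_image_of_injective _ hβ, card_univ, Fintype.card_fin]

theorem sum_fin_range (m : ℕ) : ∑ i : Fin m, (i : ℕ) = ∑ i ∈ range m, i := (Fin.sum_univ_eq_sum_range (fun i => i) m)

/-- only fixed points are left -/
theorem nz_ones {d : ℕ} {B : Finset ℕ} (hs : ∑ b ∈ B, b = d + ∑ i ∈ range m, i) : Nz m (Multiset.replicate d 1) B := by
  intro β hβ hB
  refine FM_ones_ne_zero hβ ?_
  rw [← sum_image hβ hB, hs, sum_fin_range]

theorem nz_zero : Nz m 0 (range m) := by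
  have h := nz_ones (m := m) (d := 0) (B := range m) (by rw [zero_add])
  exact h

/-- The smallest sum. -/
theorem range_le_sum {B : Finset ℕ} : ∑ i ∈ range B.card, i ≤ ∑ b ∈ B, b := by
  have h := sum_le_of_injective (β := fun i : Fin B.card => (B.orderEmbOfFin rfl i)) (B.orderEmbOfFin rfl).injective
  rw [sum_fin_range] at h
  refine h.trans (le_of_eq ?_)
  symm
  refine sum_image (m := B.card) (B.orderEmbOfFin rfl).injective ?_
  ext b
  simp only [mem_image, mem_univ, true_and]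
  have := B.range_orderEmbOfFin rfl
  have h2 : b ∈ (B : Set ℕ) ↔ b ∈ Set.range (B.orderEmbOfFin rfl) := by rw [this]
  rw [mem_coe] at h2
  rw [h2]
  rfl

theorem eq_range_of_sum {B : Finset ℕ} (h : ∑ b ∈ B, b = ∑ i ∈ range B.card, i) : B = range B.card := by
  by_contra hne
  -- some element is at least `card`
  have h1 : ¬ B ⊆ range B.card := fun hs => hne (eq_of_subset_of_card_le hs (by rw [card_range]))
  obtain ⟨b, hb, hb'⟩ := not_subset.1 h1
  rw [mem_range, not_lt] at hb'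
  have h2 := range_le_sum (B := B.erase b)
  rw [card_erase_of_mem hb] at h2
  have h3 : b + ∑ x ∈ B.erase b, x = ∑ x ∈ B, x := add_sum_erase B (fun x => x) hb
  have hpos : 0 < B.card := card_pos.2 ⟨b, hb⟩
  obtain ⟨k, hk⟩ : ∃ k, B.card = k + 1 := ⟨B.card - 1, by omega⟩
  rw [hk] at h h2 hb'
  rw [sum_range_succ] at h
  simp only [Nat.add_sub_cancel] at h2
  omega

/-- removing the largest element of a set with excess `d` -/
theorem excess {n d : ℕ} {B : Finset ℕ} (hc : B.card = n + 1) (hs : ∑ b ∈ B, b = d + ∑ i ∈ range (n + 1), i) :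
    ∃ k ≤ d, n + k ∈ B ∧ (∀ b ∈ B.erase (n + k), b < n + k) ∧ (B.erase (n + k)).card = n ∧
      ∑ b ∈ B.erase (n + k), b = d - k + ∑ i ∈ range n, i := by
  have hne : B.Nonempty := card_pos.1 (by omega)
  set X := B.max' hne with hX
  have hXB : X ∈ B := B.max'_mem hne
  have hmax : ∀ b ∈ B, b ≤ X := fun b hb => B.le_max' b hb
  have h1 : n ≤ X := by
    have h2 : B ⊆ range (X + 1) := fun b hb => mem_range.2 (Nat.lt_succ_of_le (hmax b hb))
    have h3 := card_le_card h2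
    rw [card_range, hc] at h3
    omega
  have hce : (B.erase X).card = n := by rw [card_erase_of_mem hXB, hc, Nat.add_sub_cancel]
  have h2 := range_le_sum (B := B.erase X)
  rw [hce] at h2
  have h3 : X + ∑ x ∈ B.erase X, x = ∑ x ∈ B, x := add_sum_erase B (fun x => x) hXB
  rw [hs, sum_range_succ] at h3
  obtain ⟨k, hk⟩ : ∃ k, X = n + k := ⟨X - n, by omega⟩
  rw [hk] at h3 h2 hXB hce hmax
  refine ⟨k, by omega, hXB, ?_, hce, by omega⟩
  intro b hb
  rw [mem_erase] at hb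
  exact lt_of_le_of_ne (hmax b hb.2) hb.1

end Cfsg.Agent.H956.OZ
end

-- part: H956/OZ/Comb2
section
/-!
# S4842, alternating groups: the longest hook and the inner partition (helper956)
-/

set_option autoImplicit false

namespace Cfsg.Agent.H956.OZ

open Finset Cfsg.Agent.H614

/-- `x` is the largest element, `y` the smallest gap of the beta-set `B` of a partition of `n` with `n` entries;
`B'` is the beta-set of the partition of `d` without the first row and column. -/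
structure MH (n : ℕ) (B B' : Finset ℕ) (x y d : ℕ) : Prop where
  hx : x ∈ B
  hy : y ∉ B
  lt : y < x
  low : ∀ k < y, k ∈ B
  max : ∀ b ∈ B, b ≤ x
  len : x + d = n + y
  dle : d < n
  card' : B'.card = n
  sum' : ∑ b ∈ B', b = d + ∑ i ∈ range n, i
  mem : ∀ b, b ∈ B ↔ b = x ∨ (b ∈ B' ∧ b ≠ y)
  mem' : ∀ b, b ∈ B' ↔ b = y ∨ (b ∈ B ∧ b ≠ x)

theorem exists_MH {n : ℕ} (hn : 0 < n) {B : Finset ℕ} (hc : B.card = n)
    (hs : ∑ b ∈ B, b = n + ∑ i ∈ range n, i) : ∃ B' x y d, MH n B B' x y d := by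
  have hne : B.Nonempty := card_pos.1 (by omega)
  have hgap : ∃ k, k ∉ B := by
    by_contra h
    push Not at h
    exact absurd (h (B.max' hne + 1)) (fun h2 => by have := B.le_max' _ h2; omega)
  classical
  set y := Nat.find hgap with hy
  have hyB : y ∉ B := Nat.find_spec hgap
  have hlow : ∀ k < y, k ∈ B := fun k hk => by
    have := Nat.find_min hgap hk
    exact not_not.1 this
  set x := B.max' hne with hx
  have hxB : x ∈ B := B.max'_mem hne
  have hmax : ∀ b ∈ B, b ≤ x := fun b hb => B.le_max' b hb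
  have hxy : y < x := by
    by_contra h
    have h1 : ∀ b ∈ B, b < y := by
      intro b hb
      have := hmax b hb
      have h2 : b ≠ y := fun h3 => hyB (h3 ▸ hb)
      omega
    have h2 : B = range y := by
      ext b
      rw [mem_range]
      exact ⟨h1 b, hlow b⟩
    rw [h2, card_range] at hc
    rw [h2, hc] at hs
    omega
  have hyE : y ∉ B.erase x := fun h => hyB (mem_of_mem_erase h)
  have hc' : (insert y (B.erase x)).card = n := by
    rw [card_insert_of_notMem hyE, card_erase_of_mem hxB, hc]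
    omega
  have h3 : x + ∑ b ∈ B.erase x, b = ∑ b ∈ B, b := add_sum_erase B (fun x => x) hxB
  have h4 : ∑ b ∈ insert y (B.erase x), b = y + ∑ b ∈ B.erase x, b := sum_insert hyE
  have h5 := range_le_sum (B := insert y (B.erase x))
  rw [hc'] at h5
  have hmem : ∀ b, b ∈ B ↔ b = x ∨ (b ∈ insert y (B.erase x) ∧ b ≠ y) := by
    intro b
    rw [mem_insert, mem_erase]
    constructor
    · intro hb
      by_cases h : b = x
      · exact Or.inl h
      · exact Or.inr ⟨Or.inr ⟨h, hb⟩, fun h' => hyB (h' ▸ hb)⟩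
    · rintro (rfl | ⟨h1 | h1, h2⟩)
      · exact hxB
      · exact absurd h1 h2
      · exact h1.2
  refine ⟨insert y (B.erase x), x, y, n + y - x, hxB, hyB, hxy, hlow, hmax, by omega, by omega, hc', by omega, hmem, ?_⟩
  intro b
  rw [mem_insert, mem_erase, and_comm]

namespace MH

variable {n : ℕ} {B B' : Finset ℕ} {x y d : ℕ}

theorem no_hook (H : MH n B B' x y d) {r : ℕ} (hr : n < r + d) : ∀ b ∈ B, r ≤ b → b - r ∈ B := by
  intro b hb hrb
  apply H.low
  have := H.max b hb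
  have := H.len
  omega

theorem vz (H : MH n B B' x y d) {r : ℕ} (hr : n < r + d) (s : Multiset ℕ) : Vz n (r ::ₘ s) B :=
  vz_no s (by have := H.dle; omega) (H.no_hook hr)

theorem step_eq (H : MH n B B' x y d) : insert (x - (n - d)) (B.erase x) = B' := by
  have h1 : x - (n - d) = y := by
    have := H.len
    have := H.dle
    omega
  ext b
  rw [H.mem', h1, mem_insert, mem_erase, and_comm]

theorem nz (H : MH n B B' x y d) {s : Multiset ℕ} (h : Nz n s B') : Nz n ((n - d) ::ₘ s) B := by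
  have hl := H.len
  have hd := H.dle
  refine nz_step H.hx (by omega) ?_ ?_ ?_
  · rw [show x - (n - d) = y by omega]
    exact H.hy
  · intro c hc hcx hr
    apply H.low
    have := H.max c hc
    omega
  · rw [H.step_eq]
    exact h

theorem nz_ones (H : MH n B B' x y d) : Nz n ((n - d) ::ₘ Multiset.replicate d 1) B :=
  H.nz (OZ.nz_ones H.sum')

end MH

/-! ### inner partitions of size at most three -/

theorem eq_range_of_lt {n : ℕ} {B : Finset ℕ} (hc : B.card = n) (h : ∀ b ∈ B, b < n) : B = range n :=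
  eq_of_subset_of_card_le (fun b hb => mem_range.2 (h b hb)) (by rw [card_range, hc])

theorem inner0 {n : ℕ} {B : Finset ℕ} (hc : B.card = n) (hs : ∑ b ∈ B, b = 0 + ∑ i ∈ range n, i) (b : ℕ) :
    b ∈ B ↔ b < n := by
  have h := eq_range_of_sum (B := B) (by rw [hs, hc, zero_add])
  rw [h, hc, mem_range]

theorem inner1 {n : ℕ} {B : Finset ℕ} (hc : B.card = n + 1) (hs : ∑ b ∈ B, b = 1 + ∑ i ∈ range (n + 1), i) (b : ℕ) :
    b ∈ B ↔ b = n + 1 ∨ b < n := by
  obtain ⟨k, hk, hkB, hlt, hc', hs'⟩ := excess hc hs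
  have hb : b ∈ B ↔ b = n + k ∨ b ∈ B.erase (n + k) := by
    rw [mem_erase]
    constructor
    · intro h
      by_cases h1 : b = n + k
      · exact Or.inl h1
      · exact Or.inr ⟨h1, h⟩
    · rintro (h | h)
      · rw [h]; exact hkB
      · exact h.2
  rcases Nat.eq_zero_or_pos k with h0 | h1
  · subst h0
    have h2 := eq_range_of_lt hc' (by intro b hb; have := hlt b hb; omega)
    rw [h2] at hs'
    omega
  · obtain rfl : k = 1 := by omega
    have h2 := inner0 hc' (by rw [hs'])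
    rw [hb, h2]

theorem inner2 {n : ℕ} {B : Finset ℕ} (hc : B.card = n + 2) (hs : ∑ b ∈ B, b = 2 + ∑ i ∈ range (n + 2), i) :
    (∀ b, b ∈ B ↔ b = n + 3 ∨ b < n + 1) ∨ (∀ b, b ∈ B ↔ b = n + 2 ∨ b = n + 1 ∨ b < n) := by
  obtain ⟨k, hk, hkB, hlt, hc', hs'⟩ := excess (n := n + 1) hc hs
  have hb : ∀ b, b ∈ B ↔ b = n + 1 + k ∨ b ∈ B.erase (n + 1 + k) := by
    intro b
    rw [mem_erase]
    constructor
    · intro h
      by_cases h1 : b = n + 1 + k
      · exact Or.inl h1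
      · exact Or.inr ⟨h1, h⟩
    · rintro (h | h)
      · rw [h]; exact hkB
      · exact h.2
  obtain h0 | h0 | h0 : k = 0 ∨ k = 1 ∨ k = 2 := by omega
  · subst h0
    have h2 := eq_range_of_lt hc' (by intro b hb; have := hlt b hb; omega)
    rw [h2] at hs'
    omega
  · subst h0
    right
    intro b
    rw [hb, inner1 hc' (by rw [hs'])]
  · subst h0
    left
    intro b
    rw [hb, inner0 hc' (by rw [hs'])]

theorem inner3 {n : ℕ} {B : Finset ℕ} (hc : B.card = n + 3) (hs : ∑ b ∈ B, b = 3 + ∑ i ∈ range (n + 3), i) :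
    (∀ b, b ∈ B ↔ b = n + 5 ∨ b < n + 2) ∨ (∀ b, b ∈ B ↔ b = n + 4 ∨ b = n + 2 ∨ b < n + 1) ∨
      (∀ b, b ∈ B ↔ b = n + 3 ∨ b = n + 2 ∨ b = n + 1 ∨ b < n) := by
  obtain ⟨k, hk, hkB, hlt, hc', hs'⟩ := excess (n := n + 2) hc hs
  have hb : ∀ b, b ∈ B ↔ b = n + 2 + k ∨ b ∈ B.erase (n + 2 + k) := by
    intro b
    rw [mem_erase]
    constructor
    · intro h
      by_cases h1 : b = n + 2 + k
      · exact Or.inl h1
      · exact Or.inr ⟨h1, h⟩
    · rintro (h | h)
      · rw [h]; exact hkB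
      · exact h.2
  obtain h0 | h0 | h0 | h0 : k = 0 ∨ k = 1 ∨ k = 2 ∨ k = 3 := by omega
  · subst h0
    have h2 := eq_range_of_lt hc' (by intro b hb; have := hlt b hb; omega)
    rw [h2] at hs'
    omega
  · subst h0
    rcases inner2 (n := n) hc' (by rw [hs']) with h | h
    · exact absurd (hlt _ ((h (n + 3)).2 (Or.inl rfl))) (by omega)
    · right; right
      intro b
      rw [hb, h]
  · subst h0
    right; left
    intro b
    rw [hb, inner1 (n := n + 1) hc' (by rw [hs'])]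
  · subst h0
    left
    intro b
    rw [hb, inner0 hc' (by rw [hs'])]

end Cfsg.Agent.H956.OZ
end

-- part: H956/OZ/Comb3
section
/-!
# S4842, alternating groups: zeros of every beta-set (helper956)

`good_odd`, `good_even` : for `n ≥ 7` every beta-set `B` of a partition of `n` is `Good`.
-/

set_option autoImplicit false

namespace Cfsg.Agent.H956.OZ

open Finset Cfsg.Agent.H614

/-- an odd permutation with nonzero value -/
def OddNZ (n : ℕ) (B : Finset ℕ) : Prop :=
  ∃ c : Multiset ℕ, (∀ a ∈ c, 2 ≤ a) ∧ c.sum ≤ n ∧ Odd (c.sum + Multiset.card c) ∧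
    Nz n (c + Multiset.replicate (n - c.sum) 1) B

/-- an even cycle type of zeros -/
def ZT (n : ℕ) (B : Finset ℕ) (c : Multiset ℕ) : Prop :=
  (∀ a ∈ c, 2 ≤ a) ∧ c.sum ≤ n ∧ Even (c.sum + Multiset.card c) ∧ Vz n (c + Multiset.replicate (n - c.sum) 1) B

/-- the class does not split in the alternating group -/
def NS (n : ℕ) (c : Multiset ℕ) : Prop := c.sum + 1 < n ∨ ∃ a ∈ c, Even a

/-- What is proved for every beta-set. -/
def Good (n : ℕ) (B : Finset ℕ) : Prop :=
  (∃ c c', c ≠ c' ∧ ZT n B c ∧ ZT n B c' ∧ NS n c ∧ NS n c') ∨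
  (OddNZ n B ∧ ((∃ c c', c ≠ c' ∧ ZT n B c ∧ ZT n B c') ∨
    (∃ r, n ≤ r + 1 ∧ 2 ≤ r ∧ ZT n B {r}))) ∨
  (∀ s : Multiset ℕ, s.sum = n → (∀ a ∈ s, 0 < a) → Nz n s B)

variable {n : ℕ} {B B' : Finset ℕ} {x y d : ℕ}

theorem zt1 {r : ℕ} (h2 : 2 ≤ r) (hn : r ≤ n) (ho : Odd r) (hv : Vz n (r ::ₘ Multiset.replicate (n - r) 1) B) :
    ZT n B {r} := by
  refine ⟨fun a ha => by rw [Multiset.mem_singleton.1 ha]; exact h2, by simpa using hn, ?_, ?_⟩
  · rw [Multiset.sum_singleton, Multiset.card_singleton]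
    exact ho.add_one
  · rw [Multiset.sum_singleton, Multiset.singleton_add]
    exact hv

theorem zt2 {r t : ℕ} (h2 : 2 ≤ r) (ht : 2 ≤ t) (hn : r + t ≤ n) (he : Even (r + t))
    (hv : Vz n (r ::ₘ t ::ₘ Multiset.replicate (n - (r + t)) 1) B) : ZT n B (r ::ₘ {t}) := by
  refine ⟨?_, by simpa using hn, ?_, ?_⟩
  · intro a ha
    rw [Multiset.mem_cons, Multiset.mem_singleton] at ha
    rcases ha with rfl | rfl
    · exact h2
    · exact ht
  · rw [Multiset.sum_cons, Multiset.sum_singleton, Multiset.card_cons, Multiset.card_singleton]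
    obtain ⟨k, hk⟩ := he
    exact ⟨k + 1, by omega⟩
  · rw [Multiset.sum_cons, Multiset.sum_singleton, Multiset.cons_add, Multiset.singleton_add]
    exact hv

theorem oddNZ1 {r : ℕ} (h2 : 2 ≤ r) (hn : r ≤ n) (he : Even r) (hv : Nz n (r ::ₘ Multiset.replicate (n - r) 1) B) :
    OddNZ n B := by
  refine ⟨{r}, fun a ha => by rw [Multiset.mem_singleton.1 ha]; exact h2, by simpa using hn, ?_, ?_⟩
  · rw [Multiset.sum_singleton, Multiset.card_singleton]
    exact he.add_one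
  · rw [Multiset.sum_singleton, Multiset.singleton_add]
    exact hv

theorem oddNZ2 {r t : ℕ} (h2 : 2 ≤ r) (ht : 2 ≤ t) (hn : r + t ≤ n) (ho : Odd (r + t))
    (hv : Nz n (r ::ₘ t ::ₘ Multiset.replicate (n - (r + t)) 1) B) : OddNZ n B := by
  refine ⟨r ::ₘ {t}, ?_, by simpa using hn, ?_, ?_⟩
  · intro a ha
    rw [Multiset.mem_cons, Multiset.mem_singleton] at ha
    rcases ha with rfl | rfl
    · exact h2
    · exact ht
  · rw [Multiset.sum_cons, Multiset.sum_singleton, Multiset.card_cons, Multiset.card_singleton]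
    obtain ⟨k, hk⟩ := ho
    exact ⟨k + 1, by omega⟩
  · rw [Multiset.sum_cons, Multiset.sum_singleton, Multiset.cons_add, Multiset.singleton_add]
    exact hv

theorem ne_types {r t u : ℕ} : ({r} : Multiset ℕ) ≠ t ::ₘ {u} := by
  intro h
  have := congrArg Multiset.card h
  simp at this

theorem oddNZ_of_even (H : MH n B B' x y d) (he : Even (n - d)) : OddNZ n B := by
  have hd := H.dle
  obtain ⟨k, hk⟩ := he
  refine oddNZ1 (r := n - d) (by omega) (by omega) ⟨k, hk⟩ ?_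
  rw [show n - (n - d) = d by omega]
  exact H.nz_ones

/-! ### the trivial character and the sign character -/

theorem lin_top {a : ℕ} : ∀ (s : Multiset ℕ) (B : Finset ℕ), (∀ b, b ∈ B ↔ b = n + a ∨ b < n) → s.sum = a →
    (∀ c ∈ s, 0 < c) → Nz (n + 1) s B := by
  intro s
  induction s using Multiset.induction generalizing a with
  | empty =>
    intro B hB hs _
    rw [Multiset.sum_zero] at hs
    subst hs
    have : B = range (n + 1) := by
      ext b
      rw [hB, mem_range]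
      omega
    rw [this]
    exact nz_zero
  | cons r s ih =>
    intro B hB hs hpos
    rw [Multiset.sum_cons] at hs
    have hr := hpos r (Multiset.mem_cons_self _ _)
    refine nz_step (b := n + a) ((hB _).2 (Or.inl rfl)) (by omega) (fun h => by rw [hB] at h; omega)
      (fun c hc hne hr => by rw [hB] at hc ⊢; omega) ?_
    refine ih (a := a - r) _ ?_ (by omega) (fun c hc => hpos c (Multiset.mem_cons_of_mem hc))
    intro b
    rw [mem_insert, mem_erase, hB]
    omega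

theorem lin_bot {a m : ℕ} : ∀ (s : Multiset ℕ) (B : Finset ℕ), a ≤ m → (∀ b, b ∈ B ↔ b ≤ m ∧ b ≠ m - a) → s.sum = a →
    (∀ c ∈ s, 0 < c) → Nz m s B := by
  intro s
  induction s using Multiset.induction generalizing a with
  | empty =>
    intro B _ hB hs _
    rw [Multiset.sum_zero] at hs
    subst hs
    have : B = range m := by
      ext b
      rw [hB, mem_range]
      omega
    rw [this]
    exact nz_zero
  | cons r s ih =>
    intro B ham hB hs hpos
    rw [Multiset.sum_cons] at hs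
    have hr := hpos r (Multiset.mem_cons_self _ _)
    refine nz_step (b := m - a + r) ((hB _).2 (by omega)) (by omega) (fun h => by rw [hB] at h; omega)
      (fun c hc hne hr => by rw [hB] at hc ⊢; omega) ?_
    refine ih (a := a - r) _ (by omega) ?_ (by omega) (fun c hc => hpos c (Multiset.mem_cons_of_mem hc))
    intro b
    rw [mem_insert, mem_erase, hB]
    (clear * - ham hs hr; solve | lia | omega)

/-! ### hooks -/

section hook

variable (H : MH n B B' x y 0)

include H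

theorem hook_mem (b : ℕ) : b ∈ B ↔ b = n + y ∨ (b < n ∧ b ≠ y) := by
  have h1 := inner0 H.card' H.sum' b
  have h2 := H.len
  rw [H.mem, h1, show x = n + y by omega]

theorem hook_lt : y < n := by
  by_contra h
  have h1 := (hook_mem H y).1
  have h2 := H.mem' y
  have h3 := inner0 H.card' H.sum' y
  have h4 : y ∈ B' := h2.2 (Or.inl rfl)
  rw [h3] at h4
  omega

theorem hook_lin (hy : y = 0 ∨ y + 1 = n) : Good n B := by
  right; right
  intro s hs hpos
  rcases hy with hy | hy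
  · refine lin_bot (a := n) s B le_rfl ?_ hs hpos
    intro b
    have h1 := hook_mem H b
    rw [h1, Nat.sub_self]
    constructor
    · rintro (h | h)
      · constructor
        · omega
        · have := H.dle
          omega
      · constructor
        · omega
        · have := h.2
          omega
    · rintro ⟨h2, h3⟩
      by_cases h4 : b = n
      · left; omega
      · right; constructor
        · omega
        · omega
  · obtain ⟨k, rfl⟩ : ∃ k, n = k + 1 := ⟨n - 1, by omega⟩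
    refine lin_top (n := k) (a := k + 1) s B ?_ hs hpos
    intro b
    have h1 := hook_mem H b
    rw [h1]
    omega

theorem hook_even (h7 : 7 ≤ n) (he : Even n) : Good n B := by
  have hlt := hook_lt H
  by_cases hy : y = 0 ∨ y + 1 = n
  · exact hook_lin H hy
  right; left
  refine ⟨oddNZ_of_even H (by simpa only [_root_.tsub_zero] using he), Or.inr ⟨n - 1, by omega, by omega, ?_⟩⟩
  refine zt1 (by omega) (by omega) ?_ (vz_no _ (by omega) ?_)
  · obtain ⟨k, hk⟩ := he
    exact ⟨k - 1, by omega⟩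
  · intro b hb hr
    rw [hook_mem H] at hb ⊢
    omega

theorem hook_odd (h7 : 7 ≤ n) (ho : Odd n) : Good n B := by
  have hlt := hook_lt H
  have hm := hook_mem H
  obtain ⟨k, hk⟩ := ho
  by_cases hy : y = 0 ∨ y + 1 = n
  · exact hook_lin H hy
  -- type `(n - 2, 1, 1)`
  have z1 : y ≠ 1 → y + 2 ≠ n → ZT n B {n - 2} := by
    intro h1 h2
    refine zt1 (by omega) (by omega) ⟨k - 1, by omega⟩ (vz_no _ (by omega) ?_)
    intro b hb hr
    rw [hm] at hb ⊢
    (clear * - hlt hy h1 h2 hb; (solve | lia | omega))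
  -- type `(n - 3, 2, 1)`
  have z2 : y ≠ 2 → y + 3 ≠ n → ZT n B ((n - 3) ::ₘ {2}) := by
    intro h1 h2
    refine zt2 (by omega) (by omega) (by omega) ⟨k, by omega⟩ ?_
    by_cases h3 : y = 1 ∨ y + 2 = n
    · -- one step
      clear hy h1 h2
      rcases h3 with h3 | h3
      · refine vz_step (b := n - 2) ((hm _).2 (by omega)) (by omega) (fun h => by rw [hm] at h; omega)
          (fun c hc hne hr => by rw [hm] at hc ⊢; (clear * - h7 h3 hc hne; omega)) (vz_no _ (by omega) ?_)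
        intro b hb hr
        rw [mem_insert, mem_erase, hm] at hb ⊢
        omega
      · refine vz_step (b := n + y) ((hm _).2 (by omega)) (by omega) (fun h => by rw [hm] at h; omega)
          (fun c hc hne hr => by rw [hm] at hc ⊢; (clear * - hk h3 hc hne; omega)) (vz_no _ (by omega) ?_)
        intro b hb hr
        rw [mem_insert, mem_erase, hm] at hb ⊢
        (clear * - hk h3 hb; solve | lia | omega)
    · refine vz_no _ (by omega) ?_
      intro b hb hr
      rw [hm] at hb ⊢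
      (clear * - hlt hy h1 h2 h3 hb; (solve | lia | omega))
  by_cases hmid : y ≠ 1 ∧ y ≠ 2 ∧ y + 2 ≠ n ∧ y + 3 ≠ n
  · left
    refine ⟨_, _, ne_types, z1 hmid.1 hmid.2.2.1, z2 hmid.2.1 hmid.2.2.2, Or.inl ?_, Or.inr ⟨2, by simp, by decide⟩⟩
    rw [Multiset.sum_singleton]; omega
  -- type `(n - 4, 3, 1)`
  have z3 : ZT n B ((n - 4) ::ₘ {3}) := by
    refine zt2 (by omega) (by omega) (by omega) ⟨k, by omega⟩ ?_
    obtain h | h | h | h : y = 1 ∨ y = 2 ∨ y + 2 = n ∨ y + 3 = n := by (clear * - h7 hmid; omega)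
    all_goals clear hy hmid hk
    · refine vz_step (b := n - 3) ((hm _).2 (by omega)) (by omega) (fun h => by rw [hm] at h; omega)
        (fun c hc hne hr => by rw [hm] at hc ⊢; (clear * - h7 h hc hne; omega)) (vz_no _ (by omega) ?_)
      intro b hb hr
      rw [mem_insert, mem_erase, hm] at hb ⊢
      (clear * - h7 h hb; solve | lia | omega)
    · refine vz_step (b := n - 2) ((hm _).2 (by omega)) (by omega) (fun h => by rw [hm] at h; omega)
        (fun c hc hne hr => by rw [hm] at hc ⊢; (clear * - h7 h hc hne; omega)) (vz_no _ (by omega) ?_)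
      intro b hb hr
      rw [mem_insert, mem_erase, hm] at hb ⊢
      omega
    · refine vz_step (b := n + y) ((hm _).2 (by omega)) (by omega) (fun h => by rw [hm] at h; omega)
        (fun c hc hne hr => by rw [hm] at hc ⊢; (clear * - h7 h hc hne; (solve | lia | omega))) (vz_no _ (by omega) ?_)
      intro b hb hr
      rw [mem_insert, mem_erase, hm] at hb ⊢
      (clear * - h7 h hb; (solve | lia | omega))
    · refine vz_step (b := n + y) ((hm _).2 (by omega)) (by omega) (fun h => by rw [hm] at h; omega)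
        (fun c hc hne hr => by rw [hm] at hc ⊢; (clear * - h7 h hc hne; omega)) (vz_no _ (by omega) ?_)
      intro b hb hr
      rw [mem_insert, mem_erase, hm] at hb ⊢
      (clear * - h7 h hb; omega)
  -- the odd type `(n - 3, 3)`
  have o1 : OddNZ n B := by
    refine oddNZ2 (r := n - 3) (t := 3) (by omega) (by omega) (by omega) ⟨k, by omega⟩ ?_
    rw [show n - (n - 3 + 3) = 0 by omega, Multiset.replicate_zero]
    have fin : ∀ C : Finset ℕ, (∀ b, b ∈ C ↔ b < n) → Nz n 0 C := by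
      intro C hC
      have : C = range n := by ext b; rw [hC, mem_range]
      rw [this]
      exact nz_zero
    obtain h | h | h | h : y = 1 ∨ y = 2 ∨ y + 2 = n ∨ y + 3 = n := by (clear * - h7 hmid; omega)
    all_goals clear hy hmid hk
    · refine nz_step (b := n - 2) ((hm _).2 (by omega)) (by omega) (fun h => by rw [hm] at h; omega)
        (fun c hc hne hr => by rw [hm] at hc ⊢; (clear * - h7 h hc hne; omega)) ?_
      refine nz_step (b := n + 1) (by rw [mem_insert, mem_erase, hm]; omega) (by omega)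
        (fun h => by rw [mem_insert, mem_erase, hm] at h; (clear * - h7 h; omega))
        (fun c hc hne hr => by rw [mem_insert, mem_erase, hm] at hc ⊢; omega) (fin _ fun b => ?_)
      rw [mem_insert, mem_erase, mem_insert, mem_erase, hm]
      (clear * - h7 h; solve | lia | omega)
    · refine nz_step (b := n - 1) ((hm _).2 (by omega)) (by omega) (fun h => by rw [hm] at h; omega)
        (fun c hc hne hr => by rw [hm] at hc ⊢; (clear * - h7 h hc hne; omega)) ?_
      refine nz_step (b := n + 2) (by rw [mem_insert, mem_erase, hm]; omega) (by omega)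
        (fun h => by rw [mem_insert, mem_erase, hm] at h; (clear * - h7 h; omega))
        (fun c hc hne hr => by rw [mem_insert, mem_erase, hm] at hc ⊢; omega) (fin _ fun b => ?_)
      rw [mem_insert, mem_erase, mem_insert, mem_erase, hm]
      omega
    · refine nz_step (b := n + y) ((hm _).2 (by omega)) (by omega) (fun h => by rw [hm] at h; omega)
        (fun c hc hne hr => by rw [hm] at hc ⊢; (clear * - h7 h hc hne; omega)) ?_
      refine nz_step (b := n + 1) (by rw [mem_insert, mem_erase, hm]; (clear * - h7 h; omega)) (by omega)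
        (fun h => by rw [mem_insert, mem_erase, hm] at h; omega)
        (fun c hc hne hr => by rw [mem_insert, mem_erase, hm] at hc ⊢; omega) (fin _ fun b => ?_)
      rw [mem_insert, mem_erase, mem_insert, mem_erase, hm]
      omega
    · refine nz_step (b := n + y) ((hm _).2 (by omega)) (by omega) (fun h => by rw [hm] at h; omega)
        (fun c hc hne hr => by rw [hm] at hc ⊢; (clear * - h7 h hc hne; omega)) ?_
      refine nz_step (b := n) (by rw [mem_insert, mem_erase, hm]; omega) (by omega)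
        (fun h => by rw [mem_insert, mem_erase, hm] at h; omega)
        (fun c hc hne hr => by rw [mem_insert, mem_erase, hm] at hc ⊢; (clear * - h hc hne hr; omega)) (fin _ fun b => ?_)
      rw [mem_insert, mem_erase, mem_insert, mem_erase, hm]
      (clear * - h; omega)
  right; left
  refine ⟨o1, Or.inl ?_⟩
  by_cases h : y = 1 ∨ y + 2 = n
  · refine ⟨_, _, ?_, z2 (by omega) (by omega), z3⟩
    intro hc
    have h2 : (2 : ℕ) ∈ (n - 4) ::ₘ ({3} : Multiset ℕ) := by rw [← hc]; simp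
    rw [Multiset.mem_cons, Multiset.mem_singleton] at h2
    omega
  · exact ⟨_, _, ne_types, z1 (by omega) (by omega), z3⟩

end hook

end Cfsg.Agent.H956.OZ
end

-- part: H846/OZ/Tr
section
/-!
# S4842, row PSL₂ (helper846): traces of the zeros; elements of `SL₂` with prescribed trace
-/

set_option autoImplicit false

open Cfsg
open Matrix (ProjectiveSpecialLinearGroup)

namespace Cfsg.Agent.H846.OZ

open Cfsg.Agent.H730.OZ (OneZero Concl Row)

variable {F : Type*} [Field F]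

/-- the trace -/
def tr (g : Matrix.SpecialLinearGroup (Fin 2) F) : F := (g : Matrix (Fin 2) (Fin 2) F).trace

theorem tr_conj (g k : Matrix.SpecialLinearGroup (Fin 2) F) : tr (k * g * k⁻¹) = tr g := by
  unfold tr
  have h : ((k * g * k⁻¹ : Matrix.SpecialLinearGroup (Fin 2) F) : Matrix (Fin 2) (Fin 2) F) =
      (k : Matrix (Fin 2) (Fin 2) F) * (g : Matrix (Fin 2) (Fin 2) F) *
        ((k⁻¹ : Matrix.SpecialLinearGroup (Fin 2) F) : Matrix (Fin 2) (Fin 2) F) := by
    simp only [Matrix.SpecialLinearGroup.coe_mul]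
  rw [h, Matrix.trace_mul_cycle]
  have h2 : ((k⁻¹ : Matrix.SpecialLinearGroup (Fin 2) F) : Matrix (Fin 2) (Fin 2) F) *
      (k : Matrix (Fin 2) (Fin 2) F) = 1 := by
    rw [← Matrix.SpecialLinearGroup.coe_mul, inv_mul_cancel, Matrix.SpecialLinearGroup.coe_one]
  rw [h2, one_mul]

/-- Elements with conjugate images in `PSL₂` have the same trace up to sign. -/
theorem tr_sq_of_isConj {g h : Matrix.SpecialLinearGroup (Fin 2) F}
    (H : IsConj (QuotientGroup.mk' (Subgroup.center (Matrix.SpecialLinearGroup (Fin 2) F)) g)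
      (QuotientGroup.mk' (Subgroup.center (Matrix.SpecialLinearGroup (Fin 2) F)) h)) : tr g ^ 2 = tr h ^ 2 := by
  obtain ⟨c, hc⟩ := isConj_iff.1 H
  obtain ⟨k, rfl⟩ := QuotientGroup.mk'_surjective _ c
  rw [← map_mul, ← map_inv, ← map_mul] at hc
  obtain ⟨z, hz, e⟩ := (QuotientGroup.mk'_eq_mk' _).1 hc
  obtain ⟨r, hr1, hr2⟩ := Matrix.SpecialLinearGroup.mem_center_iff.1 hz
  have h1 : ((z : Matrix.SpecialLinearGroup (Fin 2) F) : Matrix (Fin 2) (Fin 2) F) = r • (1 : Matrix (Fin 2) (Fin 2) F) := by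
    rw [← hr2]
    ext i j
    simp [Matrix.scalar_apply, Matrix.diagonal_apply, Matrix.one_apply]
  have h2 : r ^ 2 = 1 := by simpa only [_root_.sq_eq_one_iff, _root_.Fintype.card_fin] using hr1
  have h3 : tr h = r * tr g := by
    rw [← tr_conj g k, ← e]
    unfold tr
    rw [Matrix.SpecialLinearGroup.coe_mul, h1, Matrix.mul_smul, Matrix.mul_one, Matrix.trace_smul, smul_eq_mul]
  rw [h3, mul_pow, h2, one_mul]

/-- **The zeros of a character with one class of zeros have the same trace up to sign.** -/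
theorem tr_sq_of_zero {S : Type*} [Group S] (e : S ≃* ProjectiveSpecialLinearGroup (Fin 2) F) {χ : S → ℂ}
    (h : OneZero χ) {g k : Matrix.SpecialLinearGroup (Fin 2) F} (hg : χ (e.symm (QuotientGroup.mk' _ g)) = 0)
    (hk : χ (e.symm (QuotientGroup.mk' _ k)) = 0) : tr g ^ 2 = tr k ^ 2 := by
  obtain ⟨x, -, hx⟩ := h
  have h1 := (hx _ hg).symm.trans (hx _ hk)
  exact tr_sq_of_isConj ((H730.OZ.isConj_map_iff e.symm _ _).1 h1)

/-- the diagonal element -/
def dg (a : Fˣ) : Matrix.SpecialLinearGroup (Fin 2) F := ⟨!![(a : F), 0; 0, (a : F)⁻¹], by simp [Matrix.det_fin_two]⟩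

theorem tr_dg (a : Fˣ) : tr (dg a) = (a : F) + (a : F)⁻¹ := by
  simp [tr, dg, Matrix.trace_fin_two]

/-- the companion element -/
def cp (t : F) : Matrix.SpecialLinearGroup (Fin 2) F := ⟨!![0, -1; 1, t], by simp [Matrix.det_fin_two]⟩

theorem tr_cp (t : F) : tr (cp t) = t := by
  simp [tr, cp, Matrix.trace_fin_two]

/-- `x² - t x + 1` has no root -/
def Irr (t : F) : Prop := ∀ x : F, x ^ 2 - t * x + 1 ≠ 0

theorem cp_noEig {t : F} (ht : Irr t) (c : F) (v : Fin 2 → F) (hv : v ≠ 0) :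
    (cp t : Matrix (Fin 2) (Fin 2) F).mulVec v ≠ c • v := by
  intro h
  have h0 := congrFun h 0
  have h1 := congrFun h 1
  simp only [cp, Matrix.mulVec, dotProduct, Fin.sum_univ_two, _root_.Fin.isValue, _root_.Matrix.of_apply, _root_.Matrix.cons_val', _root_.Matrix.cons_val_fin_one, _root_.Matrix.cons_val_zero, _root_.MulZeroClass.zero_mul, _root_.Matrix.cons_val_one, _root_.neg_mul, _root_.one_mul, _root_.zero_add, _root_.Pi.smul_apply, _root_.smul_eq_mul] at h0 h1
  -- h0 : -v 1 = c * v 0, h1 : v 0 + t * v 1 = c * v 1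
  have h2 : (c ^ 2 - t * c + 1) * v 0 = 0 := by
    have e1 : v 1 = -(c * v 0) := by rw [← h0]; ring
    rw [e1] at h1
    linear_combination h1
  rcases mul_eq_zero.1 h2 with h3 | h3
  · exact ht c h3
  · apply hv
    have e1 : v 1 = 0 := by
      rw [h3, mul_zero] at h0
      exact neg_eq_zero.1 h0
    funext i
    fin_cases i
    · exact h3
    · exact e1

end Cfsg.Agent.H846.OZ
end

-- part: H846/OZ/Count
section
/-!
# S4842, row PSL₂ (helper846): enough split and non-split elements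
-/

set_option autoImplicit false

open Cfsg Finset

namespace Cfsg.Agent.H846.OZ

variable {F : Type*} [Field F] [Fintype F]

omit [Fintype F] in
theorem sq_eq_one_iff_of_side {a : F} (h : a ^ 2 = 1) : a = 1 ∨ a = -1 := by
  have h1 : (a - 1) * (a + 1) = 0 := by linear_combination h
  rcases mul_eq_zero.1 h1 with h2 | h2
  · exact Or.inl (sub_eq_zero.1 h2)
  · exact Or.inr (eq_neg_of_add_eq_zero_left h2)

/-- the trace of a split element -/
def sp (a : Fˣ) : F := (a : F) + (a : F)⁻¹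

/-- Split elements: two values of `a + a⁻¹` which differ up to sign. -/
theorem exists_split (h8 : 8 ≤ Fintype.card F) :
    ∃ a b : Fˣ, (a : F) ^ 2 ≠ 1 ∧ (b : F) ^ 2 ≠ 1 ∧ ((a : F) + (a : F)⁻¹) ^ 2 ≠ ((b : F) + (b : F)⁻¹) ^ 2 := by
  classical
  have key : ∀ s : Finset F, s.card < Fintype.card F → ∃ a : F, a ∉ s := by
    intro s hs
    by_contra hcon
    push Not at hcon
    have : s = univ := eq_univ_iff_forall.2 hcon
    rw [this, card_univ] at hs
    exact lt_irrefl _ hs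
  obtain ⟨a, ha⟩ := key {0, 1, -1} (lt_of_le_of_lt (card_le_three (a := (0 : F)) (b := 1) (c := -1)) (by omega))
  simp only [mem_insert, mem_singleton, not_or] at ha
  have hcard : (({0, 1, -1, a, -a, a⁻¹, -a⁻¹} : Finset F)).card ≤ 7 := by
    refine le_trans (card_insert_le _ _) ?_
    refine Nat.succ_le_succ (le_trans (card_insert_le _ _) ?_)
    refine Nat.succ_le_succ (le_trans (card_insert_le _ _) ?_)
    refine Nat.succ_le_succ (le_trans (card_insert_le _ _) ?_)
    refine Nat.succ_le_succ (le_trans (card_insert_le _ _) ?_)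
    refine Nat.succ_le_succ (le_trans (card_insert_le _ _) ?_)
    simp
  obtain ⟨b, hb⟩ := key {0, 1, -1, a, -a, a⁻¹, -a⁻¹} (lt_of_le_of_lt hcard (by omega))
  simp only [mem_insert, mem_singleton, not_or] at hb
  obtain ⟨hb0, hb1, hb2, hb3, hb4, hb5, hb6⟩ := hb
  refine ⟨Units.mk0 a ha.1, Units.mk0 b hb0, ?_, ?_, ?_⟩
  · simp only [Units.val_mk0]
    intro h
    rcases sq_eq_one_iff_of_side h with h | h
    · exact ha.2.1 h
    · exact ha.2.2 h
  · simp only [Units.val_mk0]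
    intro h
    rcases sq_eq_one_iff_of_side h with h | h
    · exact hb1 h
    · exact hb2 h
  · simp only [Units.val_mk0]
    intro h
    have ha0 : a ≠ 0 := ha.1
    have h2 : (b - a) * (b + a) * ((b * a - 1) * (b * a + 1)) = 0 := by
      have e1 : (a + a⁻¹) ^ 2 * (a ^ 2 * b ^ 2) = (b + b⁻¹) ^ 2 * (a ^ 2 * b ^ 2) := by rw [h]
      have e2 : (a + a⁻¹) ^ 2 * (a ^ 2 * b ^ 2) = (a ^ 2 + 1) ^ 2 * b ^ 2 := by
        field_simp
      have e3 : (b + b⁻¹) ^ 2 * (a ^ 2 * b ^ 2) = (b ^ 2 + 1) ^ 2 * a ^ 2 := by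
        field_simp
      rw [e2, e3] at e1
      linear_combination -e1
    rcases mul_eq_zero.1 h2 with h3 | h3
    · rcases mul_eq_zero.1 h3 with h4 | h4
      · exact hb3 (sub_eq_zero.1 h4)
      · exact hb4 (eq_neg_of_add_eq_zero_left h4)
    · rcases mul_eq_zero.1 h3 with h4 | h4
      · exact hb5 (eq_inv_of_mul_eq_one_left (sub_eq_zero.1 h4))
      · apply hb6
        have h5 : b * a = -1 := eq_neg_of_add_eq_zero_left h4
        have h6 : b = -1 * a⁻¹ := by rw [← h5, mul_assoc, mul_inv_cancel₀ ha0, mul_one]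
        rw [h6]; ring

/-- Twice the number of `t` with `x² - t x + 1` reducible. -/
theorem card_red [DecidableEq F] : 2 * ((univ : Finset Fˣ).image sp).card ≤
    (Fintype.card F - 1) + (({2, -2} : Finset F)).card := by
  classical
  set f : Fˣ → F := sp with hf
  set Im := (univ : Finset Fˣ).image f with hIm
  have h1 : (univ : Finset Fˣ).card = ∑ t ∈ Im, ((univ : Finset Fˣ).filter fun a => f a = t).card :=
    card_eq_sum_card_fiberwise fun a _ => by
      simp only [hIm, coe_image, coe_univ, Set.image_univ, Set.mem_range]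
      exact ⟨a, rfl⟩
  have hu : (univ : Finset Fˣ).card = Fintype.card F - 1 := by
    rw [card_univ, Fintype.card_units]
  have h2 : ∀ t ∈ Im, 2 ≤ ((univ : Finset Fˣ).filter fun a => f a = t).card +
      (if t ∈ ({2, -2} : Finset F) then 1 else 0) := by
    intro t ht
    obtain ⟨a, -, rfl⟩ := mem_image.1 ht
    split_ifs with hP
    · have : 0 < ((univ : Finset Fˣ).filter fun b => f b = f a).card :=
        card_pos.2 ⟨a, mem_filter.2 ⟨mem_univ _, rfl⟩⟩
      omega
    · have hne : a ≠ a⁻¹ := by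
        intro h
        apply hP
        have h3 : (a : F) * a = 1 := by
          have := congrArg (fun x : Fˣ => ((x * a : Fˣ) : F)) h
          simpa only [_root_.Units.val_mul, _root_.inv_mul_cancel, _root_.Units.val_one] using this
        have h4 : (a : F) ^ 2 = 1 := by rw [pow_two]; exact h3
        have h5 : (a : F)⁻¹ = a := inv_eq_of_mul_eq_one_left h3
        rcases sq_eq_one_iff_of_side h4 with h6 | h6
        · simp only [mem_insert, mem_singleton]
          left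
          simp only [hf, sp, h6]; norm_num
        · simp only [mem_insert, mem_singleton]
          right
          simp only [hf, sp, h6]; norm_num
      have h7 : ({a, a⁻¹} : Finset Fˣ) ⊆ (univ : Finset Fˣ).filter fun b => f b = f a := by
        intro b hb
        simp only [mem_insert, mem_singleton] at hb
        refine mem_filter.2 ⟨mem_univ _, ?_⟩
        rcases hb with rfl | rfl
        · rfl
        · simp only [hf, sp, Units.val_inv_eq_inv_val, inv_inv]; ring
      have h8 := card_le_card h7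
      rw [card_pair hne] at h8
      omega
  have h3 := sum_le_sum h2
  rw [sum_const, sum_add_distrib, ← h1, hu, smul_eq_mul] at h3
  have h4 : ∑ t ∈ Im, (if t ∈ ({2, -2} : Finset F) then 1 else 0) ≤ (({2, -2} : Finset F)).card := by
    rw [← sum_filter, sum_const, smul_eq_mul, mul_one]
    exact card_le_card fun t ht => (mem_filter.1 ht).2
  rw [mul_comm]
  exact le_trans h3 (Nat.add_le_add_left h4 _)

theorem irr_iff [DecidableEq F] (t : F) : Irr t ↔ t ∉ (univ : Finset Fˣ).image sp := by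
  constructor
  · intro h ht
    obtain ⟨a, -, rfl⟩ := mem_image.1 ht
    apply h a
    have : (a : F) ≠ 0 := a.ne_zero
    unfold sp
    field_simp
    ring
  · intro h x hx
    apply h
    have hx0 : x ≠ 0 := by
      rintro rfl
      simp at hx
    refine mem_image.2 ⟨Units.mk0 x hx0, mem_univ _, ?_⟩
    simp only [sp, Units.val_mk0]
    have h1 : t * x = x ^ 2 + 1 := by linear_combination -hx
    have h2 : t = (x ^ 2 + 1) * x⁻¹ := by rw [← h1, mul_assoc, mul_inv_cancel₀ hx0, mul_one]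
    rw [h2]
    field_simp

/-- Non-split elements: two different values of `t²`. -/
theorem exists_irr (h : 7 ≤ Fintype.card F ∨ (4 ≤ Fintype.card F ∧ CharP F 2)) :
    ∃ s t : F, Irr s ∧ Irr t ∧ s ^ 2 ≠ t ^ 2 := by
  classical
  set Im := (univ : Finset Fˣ).image sp with hIm
  have h1 := card_red (F := F)
  rw [← hIm] at h1
  have h2 : (univ \ Im).card = Fintype.card F - Im.card := by
    rw [card_sdiff_of_subset (subset_univ _), card_univ]
  have hmem : ∀ t, t ∈ univ \ Im → Irr t := fun t ht => (irr_iff t).2 (mem_sdiff.1 ht).2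
  by_cases hc : CharP F 2
  · have h20 : (2 : F) = 0 := CharTwo.two_eq_zero
    have h3 : (({2, -2} : Finset F)).card = 1 := by
      rw [h20, neg_zero]
      simp
    rw [h3] at h1
    have h4 : 4 ≤ Fintype.card F := by omega
    have h5 : 1 < (univ \ Im).card := by omega
    obtain ⟨s, hs, t, ht, hst⟩ := one_lt_card.1 h5
    refine ⟨s, t, hmem s hs, hmem t ht, fun e => hst ?_⟩
    have e2 : (s - t) ^ 2 = 0 := by
      have : (s - t) ^ 2 = s ^ 2 - t ^ 2 - 2 * t * (s - t) := by ring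
      rw [this, e, h20]; ring
    exact sub_eq_zero.1 ((pow_eq_zero_iff (by norm_num)).1 e2)
  · have h7 : 7 ≤ Fintype.card F := by
      rcases h with h | h
      · exact h
      · exact absurd h.2 hc
    have h3 : (({2, -2} : Finset F)).card ≤ 2 := card_le_two
    have h5 : 2 < (univ \ Im).card := by omega
    obtain ⟨s, hs⟩ : (univ \ Im).Nonempty := card_pos.1 (by omega)
    obtain ⟨t, ht, ht'⟩ : ∃ t ∈ univ \ Im, t ∉ ({s, -s} : Finset F) := by
      by_contra hcon
      push Not at hcon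
      have := card_le_card (s := univ \ Im) (t := {s, -s}) fun t ht => hcon t ht
      have h6 : (({s, -s} : Finset F)).card ≤ 2 := card_le_two
      omega
    refine ⟨s, t, hmem s hs, hmem t ht, fun e => ht' ?_⟩
    simp only [mem_insert, mem_singleton]
    rcases sq_eq_sq_iff_eq_or_eq_neg.1 e.symm with h | h
    · exact Or.inl h
    · exact Or.inr h

end Cfsg.Agent.H846.OZ
end

-- part: H846/OZ/Even
section
/-!
# S4842, row PSL₂(2^a) (helper846)
-/

set_option autoImplicit false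

open Cfsg
open Matrix (ProjectiveSpecialLinearGroup)

namespace Cfsg.Agent.H846.OZ

open Cfsg.Agent.H730.OZ (OneZero Concl Row)
open Cfsg.Agent.Characters

universe u

section psi

variable {S : Type*} [Group S] {F : Type*} [Field F]

/-- the character of `SL₂` -/
def psi (e : S ≃* ProjectiveSpecialLinearGroup (Fin 2) F) (χ : S → ℂ) : Matrix.SpecialLinearGroup (Fin 2) F → ℂ :=
  fun g => χ (e.symm (QuotientGroup.mk' (Subgroup.center (Matrix.SpecialLinearGroup (Fin 2) F)) g))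

theorem isIrr_psi (e : S ≃* ProjectiveSpecialLinearGroup (Fin 2) F) {χ : S → ℂ} (hχ : IsIrrCharacter S χ) :
    IsIrrCharacter _ (psi e χ) :=
  Core.isIrr_comp (e.symm.toMonoidHom.comp (QuotientGroup.mk' (Subgroup.center (Matrix.SpecialLinearGroup (Fin 2) F))))
    (e.symm.surjective.comp (QuotientGroup.mk'_surjective _)) hχ

theorem psi_one (e : S ≃* ProjectiveSpecialLinearGroup (Fin 2) F) (χ : S → ℂ) : psi e χ 1 = χ 1 := by
  unfold psi
  rw [map_one, map_one]

theorem psi_center (e : S ≃* ProjectiveSpecialLinearGroup (Fin 2) F) (χ : S → ℂ)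
    {z : Matrix.SpecialLinearGroup (Fin 2) F} (hz : z ∈ Subgroup.center (Matrix.SpecialLinearGroup (Fin 2) F))
    (g : Matrix.SpecialLinearGroup (Fin 2) F) : psi e χ (z * g) = psi e χ g := by
  unfold psi
  rw [map_mul, (QuotientGroup.eq_one_iff (N := Subgroup.center (Matrix.SpecialLinearGroup (Fin 2) F)) z).2 hz |>
    (show QuotientGroup.mk' (Subgroup.center (Matrix.SpecialLinearGroup (Fin 2) F)) z = 1 from ·), one_mul]

theorem tr_sq (e : S ≃* ProjectiveSpecialLinearGroup (Fin 2) F) {χ : S → ℂ} (h : OneZero χ)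
    {g k : Matrix.SpecialLinearGroup (Fin 2) F} (hg : psi e χ g = 0) (hk : psi e χ k = 0) : tr g ^ 2 = tr k ^ 2 :=
  tr_sq_of_zero e h hg hk

/-- A linear character has no zeros. -/
theorem ne_one_of_oneZero {χ : S → ℂ} (hχ : IsIrrCharacter S χ) (h : OneZero χ) : χ 1 ≠ 1 := by
  intro h1
  obtain ⟨f, rfl⟩ := Linear.isIrrCharacter_degree_one_iff.1 ⟨hχ, h1⟩
  obtain ⟨x, hx, -⟩ := h
  exact (f x).ne_zero hx

end psi

section gl

variable {F : Type*} [Field F] [Fintype F]

theorem card_two [CharP F 2] : ∃ a : ℕ, Fintype.card F = 2 ^ a := by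
  obtain ⟨a, -, ha⟩ := FiniteField.card F 2
  exact ⟨a, ha⟩

theorem sq_root [CharP F 2] (x : F) : (x ^ (Fintype.card F / 2)) ^ 2 = x := by
  obtain ⟨a, -, ha⟩ := FiniteField.card F 2
  have h1 : Fintype.card F / 2 * 2 = Fintype.card F := by
    apply Nat.div_mul_cancel
    rw [ha]
    exact dvd_pow_self 2 a.pos.ne'
  rw [← pow_mul, h1, FiniteField.pow_card]

/-- the retraction of `GL₂` onto `SL₂` in characteristic two -/
def ret [CharP F 2] : Matrix.GeneralLinearGroup (Fin 2) F →* Matrix.SpecialLinearGroup (Fin 2) F where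
  toFun g := ⟨((g : Matrix (Fin 2) (Fin 2) F).det⁻¹ ^ (Fintype.card F / 2)) • (g : Matrix (Fin 2) (Fin 2) F), by
    have h0 : (g : Matrix (Fin 2) (Fin 2) F).det ≠ 0 := by
      have := (Matrix.isUnit_iff_isUnit_det _).1 g.isUnit
      exact this.ne_zero
    rw [Matrix.det_smul, Fintype.card_fin, sq_root, inv_mul_cancel₀ h0]⟩
  map_one' := by
    apply Subtype.ext
    simp
  map_mul' g k := by
    apply Subtype.ext
    change (((g * k : Matrix.GeneralLinearGroup (Fin 2) F) : Matrix (Fin 2) (Fin 2) F).det⁻¹ ^ (Fintype.card F / 2)) •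
      ((g * k : Matrix.GeneralLinearGroup (Fin 2) F) : Matrix (Fin 2) (Fin 2) F) =
      (((g : Matrix (Fin 2) (Fin 2) F).det⁻¹ ^ (Fintype.card F / 2)) • (g : Matrix (Fin 2) (Fin 2) F)) *
      (((k : Matrix (Fin 2) (Fin 2) F).det⁻¹ ^ (Fintype.card F / 2)) • (k : Matrix (Fin 2) (Fin 2) F))
    rw [Units.val_mul, Matrix.det_mul, mul_inv, mul_pow, Matrix.smul_mul, Matrix.mul_smul, smul_smul]

theorem ret_toGL [CharP F 2] (g : Matrix.SpecialLinearGroup (Fin 2) F) :
    ret (Matrix.SpecialLinearGroup.toGL g) = g := by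
  apply Subtype.ext
  have h1 : ((Matrix.SpecialLinearGroup.toGL g : Matrix.GeneralLinearGroup (Fin 2) F) : Matrix (Fin 2) (Fin 2) F) =
    (g : Matrix (Fin 2) (Fin 2) F) := rfl
  change (((Matrix.SpecialLinearGroup.toGL g : Matrix.GeneralLinearGroup (Fin 2) F) :
    Matrix (Fin 2) (Fin 2) F).det⁻¹ ^ (Fintype.card F / 2)) • ((Matrix.SpecialLinearGroup.toGL g :
    Matrix.GeneralLinearGroup (Fin 2) F) : Matrix (Fin 2) (Fin 2) F) = (g : Matrix (Fin 2) (Fin 2) F)
  rw [h1, g.det_coe, inv_one, one_pow, one_smul]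

theorem ret_surj [CharP F 2] : Function.Surjective (ret (F := F)) := fun g => ⟨_, ret_toGL g⟩

/-- Zeros of the characters of `SL₂(2^a)`. -/
theorem zero_even [CharP F 2] {ψ : Matrix.SpecialLinearGroup (Fin 2) F → ℂ} (hψ : IsIrrCharacter _ ψ)
    (g : Matrix.SpecialLinearGroup (Fin 2) F) :
    (ψ 1 = (Fintype.card F : ℂ) - 1 → (g : Matrix (Fin 2) (Fin 2) F) 0 1 = 0 → (g : Matrix (Fin 2) (Fin 2) F) 1 0 = 0 →
      (g : Matrix (Fin 2) (Fin 2) F) 0 0 ≠ (g : Matrix (Fin 2) (Fin 2) F) 1 1 → ψ g = 0) ∧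
    (ψ 1 = (Fintype.card F : ℂ) + 1 → (∀ (c : F) (v : Fin 2 → F), v ≠ 0 →
      (g : Matrix (Fin 2) (Fin 2) F).mulVec v ≠ c • v) → ψ g = 0) := by
  have h1 := S2309.result (ψ ∘ ret) (Core.isIrr_comp _ ret_surj hψ) (Matrix.SpecialLinearGroup.toGL g)
  simp only [Function.comp_apply, map_one, ret_toGL] at h1
  exact h1

end gl

/-- degree of the character -/
theorem charDegree_of {S : Type*} [Group S] [Finite S] {χ : S → ℂ} (hχ : IsIrrCharacter S χ) {n : ℕ} (h : χ 1 = n) :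
    charDegree χ = n := by
  have := H686.CharKit.charDegree_cast (Core.isIrr_isCharacter hχ)
  rw [h] at this
  exact_mod_cast this

theorem iso_five_of_four {S : Type*} [Group S] {F : Type*} [Field F] [Fintype F] (hF : Fintype.card F = 4)
    (e : S ≃* ProjectiveSpecialLinearGroup (Fin 2) F) :
    ∃ (F : Type) (_ : Field F) (_ : Fintype F), Fintype.card F = 5 ∧
      Nonempty (S ≃* ProjectiveSpecialLinearGroup (Fin 2) F) := by
  have : Fact (Nat.Prime 5) := ⟨by norm_num⟩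
  obtain ⟨f⟩ := S0252.result hF
  obtain ⟨f'⟩ := S0253.result (F := ZMod 5) (by rw [ZMod.card])
  exact ⟨ZMod 5, inferInstance, inferInstance, by rw [ZMod.card], ⟨(e.trans f).trans f'.symm⟩⟩

/-- **Row PSL₂(2^a)**, `a ≥ 2`. -/
theorem row_even {S : Type u} [Group S] [Finite S] {F : Type} [Field F] [Fintype F] [CharP F 2]
    (h4 : 4 ≤ Fintype.card F) (e : S ≃* ProjectiveSpecialLinearGroup (Fin 2) F) : Row S := by
  intro χ hχ h0
  have hψ := isIrr_psi e hχ
  have h1 := psi_one e χ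
  rcases (S2300.result (F := F)).1 _ hψ with h | h | h | h
  · exact absurd (h1 ▸ h) (ne_one_of_oneZero hχ h0)
  · rcases Nat.lt_or_ge (Fintype.card F) 8 with h8 | h8
    · -- `q = 4`
      have hq : Fintype.card F = 4 := by
        obtain ⟨a, ha⟩ := card_two (F := F)
        have ha3 : a < 3 := by
          by_contra hcon
          have : 2 ^ 3 ≤ 2 ^ a := Nat.pow_le_pow_right (by norm_num) (by omega)
          omega
        interval_cases a <;> omega
      obtain ⟨F', i1, i2, hF', e'⟩ := iso_five_of_four hq e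
      refine Or.inl ⟨F', i1, i2, hF', e', charDegree_of hχ ?_⟩
      rw [← h1, h, hq]
      norm_num
    · exfalso
      obtain ⟨a, b, ha, hb, hab⟩ := exists_split h8
      have hz : ∀ a : Fˣ, (a : F) ^ 2 ≠ 1 → psi e χ (dg a) = 0 := by
        intro a ha
        refine (zero_even hψ (dg a)).1 h (by simp [dg]) (by simp [dg]) ?_
        intro hc
        apply ha
        have : (a : F) = (a : F)⁻¹ := by simpa [dg] using hc
        rw [pow_two]
        nth_rw 2 [this]
        exact mul_inv_cancel₀ a.ne_zero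
      apply hab
      have := tr_sq e h0 (hz a ha) (hz b hb)
      rwa [tr_dg, tr_dg] at this
  · obtain ⟨a, ha⟩ := card_two (F := F)
    have ha2 : 2 ≤ a := by
      by_contra hcon
      have : 2 ^ a ≤ 2 ^ 1 := Nat.pow_le_pow_right (by norm_num) (by omega)
      omega
    refine Or.inr (Or.inr ⟨F, inferInstance, inferInstance, a, ha2, ha, ⟨e⟩, charDegree_of hχ ?_⟩)
    rw [← h1, h, ha]
  · exfalso
    obtain ⟨s, t, hs, ht, hst⟩ := exists_irr (F := F) (Or.inr ⟨h4, inferInstance⟩)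
    apply hst
    have := tr_sq e h0 ((zero_even hψ (cp s)).2 h (cp_noEig hs)) ((zero_even hψ (cp t)).2 h (cp_noEig ht))
    rwa [tr_cp, tr_cp] at this

end Cfsg.Agent.H846.OZ
end

-- part: H846/OZ/Odd
section
/-!
# S4842, row PSL₂(q) (helper846)
-/

set_option autoImplicit false

open Cfsg
open Matrix (ProjectiveSpecialLinearGroup)

namespace Cfsg.Agent.H846.OZ

open Cfsg.Agent.H730.OZ (OneZero Concl Row)
open Cfsg.Agent.Characters

universe u

/-- Conjugacy in `PSL₂` and `SL₂`. -/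
theorem isConj_of_mk {F : Type*} [Field F] {g h : Matrix.SpecialLinearGroup (Fin 2) F}
    (H : IsConj (QuotientGroup.mk' (Subgroup.center (Matrix.SpecialLinearGroup (Fin 2) F)) g)
      (QuotientGroup.mk' (Subgroup.center (Matrix.SpecialLinearGroup (Fin 2) F)) h)) (ht : tr g = tr h)
    (h0 : tr g ≠ 0) : IsConj g h := by
  obtain ⟨c, hc⟩ := isConj_iff.1 H
  obtain ⟨k, rfl⟩ := QuotientGroup.mk'_surjective _ c
  rw [← map_mul, ← map_inv, ← map_mul] at hc
  obtain ⟨z, hz, e⟩ := (QuotientGroup.mk'_eq_mk' _).1 hc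
  obtain ⟨r, hr1, hr2⟩ := Matrix.SpecialLinearGroup.mem_center_iff.1 hz
  have h1 : ((z : Matrix.SpecialLinearGroup (Fin 2) F) : Matrix (Fin 2) (Fin 2) F) =
      r • (1 : Matrix (Fin 2) (Fin 2) F) := by
    rw [← hr2]
    ext i j
    simp [Matrix.scalar_apply, Matrix.diagonal_apply, Matrix.one_apply]
  have h3 : tr h = r * tr g := by
    rw [← tr_conj g k, ← e]
    unfold tr
    rw [Matrix.SpecialLinearGroup.coe_mul, h1, Matrix.mul_smul, Matrix.mul_one, Matrix.trace_smul, smul_eq_mul]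
  have h4 : r = 1 := by
    rw [← ht] at h3
    have : (r - 1) * tr g = 0 := by linear_combination -h3
    rcases mul_eq_zero.1 this with h5 | h5
    · exact sub_eq_zero.1 h5
    · exact absurd h5 h0
  have h5 : z = 1 := by
    apply Subtype.ext
    rw [h1, h4, one_smul]
    rfl
  rw [h5, mul_one] at e
  exact isConj_iff.2 ⟨k, e⟩

/-- the transvection -/
def ub {F : Type*} [Field F] (b : F) : Matrix.SpecialLinearGroup (Fin 2) F :=
  ⟨!![1, b; 0, 1], by simp [Matrix.det_fin_two]⟩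

theorem tr_ub {F : Type*} [Field F] (b : F) : tr (ub b) = 2 := by
  simp [tr, ub, Matrix.trace_fin_two]
  norm_num

section seven

variable {F : Type*} [Field F] [Fintype F]

theorem seven_eq (h7 : Fintype.card F = 7) : (7 : F) = 0 := by
  have h1 : ((Fintype.card F : ℕ) : F) = 0 := Nat.cast_card_eq_zero F
  rw [h7] at h1
  exact_mod_cast h1

omit [Fintype F] in
theorem cp_sq (t : F) : ((cp t ^ 2 : Matrix.SpecialLinearGroup (Fin 2) F) : Matrix (Fin 2) (Fin 2) F) =
    !![-1, -t; t, t ^ 2 - 1] := by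
  rw [pow_two, Matrix.SpecialLinearGroup.coe_mul]
  simp only [cp]
  rw [Matrix.mul_fin_two]
  ext i j
  (revert i j; simp only [_root_.Fin.forall_fin_succ, _root_.MulZeroClass.mul_zero, _root_.mul_one, _root_.zero_add, _root_.mul_neg, _root_.neg_zero, _root_.neg_mul, _root_.one_mul, _root_.Matrix.of_apply, _root_.Matrix.cons_val', _root_.Matrix.cons_val_fin_one, Fin.isValue, _root_.Matrix.cons_val_zero, _root_.Matrix.cons_val_succ, _root_.forall_const, _root_.and_true, _root_.true_and]) <;> (repeat' with_reducible apply And.intro)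
  ring

theorem cp_four (h7 : Fintype.card F = 7) : ((cp (3 : F) ^ 4 : Matrix.SpecialLinearGroup (Fin 2) F) :
    Matrix (Fin 2) (Fin 2) F) = !![-1, 0; 0, -1] := by
  have e : (cp (3 : F)) ^ 4 = cp (3 : F) ^ 2 * cp (3 : F) ^ 2 := by rw [← pow_add]
  have h0 := seven_eq h7
  rw [e, Matrix.SpecialLinearGroup.coe_mul, cp_sq, Matrix.mul_fin_two]
  ext i j
  (revert i j; simp only [_root_.Fin.forall_fin_succ, _root_.mul_neg, _root_.mul_one, _root_.neg_neg, _root_.neg_mul, _root_.one_mul, _root_.Matrix.of_apply, _root_.Matrix.cons_val', _root_.Matrix.cons_val_fin_one, Fin.isValue, _root_.Matrix.cons_val_zero, _root_.Matrix.cons_val_succ, _root_.forall_const, _root_.and_true, _root_.true_and]) <;> (repeat' with_reducible apply And.intro) <;> ring_nf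
  · linear_combination (-1 : F) * h0
  · linear_combination (-3 : F) * h0
  · linear_combination (3 : F) * h0
  · linear_combination (8 : F) * h0

theorem two_ne (h7 : Fintype.card F = 7) : (2 : F) ≠ 0 := by
  intro h
  have h0 := seven_eq h7
  have : (1 : F) = 0 := by linear_combination h0 - 3 * h
  exact one_ne_zero this

theorem orderOf_cp (h7 : Fintype.card F = 7) : orderOf (cp (3 : F)) = 8 := by
  have h4 := cp_four h7
  have h8 : cp (3 : F) ^ 2 ^ (2 + 1) = 1 := by
    have e : cp (3 : F) ^ 2 ^ (2 + 1) = cp (3 : F) ^ 4 * cp (3 : F) ^ 4 := by rw [← pow_add]; rfl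
    apply Subtype.ext
    rw [e, Matrix.SpecialLinearGroup.coe_mul, h4, Matrix.mul_fin_two, Matrix.SpecialLinearGroup.coe_one]
    ext i j
    (revert i j; simp only [_root_.Fin.forall_fin_succ, _root_.mul_neg, _root_.mul_one, _root_.neg_neg, _root_.MulZeroClass.mul_zero, _root_.add_zero, _root_.neg_zero, _root_.zero_add, _root_.Matrix.of_apply, _root_.Matrix.cons_val', _root_.Matrix.cons_val_fin_one, Fin.isValue, _root_.Matrix.cons_val_zero, _root_.Matrix.cons_val_succ, _root_.IsEmpty.forall_iff, _root_.and_true, _root_.Matrix.one_apply_eq, Nat.reduceAdd, _root_.Fin.succ_zero_eq_one, _root_.ne_eq, _root_.zero_ne_one, _root_.not_false_eq_true, _root_.Matrix.one_apply_ne, _root_.and_self, _root_.Fin.succ_ne_zero, _root_.true_and])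
  have hn : ¬ cp (3 : F) ^ 2 ^ 2 = 1 := by
    intro h
    have h' : ((cp (3 : F) ^ 4 : Matrix.SpecialLinearGroup (Fin 2) F) : Matrix (Fin 2) (Fin 2) F) = 1 := by
      have : cp (3 : F) ^ 4 = 1 := h
      rw [this, Matrix.SpecialLinearGroup.coe_one]
    rw [h4] at h'
    have h5 := congrFun (congrFun h' 0) 0
    simp at h5
    -- -1 = 1
    exact two_ne h7 (by linear_combination -h5)
  have : Fact (Nat.Prime 2) := ⟨Nat.prime_two⟩
  have := orderOf_eq_prime_pow hn h8
  simpa using this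

theorem cp_four_center (h7 : Fintype.card F = 7) :
    cp (3 : F) ^ 4 ∈ Subgroup.center (Matrix.SpecialLinearGroup (Fin 2) F) := by
  rw [Matrix.SpecialLinearGroup.mem_center_iff]
  refine ⟨-1, by simp only [_root_.Fintype.card_fin, _root_.even_two, _root_.Even.neg_pow, _root_.one_pow], ?_⟩
  rw [cp_four h7]
  ext i j
  (revert i j; simp only [Matrix.scalar_apply, _root_.Fin.forall_fin_succ, _root_.Matrix.of_apply, _root_.Matrix.cons_val', _root_.Matrix.cons_val_fin_one, Fin.isValue, _root_.Matrix.cons_val_zero, _root_.Matrix.cons_val_succ, _root_.Fin.succ_zero_eq_one, _root_.IsEmpty.forall_iff, _root_.and_true, _root_.Matrix.diagonal_apply_eq, _root_.ne_eq, _root_.zero_ne_one, _root_.not_false_eq_true, _root_.Matrix.diagonal_apply_ne, _root_.and_self, _root_.Fin.succ_ne_zero, _root_.true_and])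

omit [Fintype F] in
theorem not_center_of {g : Matrix.SpecialLinearGroup (Fin 2) F} (h : (g : Matrix (Fin 2) (Fin 2) F) 0 1 ≠ 0) :
    g ∉ Subgroup.center (Matrix.SpecialLinearGroup (Fin 2) F) := by
  intro hz
  obtain ⟨r, -, hr2⟩ := Matrix.SpecialLinearGroup.mem_center_iff.1 hz
  apply h
  rw [← hr2]
  simp [Matrix.scalar_apply]

/-- the characters of degree six of `PSL₂(7)` vanish at the elements of order four -/
theorem zero_seven (h7 : Fintype.card F = 7) {ψ : Matrix.SpecialLinearGroup (Fin 2) F → ℂ} (hψ : IsIrrCharacter _ ψ)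
    (hd : ψ 1 = (Fintype.card F : ℂ) - 1)
    (hc : ∀ z ∈ Subgroup.center (Matrix.SpecialLinearGroup (Fin 2) F), ∀ g, ψ (z * g) = ψ g) :
    ψ (cp 3) = 0 := by
  set c : Matrix.SpecialLinearGroup (Fin 2) F := cp 3 with hcdef
  have hcard : Nat.card (Subgroup.zpowers c) = Fintype.card F + 1 := by
    rw [Nat.card_zpowers, hcdef, orderOf_cp h7, h7]
  obtain ⟨θ, ⟨d, hd2⟩, hθ⟩ := (S2434.result (by rw [h7]; decide) (Subgroup.zpowers c) inferInstance hcard).2 ψ hψ hd
  set! x : Subgroup.zpowers c := ⟨c, Subgroup.mem_zpowers c⟩ with hx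
  have hn1 : (x : Matrix.SpecialLinearGroup (Fin 2) F) ∉ Subgroup.center (Matrix.SpecialLinearGroup (Fin 2) F) := by
    apply not_center_of
    simp [hx, hcdef, cp]
  have hn5 : ((x ^ 4 * x : Subgroup.zpowers c) : Matrix.SpecialLinearGroup (Fin 2) F) ∉
      Subgroup.center (Matrix.SpecialLinearGroup (Fin 2) F) := by
    intro h
    apply hn1
    have h4 : ((x ^ 4 : Subgroup.zpowers c) : Matrix.SpecialLinearGroup (Fin 2) F) ∈
        Subgroup.center (Matrix.SpecialLinearGroup (Fin 2) F) := by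
      simpa [hx] using cp_four_center h7
    have h6 := mul_mem (inv_mem h4) h
    simpa only [_root_.SubmonoidClass.coe_pow, _root_.Subgroup.coe_mul, _root_.inv_mul_cancel_left] using h6
  have e1 := hθ x hn1
  have e5 := hθ (x ^ 4 * x) hn5
  have e6 : ψ ((x ^ 4 * x : Subgroup.zpowers c) : Matrix.SpecialLinearGroup (Fin 2) F) = ψ c := by
    have := hc (c ^ 4) (cp_four_center h7) c
    simpa [hx] using this
  set w : ℂ := ((θ x : ℂˣ) : ℂ) with hw
  have hw0 : w ≠ 0 := (θ x).ne_zero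
  have hx8 : x ^ 8 = 1 := by
    apply Subtype.ext
    have : c ^ 8 = 1 := by
      have h := pow_orderOf_eq_one c
      rwa [hcdef, orderOf_cp h7] at h
    simpa only [hx, _root_.SubmonoidClass.mk_pow, _root_.OneMemClass.coe_one] using this
  have hw8 : w ^ 8 = 1 := by
    rw [hw, ← Units.val_pow_eq_pow_val, ← map_pow, hx8, map_one, Units.val_one]
  have e5' : ψ c = -(w ^ 4 * w + (w ^ 4 * w)⁻¹) := by
    rw [← e6, e5, map_mul, map_pow]
    simp only [hw, _root_.Units.val_mul, _root_.Units.val_pow_eq_pow_val, _root_.mul_inv_rev, _root_.Units.val_inv_eq_inv_val, _root_.neg_add_rev]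
  have e1' : ψ c = -(w + w⁻¹) := by
    have : ψ c = ψ (x : Matrix.SpecialLinearGroup (Fin 2) F) := rfl
    rw [this, e1]
    simp [hw]
  have hw4 : w ^ 4 = 1 ∨ w ^ 4 = -1 := by
    have : (w ^ 4 - 1) * (w ^ 4 + 1) = 0 := by linear_combination hw8
    rcases mul_eq_zero.1 this with h | h
    · exact Or.inl (sub_eq_zero.1 h)
    · exact Or.inr (eq_neg_of_add_eq_zero_left h)
  have hw2 : w ^ 2 ≠ 1 := by
    intro h
    apply hd2
    obtain ⟨n, hn⟩ := Subgroup.mem_zpowers_iff.1 d.2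
    have hdx : d = x ^ n := by
      apply Subtype.ext
      rw [← hn]
      simp [hx]
    have h1 : (θ x) ^ 2 = 1 := by
      apply Units.ext
      rw [Units.val_pow_eq_pow_val, Units.val_one]
      exact h
    rw [hdx, map_zpow, ← zpow_natCast, ← zpow_mul, mul_comm, zpow_mul, zpow_natCast, h1, one_zpow]
  have key : w ^ 2 = -1 := by
    rcases hw4 with h | h
    · have : (w ^ 2 - 1) * (w ^ 2 + 1) = 0 := by linear_combination h
      rcases mul_eq_zero.1 this with h' | h'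
      · exact absurd (sub_eq_zero.1 h') hw2
      · exact eq_neg_of_add_eq_zero_left h'
    · have h1 : w + w⁻¹ = 0 := by
        have h2 := e5'.symm.trans e1'
        rw [h] at h2
        have h3 : (-1 * w)⁻¹ = -w⁻¹ := by
          rw [neg_one_mul, inv_neg]
        rw [h3] at h2
        have h4 : 2 * (w + w⁻¹) = 0 := by linear_combination h2
        rcases mul_eq_zero.1 h4 with h5 | h5
        · norm_num at h5
        · exact h5
      have h2 : w * (w + w⁻¹) = 0 := by rw [h1, mul_zero]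
      rw [mul_add, mul_inv_cancel₀ hw0] at h2
      linear_combination h2
  rw [e1']
  have h2 : w * (w + w⁻¹) = 0 := by
    rw [mul_add, mul_inv_cancel₀ hw0]
    linear_combination key
  rcases mul_eq_zero.1 h2 with h3 | h3
  · exact absurd h3 hw0
  · rw [h3, neg_zero]

end seven

/-- **Row PSL₂(q)**, `q` odd. -/
theorem row_odd {S : Type u} [Group S] [Finite S] {F : Type} [Field F] [Fintype F] (hodd : Odd (Fintype.card F))
    (h4 : 4 ≤ Fintype.card F) (e : S ≃* ProjectiveSpecialLinearGroup (Fin 2) F) : Row S := by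
  classical
  have hpk : IsPrimePow (Fintype.card F) := by
    have := FiniteField.isPrimePow_card F
    simpa using this
  rcases Nat.lt_or_ge (Fintype.card F) 7 with h7 | h7
  · -- `q = 5`
    have h5 : Fintype.card F = 5 := by
      obtain ⟨k, hk⟩ := hodd
      omega
    have : Fintype (GaloisField 2 2) := Fintype.ofFinite _
    have hF : Fintype.card (GaloisField 2 2) = 4 := by
      rw [← Nat.card_eq_fintype_card, GaloisField.card 2 2 (by norm_num)]
      norm_num
    obtain ⟨f⟩ := S0253.result h5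
    obtain ⟨f'⟩ := S0252.result hF
    exact row_even (F := GaloisField 2 2) hF.ge ((e.trans f).trans f'.symm)
  intro χ hχ h0
  have hψ := isIrr_psi e hχ
  have h1 := psi_one e χ
  have hnon : ¬ (χ 1 = (Fintype.card F : ℂ) + 1 ∨ χ 1 = (((Fintype.card F + 1) / 2 : ℕ) : ℂ)) := by
    intro h
    obtain ⟨s, t, hs, ht, hst⟩ := exists_irr (F := F) (Or.inl h7)
    apply hst
    have h' : psi e χ 1 = (Fintype.card F : ℂ) + 1 ∨ psi e χ 1 = (((Fintype.card F + 1) / 2 : ℕ) : ℂ) := by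
      rwa [h1]
    have := tr_sq e h0 ((S2322.result hodd _ hψ (cp s)).2 h' (cp_noEig hs))
      ((S2322.result hodd _ hψ (cp t)).2 h' (cp_noEig ht))
    rwa [tr_cp, tr_cp] at this
  have hz : ∀ a : Fˣ, (χ 1 = (Fintype.card F : ℂ) - 1 ∨ χ 1 = (((Fintype.card F - 1) / 2 : ℕ) : ℂ)) →
      (a : F) ^ 2 ≠ 1 → psi e χ (dg a) = 0 := by
    intro a h ha
    refine (S2322.result hodd _ hψ (dg a)).1 (by rwa [h1]) (by simp [dg]) (by simp [dg]) ?_
    simpa only [dg, _root_.Fin.isValue, _root_.Matrix.of_apply, _root_.Matrix.cons_val', _root_.Matrix.cons_val_zero, _root_.Matrix.cons_val_fin_one, _root_.ne_eq, _root_.sq_eq_one_iff, _root_.Units.val_eq_one, _root_.Units.val_eq_neg_one, _root_.not_or] using ha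
  have hspl : 8 ≤ Fintype.card F →
      ¬ (χ 1 = (Fintype.card F : ℂ) - 1 ∨ χ 1 = (((Fintype.card F - 1) / 2 : ℕ) : ℂ)) := by
    intro h8 h
    obtain ⟨a, b, ha, hb, hab⟩ := exists_split h8
    apply hab
    have := tr_sq e h0 (hz a h ha) (hz b h hb)
    rwa [tr_dg, tr_dg] at this
  have h8' : ¬ 8 ≤ Fintype.card F → Fintype.card F = 7 := fun h => by omega
  rcases (S2299.result hodd).1 _ hψ with h | h | h | h | h | h
  · exact absurd (h1 ▸ h) (ne_one_of_oneZero hχ h0)
  · -- degree `q`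
    exfalso
    have h2 : ringChar F ≠ 2 := by
      intro hc
      have := FiniteField.even_card_of_char_two hc
      obtain ⟨k, hk⟩ := hodd
      omega
    obtain ⟨b, hb⟩ := FiniteField.exists_nonsquare h2
    have hb0 : b ≠ 0 := by
      rintro rfl
      exact hb (IsSquare.zero)
    have hzu : ∀ b : F, b ≠ 0 → psi e χ (ub b) = 0 := fun b hb =>
      (S2321.result _ hψ h (ub b)).2.2 (by simp [ub]) (by simp [ub]) (by simpa [ub] using hb)
    have hconj : IsConj (ub (1 : F)) (ub b) := by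
      obtain ⟨x, -, hx⟩ := h0
      have h3 := (hx _ (hzu 1 one_ne_zero)).symm.trans (hx _ (hzu b hb0))
      refine isConj_of_mk ((H730.OZ.isConj_map_iff e.symm _ _).1 h3) (by rw [tr_ub, tr_ub]) ?_
      rw [tr_ub]
      exact Ring.two_ne_zero h2
    obtain ⟨p, hp⟩ := CharP.exists F
    have hpp : Fact p.Prime := ⟨(CharP.char_is_prime F p)⟩
    have hp2 : p ≠ 2 := by
      rintro rfl
      exact h2 (ringChar.eq F 2)
    have h4 := (S2301.result (F := F) p hp2).2.2 (ub 1) (ub b) (by simp [ub]) (by simp [ub]) (by simp [ub])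
      (by simp [ub]) (by simp [ub]) (by simp [ub]) (by simp [ub]) (by simpa [ub] using hb0)
    have h5 := h4.1 hconj
    apply hb
    simpa only [ub, _root_.Fin.isValue, _root_.Matrix.of_apply, _root_.Matrix.cons_val', _root_.Matrix.cons_val_one, _root_.Matrix.cons_val_fin_one, _root_.Matrix.cons_val_zero, _root_.one_mul] using h5
  · exact absurd (Or.inl (h1 ▸ h)) hnon
  · by_cases h8 : 8 ≤ Fintype.card F
    · exact absurd (Or.inl (h1 ▸ h)) (hspl h8)
    · exfalso
      have hq := h8' h8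
      have h20 := two_ne hq
      have h70 := seven_eq hq
      have e1 := zero_seven hq hψ h (fun z hz g => psi_center e χ hz g)
      have ha : ((Units.mk0 (2 : F) h20 : Fˣ) : F) ^ 2 ≠ 1 := by
        rw [Units.val_mk0]
        intro h3
        have : (1 : F) = 0 := by linear_combination h70 - 2 * h3
        exact one_ne_zero this
      have e2 := hz (Units.mk0 2 h20) (Or.inl (h1 ▸ h)) ha
      have e3 := tr_sq e h0 e1 e2
      rw [tr_cp, tr_dg, Units.val_mk0] at e3
      have hinv : (2 : F)⁻¹ = 4 := by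
        apply inv_eq_of_mul_eq_one_left
        linear_combination h70
      rw [hinv] at e3
      have : (1 : F) = 0 := by linear_combination (4 : F) * h70 + e3
      exact one_ne_zero this
  · exact absurd (Or.inr (h1 ▸ h)) hnon
  · by_cases h8 : 8 ≤ Fintype.card F
    · exact absurd (Or.inr (h1 ▸ h)) (hspl h8)
    · have hq := h8' h8
      refine Or.inr (Or.inl ⟨F, inferInstance, inferInstance, hq, ⟨e⟩, charDegree_of hχ ?_⟩)
      rw [← h1, h, hq]

/-- **Row PSL₂(q)**, `q ≥ 4`. -/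
theorem row_psl2 {S : Type u} [Group S] [Finite S] {F : Type} [Field F] [Fintype F] (h4 : 4 ≤ Fintype.card F)
    (e : S ≃* ProjectiveSpecialLinearGroup (Fin 2) F) : Row S := by
  by_cases h2 : ringChar F = 2
  · have : CharP F 2 := by
      rw [← h2]
      exact ringChar.charP F
    exact row_even h4 e
  · refine row_odd ?_ h4 e
    rw [← Nat.not_even_iff_odd, Nat.even_iff]
    have := FiniteField.odd_card_of_char_ne_two h2
    omega

end Cfsg.Agent.H846.OZ
end

private theorem dce_8ff058690810 : _root_.True := by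
  try have : _root_.True := by simp only [_root_.Cfsg.Agent.H846.OZ.tr.eq_1]
  try have : _root_.True := by simp only [_root_.Cfsg.Agent.H846.OZ.ret.congr_simp]
  try have : _root_.True := by simp only [_root_.Cfsg.Agent.H846.OZ.dg.eq_1]
  try have : _root_.True := by simp only [_root_.Cfsg.Agent.H846.OZ.sp.eq_1]
  try have : _root_.True := by simp only [_root_.Cfsg.Agent.H846.OZ.ub.eq_1]
  try have : _root_.True := by simp only [_root_.Cfsg.Agent.H846.OZ.cp.eq_1]
  exact _root_.True.intro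
end

section
prune_inst 0xb0edf8afa827fedfff7e3ff698cffc11800fffa6dff943ffe0699f0f9f030229e16b8509e050fe0e56e21410b87843fb7eeeffe06bd87ffffd1ff41ffbee4fe5f7b50851948c340f3c0ff703f0778e7f000000000000000000000000000000000204010000

-- part: H593/OZ/Invol_mg
section
prune_inst 0x4d12075004980120000000094530022045c00059000208000d8220f04020fd1404902094048801d02100aa20000010000000000f0404000000e00000000010120802852041200010c060089803087180c00000000000000000000000000041004000000000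
set_option linter.all false
open scoped Cfsg.Agent.FastGrp

-- part: H593/OZ/Invol
section
/-!
# One vanishing class: primes dividing the group order once, `|C(z) ∩ C(t)| ≤ 2 p` (helper593, for S4842)

`mod_of_invol` : if an involution `t` commutes with an element `z` of order `p ≥ 7`, `p ∥ |G|`, and
`|C(z) ∩ C(t)| ≤ 2 p`, then a `OneZero` character whose zeros are `p`-regular has degree `± 1` modulo `p`.
-/

set_option autoImplicit false
set_option linter.unusedSectionVars false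

namespace Cfsg.Agent.H593.OZ

open Cfsg Subgroup Finset
open Cfsg.Agent.Characters Cfsg.Agent.Characters.Core Cfsg.Agent.H686.CharKit
open Cfsg.Agent.SmallSimple.ThetaSetup Cfsg.Agent.SmallSimple.ThetaOrtho Cfsg.Agent.SmallSimple.ThetaCount
open Cfsg.Agent.SmallSimple.TheoremC Cfsg.Agent.SmallSimple.TheoremCCor
open Cfsg.Agent.H732.VZ (One)
open scoped ComplexConjugate

universe u

section lin

variable {A : Type u} [Group A] [Finite A] {t : A}

/-- The value of an irreducible character at an involution is an integer. -/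
theorem exists_int_invol (ht : orderOf t = 2) (θ : IrrCharacter A) : ∃ k : ℤ, (θ : A → ℂ) t = k := by
  refine H849.OZ.rat (χ := θ) (y := t) fun m hm => ?_
  have h2 : 2 ∣ Nat.card A := ht ▸ _root_.orderOf_dvd_natCard t
  have hodd : ¬ 2 ∣ m := fun h => by
    have := Nat.dvd_gcd h h2
    rw [hm] at this
    omega
  have h1 : t ^ m = t := by
    conv_rhs => rw [← pow_one t]
    rw [pow_eq_pow_iff_modEq, ht, Nat.ModEq]
    omega
  rw [h1]

/-- Two non-principal characters not vanishing at `t` are equal if `|C(t)| ≤ 2`. -/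
theorem eq_of_invol (ht : orderOf t = 2) (hC : Nat.card (centralizer ({t} : Set A)) ≤ 2) {θ₁ θ₂ : IrrCharacter A}
    (h1 : (θ₁ : A → ℂ) t ≠ 0) (h2 : (θ₂ : A → ℂ) t ≠ 0) (n1 : (θ₁ : A → ℂ) ≠ 1) (n2 : (θ₂ : A → ℂ) ≠ 1) : θ₁ = θ₂ := by
  classical
  by_contra hne
  have : Finite (IrrCharacter A) := finite_irr
  have := Fintype.ofFinite (IrrCharacter A)
  have hs := sum_normSq (G := A) t
  have hge : ∀ θ : IrrCharacter A, (θ : A → ℂ) t ≠ 0 → 1 ≤ Complex.normSq ((θ : A → ℂ) t) := by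
    intro θ hθ
    obtain ⟨k, hk⟩ := exists_int_invol ht θ
    rw [hk] at hθ ⊢
    have hk0 : k ≠ 0 := fun h => hθ (by rw [h, Int.cast_zero])
    have e : Complex.normSq (k : ℂ) = ((k * k : ℤ) : ℝ) := by
      rw [← Complex.ofReal_intCast, Complex.normSq_ofReal]
      push_cast
      ring
    rw [e]
    have : 1 ≤ k * k := by
      have := mul_self_pos.2 hk0
      omega
    exact_mod_cast this
  let o : IrrCharacter A := ⟨1, isIrr_one⟩
  have ho : (o : A → ℂ) t ≠ 0 := by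
    change (1 : A → ℂ) t ≠ 0
    simp
  have e1 : o ≠ θ₁ := fun h => n1 (by rw [← h])
  have e2 : o ≠ θ₂ := fun h => n2 (by rw [← h])
  have h3 : ∑ θ ∈ ({o, θ₁, θ₂} : Finset (IrrCharacter A)), Complex.normSq ((θ : A → ℂ) t)
      ≤ ∑ θ : IrrCharacter A, Complex.normSq ((θ : A → ℂ) t) :=
    Finset.sum_le_sum_of_subset_of_nonneg (Finset.subset_univ _) fun _ _ _ => Complex.normSq_nonneg _
  rw [Finset.sum_insert (by simp [e1, e2]), Finset.sum_insert (by simp [hne]), Finset.sum_singleton, hs] at h3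
  have h4 := hge o ho
  have h5 := hge θ₁ h1
  have h6 := hge θ₂ h2
  have h7 : (Nat.card (centralizer ({t} : Set A)) : ℝ) ≤ 2 := by exact_mod_cast hC
  linarith only [h3, h4, h5, h6, h7]

/-- A character not vanishing at `t` is linear if `|C(t)| ≤ 2`. -/
theorem linear_of_invol (ht : orderOf t = 2) (hC : Nat.card (centralizer ({t} : Set A)) ≤ 2) {θ : IrrCharacter A}
    (h1 : (θ : A → ℂ) t ≠ 0) : (θ : A → ℂ) 1 = 1 := by
  classical
  by_cases hn : (θ : A → ℂ) = 1
  · rw [hn, Pi.one_apply]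
  have : Finite (IrrCharacter A) := finite_irr
  have := Fintype.ofFinite (IrrCharacter A)
  have ht1 : t ≠ 1 := by
    rintro rfl
    rw [orderOf_one] at ht
    omega
  have hs := col_orth (G := A) t 1
  rw [if_neg fun h => ht1 (isConj_one_left.1 h)] at hs
  let o : IrrCharacter A := ⟨1, isIrr_one⟩
  have e1 : o ≠ θ := fun h => hn (by rw [← h])
  have hrest : ∀ θ' : IrrCharacter A, θ' ∈ univ → θ' ∉ ({o, θ} : Finset (IrrCharacter A)) →
      (θ' : A → ℂ) t * conj ((θ' : A → ℂ) 1) = 0 := by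
    intro θ' _ hθ'
    rw [Finset.mem_insert, Finset.mem_singleton, not_or] at hθ'
    by_cases hz : (θ' : A → ℂ) t = 0
    · rw [hz, zero_mul]
    · exfalso
      exact hθ'.2 (eq_of_invol ht hC hz h1 (fun h => hθ'.1 (Subtype.ext h)) hn)
  rw [← Finset.sum_subset (Finset.subset_univ ({o, θ} : Finset (IrrCharacter A))) hrest,
    Finset.sum_insert (by simp [e1]), Finset.sum_singleton] at hs
  obtain ⟨k, hk⟩ := exists_int_invol ht θ
  obtain ⟨n, hn0, hn1⟩ := isIrr_apply_one θ.2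
  have ho : (o : A → ℂ) t * conj ((o : A → ℂ) 1) = 1 := by
    change (1 : A → ℂ) t * conj ((1 : A → ℂ) 1) = 1
    simp
  rw [ho, hk, hn1, Complex.conj_natCast] at hs
  have h2 : (1 : ℤ) + k * n = 0 := by exact_mod_cast hs
  have h3 : (n : ℤ) ∣ 1 := ⟨-k, by linarith only [h2]⟩
  have h4 : n = 1 := by
    have : n ∣ 1 := by exact_mod_cast h3
    exact Nat.dvd_one.1 this
  rw [hn1, h4, Nat.cast_one]

end lin

section final

variable {G : Type u} [Group G] [Finite G] [IsSimpleGroup G] {p : ℕ}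

/-- **The degree modulo a prime `p ≥ 7`, `p ∥ |G|`, with an involution `t` such that `|C(z) ∩ C(t)| ≤ 2 p`.** -/
theorem mod_of_invol (hp : p.Prime) (h7 : 7 ≤ p) (hsq : ¬ p ^ 2 ∣ Nat.card G) (hG : Nat.card G ≠ p) {z t : G}
    (hz : orderOf z = p) (ht : orderOf t = 2) (hzt : z * t = t * z)
    (hC : Nat.card (centralizer ({z} : Set G) ⊓ centralizer ({t} : Set G) : Subgroup G) ≤ 2 * p)
    {χ : IrrCharacter G} {x : G} (h : _root_.Cfsg.Agent.H732.VZ.One χ x) (hx : ¬ p ∣ orderOf x)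
    (h4 : 4 ≤ Nat.card (centralizer ({x} : Set G))) :
    charDegree (χ : G → ℂ) % p = 1 ∨ charDegree (χ : G → ℂ) % p = p - 1 := by
  classical
  have hF : Fact p.Prime := ⟨hp⟩
  obtain ⟨P, hPz, hP⟩ := H849.OZ.exists_sylow hp hsq hz
  obtain ⟨K, hK⟩ := exists_isComp P hP
  have hzP : z ∈ (P : Subgroup G) := by rw [hPz]; exact mem_zpowers z
  have hz1 : z ≠ 1 := by
    rintro rfl
    rw [orderOf_one] at hz
    exact hp.one_lt.ne hz
  have hd : p ∣ Nat.card G := hz ▸ _root_.orderOf_dvd_natCard z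
  have hw2 := H849.OZ.normalizer_ne hd hG (P := P) rfl
  -- `t` is in `K`
  have htK : t ∈ K := by
    rw [hK, ← Blocks.CyclicOrtho.centralizer_eq P hP hzP hz1, mem_centralizer_singleton_iff]
    refine ⟨hzt.symm, ?_⟩
    rw [ht]
    intro h2
    have := Nat.le_of_dvd (by norm_num) h2
    omega
  let t' : K := ⟨t, htK⟩
  have ht' : orderOf t' = 2 := by rw [← Subgroup.orderOf_coe]; exact ht
  -- its centralizer in `K`
  have hC' : Nat.card (centralizer ({t'} : Set K)) ≤ 2 := by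
    have h1 : Nat.card (P × centralizer ({t'} : Set K))
        ≤ Nat.card (centralizer ({z} : Set G) ⊓ centralizer ({t} : Set G) : Subgroup G) := by
      refine Nat.card_le_card_of_injective (fun a => ⟨(prodEquiv hK hP (a.1, (a.2 : K)) : G), ?_⟩) ?_
      · rw [Subgroup.mem_inf]
        refine ⟨?_, ?_⟩
        · rw [Blocks.CyclicOrtho.centralizer_eq P hP hzP hz1]
          exact (_root_.Cfsg.Agent.SmallSimple.ThetaSetup.prodEquiv hK hP (a.1, (a.2 : K))).2
        · rw [mem_centralizer_singleton_iff, coe_prodEquiv]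
          have h2 : (a.1 : G) * t = t * (a.1 : G) := hK.comm a.1.2 htK
          have h3 : ((a.2 : K) : G) * t = t * ((a.2 : K) : G) :=
            congrArg Subtype.val (mem_centralizer_singleton_iff.1 a.2.2)
          change (a.1 : G) * ((a.2 : K) : G) * t = t * ((a.1 : G) * ((a.2 : K) : G))
          rw [mul_assoc, h3, ← mul_assoc, h2, mul_assoc]
      · intro a b hab
        have h2 : (prodEquiv hK hP (a.1, (a.2 : K)) : G) = (prodEquiv hK hP (b.1, (b.2 : K)) : G) :=
          congrArg (fun w : (centralizer ({z} : Set G) ⊓ centralizer ({t} : Set G) : Subgroup G) => (w : G)) hab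
        have h3 := (_root_.Cfsg.Agent.SmallSimple.ThetaSetup.prodEquiv hK hP).injective (Subtype.ext h2)
        rw [Prod.mk.injEq] at h3
        exact Prod.ext h3.1 (Subtype.ext h3.2)
    rw [Nat.card_prod] at h1
    have hP' : Nat.card (P : Subgroup G) = p := hP
    have h2 : p * Nat.card (centralizer ({t'} : Set K)) ≤ 2 * p := by
      rw [← hP']
      refine le_trans h1 ?_
      rw [hP']
      exact hC
    have h3 := hp.pos
    by_contra hcon
    push Not at hcon
    nlinarith only [h7, h2, hcon]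
  -- the values at the `p`-singular elements
  obtain ⟨θ, ε, hε, hval, ⟨k, hk⟩, hc⟩ :=
    H849.OZ.five hK hP h hx rfl (fun e t het ht he => H849.OZ.arith h4 h7 hw2 het ht he)
  obtain ⟨u, hu, hu1⟩ := exists_ne_one hP
  have hsing : ∀ y : K, (χ : G → ℂ) (u * y) ≠ 0 := by
    intro y h4
    have h5 : p ∣ orderOf (u * (y : G)) := by
      have := Fintype.ofFinite G
      exact H849.OZ.mem_Sg.1 (H849.OZ.Dg_sub hK hP (H849.OZ.mem_Dg.2 ⟨u, hu, hu1, y, y.2, rfl⟩))
    obtain ⟨a, ha⟩ := isConj_iff.1 (h.uniq _ h4)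
    apply hx
    rwa [← ha, ← MulAut.conj_apply, MulEquiv.orderOf_eq] at h5
  have hdeg : ∀ θ' ∈ orb P K (θ : K → ℂ), (θ' : K → ℂ) 1 = (θ : K → ℂ) 1 := by
    intro θ' hθ'
    obtain ⟨n, hn, h1⟩ := mem_orb.1 hθ'
    rw [← h1, tw_apply hK _ hn]
    refine congrArg (θ : K → ℂ) (Subtype.ext ?_)
    change n * ((1 : K) : G) * n⁻¹ = ((1 : K) : G)
    rw [OneMemClass.coe_one]
    group
  -- the orbit is linear
  have hθ1 : (θ : K → ℂ) 1 = 1 := by
    have h1 := hsing t'
    rw [hval u hu hu1 t'] at h1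
    have h2 : ∑ θ' ∈ orb P K (θ : K → ℂ), (θ' : K → ℂ) t' ≠ 0 := fun h0 => h1 (by rw [h0, mul_zero])
    obtain ⟨θ', hθ', h3⟩ := Finset.exists_ne_zero_of_sum_ne_zero h2
    rw [← hdeg θ' hθ']
    exact linear_of_invol ht' hC' h3
  have hnz : ∀ θ' ∈ orb P K (θ : K → ℂ), (θ' : K → ℂ) t' ≠ 0 := by
    intro θ' hθ' h0
    have h1 : (θ' : K → ℂ) 1 = 1 := (hdeg θ' hθ').trans hθ1
    obtain ⟨f, hf⟩ := Linear.exists_hom_of_isIrrCharacter θ'.2 h1
    rw [hf] at h0
    exact (f t').ne_zero h0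
  have hmem : θ ∈ orb P K (θ : K → ℂ) := mem_orb.2 ⟨1, one_mem _, tw_one _⟩
  have horb : orb P K (θ : K → ℂ) = {θ} := by
    refine Finset.eq_singleton_iff_unique_mem.2 ⟨hmem, fun θ' hθ' => ?_⟩
    obtain ⟨n, hn, h1⟩ := mem_orb.1 hθ'
    by_cases hn1 : (θ : K → ℂ) = 1
    · apply Subtype.ext
      rw [← h1]
      funext y
      rw [tw_apply hK _ hn, hn1]
      rfl
    · refine eq_of_invol ht' hC' (hnz θ' hθ') (hnz θ hmem) (fun h0 => hn1 ?_) hn1
      funext y
      have h2 : n⁻¹ ∈ normalizer ((P : Subgroup G) : Set G) := inv_mem hn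
      have h3 := congrFun h1 ⟨n⁻¹ * y * n⁻¹⁻¹, conj_mem hK h2 y.2⟩
      rw [tw_apply hK _ hn, h0] at h3
      rw [Pi.one_apply] at h3 ⊢
      rw [← h3]
      refine congrArg (θ : K → ℂ) (Subtype.ext ?_)
      change (y : G) = n * (n⁻¹ * y * n⁻¹⁻¹) * n⁻¹
      group
  rw [horb, Finset.sum_singleton, hθ1, mul_one] at hk
  have h7' : ((charDegree (χ : G → ℂ) : ℤ)) = ε + p * k := by
    have h8 := charDegree_irr χ
    rw [hk] at h8
    exact_mod_cast h8
  exact H849.OZ.mod_of hp.one_lt hε h7'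

end final

end Cfsg.Agent.H593.OZ
end

-- part: H490/OZ/Six
section
/-!
# One vanishing class: primes `p ∥ |G|` with `|C(z)| = 2 p`, `|C(z)| = 6 p` (helper490, S4842)

* `nonab_of_six` : `|C(z)| = 6 p`, no element of order `6 p` : `C(z) / ⟨z⟩` is not abelian;
* `mod_two`, `mod_six` : `d ≡ ± 1` modulo `p` (all cases of `c`).
-/

set_option autoImplicit false

open Cfsg Cfsg.Agent.Characters Cfsg.Agent.H732.VZ Cfsg.Agent.H604.OZ Subgroup

namespace Cfsg.Agent.H490.OZ

universe u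

variable {G : Type u} [Group G] [Finite G]

theorem mem_cz {z g : G} : g ∈ centralizer ({z} : Set G) ↔ g * z = z * g := mem_centralizer_singleton_iff

/-- the class hypothesis for `|C(z)| = 6 p` -/
theorem classes_six {z : G} {p : ℕ} (hp : p.Prime) (h7 : 7 ≤ p) (hz : orderOf z = p)
    (hC : Nat.card (centralizer ({z} : Set G)) = 6 * p) (hno : ∀ g : G, orderOf g ≠ 6 * p)
    (y y' : G) (hy : z * y = y * z) (hy' : z * y' = y' * z) (hyr : ¬ p ∣ orderOf y) (hyy : orderOf y = orderOf y') :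
    ∃ k : G, z * k = k * z ∧ k * y * k⁻¹ = y' := by
  set C := centralizer ({z} : Set G) with hCdef
  have hzC : z ∈ C := mem_cz.2 rfl
  set Z : Subgroup C := zpowers ⟨z, hzC⟩ with hZ
  have hZn : Z.Normal := by
    refine ⟨fun a ha g => ?_⟩
    obtain ⟨i, rfl⟩ := mem_zpowers_iff.1 ha
    have h1 : Commute g (⟨z, hzC⟩ : C) := Subtype.ext (mem_cz.1 g.2)
    have h2 := h1.zpow_right i
    rw [h2.eq, mul_inv_cancel_right]
    exact ha
  have hZc : Nat.card Z = p := by rw [hZ, Nat.card_zpowers, orderOf_mk, hz]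
  have hQ : Nat.card (C ⧸ Z) = 6 := by
    have h1 := Z.card_mul_index
    rw [hZc, hC, Subgroup.index_eq_card, mul_comm] at h1
    exact Nat.eq_of_mul_eq_mul_right hp.pos h1
  have hne : ∃ a b : C ⧸ Z, a * b ≠ b * a := by
    by_contra hcon
    push Not at hcon
    have h2 : Fact (Nat.Prime 2) := ⟨Nat.prime_two⟩
    have h3 : Fact (Nat.Prime 3) := ⟨Nat.prime_three⟩
    obtain ⟨a, ha⟩ := exists_prime_orderOf_dvd_card' (G := C) 2 (by rw [hC]; exact ⟨3 * p, by ring⟩)
    obtain ⟨b, hb⟩ := exists_prime_orderOf_dvd_card' (G := C) 3 (by rw [hC]; exact ⟨2 * p, by ring⟩)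
    have h4 : (QuotientGroup.mk' Z) (a * b * a⁻¹ * b⁻¹) = 1 := by
      rw [map_mul, map_mul, map_mul, map_inv, map_inv, hcon ((QuotientGroup.mk' Z) a) ((QuotientGroup.mk' Z) b)]
      group
    rw [QuotientGroup.mk'_apply, QuotientGroup.eq_one_iff] at h4
    obtain ⟨w, hw⟩ : ∃ w, w = a * b * a⁻¹ * b⁻¹ := ⟨_, rfl⟩
    rw [← hw] at h4
    have hwz : w ^ p = 1 := by
      have h5 := pow_card_eq_one' (x := (⟨w, h4⟩ : Z))
      rw [hZc] at h5
      exact congrArg Subtype.val h5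
    have hwc : ∀ g : C, Commute g w := by
      intro g
      obtain ⟨i, hi⟩ := mem_zpowers_iff.1 h4
      rw [← hi]
      exact (show Commute g (⟨z, hzC⟩ : C) from Subtype.ext (mem_cz.1 g.2)).zpow_right i
    have h5 : a * b * a⁻¹ = w * b := by rw [hw]; group
    have h6 : w ^ 3 = 1 := by
      have h7 : (a * b * a⁻¹) ^ 3 = 1 := by
        rw [conj_pow, ← hb, pow_orderOf_eq_one]; group
      rw [h5, ((hwc b).symm).mul_pow, ← hb, pow_orderOf_eq_one, mul_one, hb] at h7
      exact h7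
    have h7 : w = 1 := by
      rw [← orderOf_eq_one_iff, ← Nat.dvd_one]
      have h8 : Nat.Coprime p 3 := (Nat.coprime_primes hp Nat.prime_three).2 (by omega)
      exact (Nat.dvd_gcd (orderOf_dvd_of_pow_eq_one hwz) (orderOf_dvd_of_pow_eq_one h6)).trans (dvd_of_eq h8)
    have hab : Commute a b := by
      rw [h7, one_mul, mul_inv_eq_iff_eq_mul] at h5
      exact h5
    have hab6 : orderOf (a * b) = 6 := by
      rw [hab.orderOf_mul_eq_mul_orderOf_of_coprime (by rw [ha, hb]; norm_num), ha, hb]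
    have hzab : Commute (a * b) (⟨z, hzC⟩ : C) := Subtype.ext (mem_cz.1 (a * b).2)
    have h9 : orderOf ((a * b) * ⟨z, hzC⟩) = 6 * p := by
      rw [hzab.orderOf_mul_eq_mul_orderOf_of_coprime, hab6, orderOf_mk, hz]
      rw [hab6, orderOf_mk, hz]
      have h2p : Nat.Coprime 2 p := (Nat.coprime_primes Nat.prime_two hp).2 (by omega)
      have h3p : Nat.Coprime 3 p := (Nat.coprime_primes Nat.prime_three hp).2 (by omega)
      exact Nat.Coprime.mul_left h2p h3p
    exact hno _ ((orderOf_coe _).trans h9)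
  refine Cfsg.Agent.H733.OZ.classes_of hp hz (QuotientGroup.mk' Z) (QuotientGroup.mk'_surjective Z) (fun k hk => ?_)
    (fun a b hab => Cfsg.Agent.H733.OZ.six_conj hQ hne hab) y y' hy hy' hyr hyy
  rw [QuotientGroup.mk'_apply, QuotientGroup.eq_one_iff] at hk
  obtain ⟨i, hi⟩ := mem_zpowers_iff.1 hk
  exact ⟨i, congrArg Subtype.val hi⟩

variable {χ : IrrCharacter G} {x : G}

/-- `x` is `p`-regular -/
theorem not_dvd_x [IsSimpleGroup G] {p : ℕ} (hp : p.Prime) (hd : p ∣ Nat.card G) (hsq : ¬ p ^ 2 ∣ Nat.card G) {z : G} (hz : orderOf z = p)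
    (hC : p < Nat.card (centralizer ({z} : Set G))) (h : _root_.Cfsg.Agent.H732.VZ.One χ x) : ¬ p ∣ orderOf x := by
  rcases Nat.lt_or_ge p (cent x) with h1 | h1
  · exact Cfsg.Agent.H733.OZ.not_dvd_orderOf h hp (n := 1) (by rw [pow_one]; exact hd) hsq (by rw [pow_one]; exact h1)
  · exact Cfsg.Agent.H849.OZ.not_dvd_of_le hp hsq hz hC h1

/-- `|C(z)| = 2 p` -/
theorem mod_two [IsSimpleGroup G] (h : _root_.Cfsg.Agent.H732.VZ.One χ x) {p : ℕ} (hp : p.Prime) (h7 : 7 ≤ p) (hd : p ∣ Nat.card G)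
    (hsq : ¬ p ^ 2 ∣ Nat.card G) (hG : Nat.card G ≠ p)
    (hC : ∀ y : G, orderOf y = p → Nat.card (centralizer ({y} : Set G)) = 2 * p) (h4 : 4 ≤ cent x) :
    charDegree (χ : G → ℂ) % p = 1 ∨ charDegree (χ : G → ℂ) % p = p - 1 := by
  have hF : Fact p.Prime := ⟨hp⟩
  obtain ⟨z, hz⟩ := exists_prime_orderOf_dvd_card' p hd
  exact Cfsg.Agent.H849.OZ.mod_of_two hp h7 hsq hG hz (hC z hz) h
    (not_dvd_x hp hd hsq hz (by rw [hC z hz]; omega) h) h4

/-- `|C(z)| = 6 p`, no element of order `6 p` -/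
theorem mod_six [IsSimpleGroup G] (h : _root_.Cfsg.Agent.H732.VZ.One χ x) {p : ℕ} (hp : p.Prime) (h7 : 7 ≤ p) (hd : p ∣ Nat.card G)
    (hsq : ¬ p ^ 2 ∣ Nat.card G) (hG : Nat.card G ≠ p)
    (hC : ∀ y : G, orderOf y = p → Nat.card (centralizer ({y} : Set G)) = 6 * p) (hno : ∀ g : G, orderOf g ≠ 6 * p)
    (h4 : 4 ≤ cent x) :
    charDegree (χ : G → ℂ) % p = 1 ∨ charDegree (χ : G → ℂ) % p = p - 1 := by
  have hF : Fact p.Prime := ⟨hp⟩
  obtain ⟨z, hz⟩ := exists_prime_orderOf_dvd_card' p hd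
  exact Cfsg.Agent.H849.OZ.mod_of_classes hp h7 hsq hG hz (classes_six hp h7 hz (hC z hz) hno) h
    (not_dvd_x hp hd hsq hz (by rw [hC z hz]; omega) h) h4

end Cfsg.Agent.H490.OZ
end
end

-- part: H348/OZ/RowSpEight
section
set_option linter.all false
open scoped Cfsg.Agent.FastGrp

-- part: H348/OZ/SpEight
section
/-!
# `Sp₈(2)`: elements of order 17 and 9 and their centralizers (helper348, for the row `PSp₈(2)` of S4842)

* `card_sp` : `|Sp₈(2)| = 47377612800`;  `equiv` : `PSp₈(F) ≃* Sp₈(2)`, `|F| = 2`;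
* `card_cent_le` : the order of the centralizer of a cyclic matrix (vector codes, quadratic forms `J Y ^ i`);
* `ez` : order 17, `|C| ≤ 17`;  `ey` : order 9, `|C| ≤ 27`, `eg ey eg⁻¹ = ey²`, `eu ∈ C(ey)`, of order 3, not in `⟨ey⟩`.
-/

set_option autoImplicit false
set_option maxRecDepth 100000

namespace Cfsg.Agent.H348.OZ.SpE

open Matrix Cfsg.Agent.SporadicA.PermTab

/-- the index set -/
abbrev I8 : Type := Fin 4 ⊕ Fin 4

/-- index -/
def ix : I8 → ℕ
  | .inl i => i
  | .inr i => 4 + i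

/-- a matrix from its rows -/
def sm (l : List ℕ) : Matrix I8 I8 (ZMod 2) :=
  Matrix.of fun i j => if (l.getD (ix i) 0).testBit (ix j) then 1 else 0

/-- a matrix from its columns -/
def km (l : List ℕ) : Matrix I8 I8 (ZMod 2) :=
  Matrix.of fun i j => if (l.getD (ix j) 0).testBit (ix i) then 1 else 0

/-- `Sp₈(2)` -/
abbrev Sp8 : Type := symplecticGroup (Fin 4) (ZMod 2)

/-- an element of `Sp₈(2)` -/
def se (l : List ℕ) (h : sm l * J (Fin 4) (ZMod 2) * (sm l)ᵀ = J (Fin 4) (ZMod 2)) : Sp8 :=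
  ⟨sm l, SymplecticGroup.mem_iff.mpr h⟩

/-- a vector from its code -/
def dec (a : ℕ) : I8 → ZMod 2 := fun i => if a.testBit (ix i) then 1 else 0

theorem ix_surj {k : ℕ} (hk : k < 8) : ∃ i : I8, ix i = k := by
  rcases Nat.lt_or_ge k 4 with h | h
  · exact ⟨.inl ⟨k, h⟩, rfl⟩
  · exact ⟨.inr ⟨k - 4, by omega⟩, by simp [ix]; omega⟩

theorem dec_inj : Function.Injective fun a : Fin 256 => dec a := by
  intro a b h
  apply Fin.ext
  apply Nat.eq_of_testBit_eq
  intro k
  rcases Nat.lt_or_ge k 8 with hk | hk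
  · obtain ⟨i, hi⟩ := ix_surj hk
    have h1 := congrFun h i
    simp only [dec, hi] at h1
    cases h2 : (a : ℕ).testBit k <;> cases h3 : (b : ℕ).testBit k
    · rfl
    · rw [h2, h3] at h1
      exact absurd h1 (by decide)
    · rw [h2, h3] at h1
      exact absurd h1 (by decide)
    · rfl
  · have h1 : ∀ c : Fin 256, (c : ℕ).testBit k = false := fun c => by
      apply Nat.testBit_lt_two_pow
      exact lt_of_lt_of_le c.2 (Nat.pow_le_pow_right (n := 2) (by norm_num) hk : 2 ^ 8 ≤ 2 ^ k)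
    rw [h1 a, h1 b]

theorem dec_surj (v : I8 → ZMod 2) : ∃ a : Fin 256, dec a = v := by
  have h := (Fintype.bijective_iff_injective_and_card fun a : Fin 256 => dec a).2 ⟨dec_inj, by
    rw [Fintype.card_fun, ZMod.card, Fintype.card_sum, Fintype.card_fin, Fintype.card_fin]
    norm_num⟩
  exact h.2 v

/-- the forms `M` in the list have the same value at `v`, `a` -/
def tst (Ms : List (List ℕ)) (v a : ℕ) : Bool :=
  Ms.all fun M => decide (dec a ⬝ᵥ (sm M *ᵥ dec a) = dec v ⬝ᵥ (sm M *ᵥ dec v))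

/-- a bit -/
private def bt (x k : ℕ) : ℕ := Nat.mod (Nat.shiftRight x k) 2

private theorem bt_cast (x k : ℕ) : ((bt x k : ℕ) : ZMod 2) = if x.testBit k then 1 else 0 := by
  have h : bt x k = (x.testBit k).toNat := by
    rw [Nat.toNat_testBit, ← Nat.shiftRight_eq_div_pow]
    rfl
  rw [h]
  cases x.testBit k <;> rfl

/-- the parity of the eight lowest bits -/
private def pr (x : ℕ) : ℕ := bt 0x6996966996696996966969966996966996696996699696696996966996696996 (Nat.mod x 256)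

private theorem pr_cast (r a : ℕ) : ((pr (Nat.land r a) : ℕ) : ZMod 2) =
    ∑ j : I8, (if r.testBit (ix j) then 1 else 0) * dec a j := by
  have h1 : ∀ y < 256, ((bt 0x6996966996696996966969966996966996696996699696696996966996696996 y : ℕ) : ZMod 2) =
      ∑ j : I8, if y.testBit (ix j) then 1 else 0 := by decide +kernel
  refine (h1 (Nat.mod (Nat.land r a) 256) (Nat.mod_lt _ (by norm_num))).trans ?_
  refine Finset.sum_congr rfl fun j _ => ?_
  have h2 : ix j < 8 := by rcases j with j | j <;> simp only [ix] <;> omega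
  have h3 : (Nat.mod (Nat.land r a) 256).testBit (ix j) = (r.testBit (ix j) && a.testBit (ix j)) := by
    show ((r &&& a) % 2 ^ 8).testBit (ix j) = _
    rw [Nat.testBit_mod_two_pow, Nat.testBit_and, decide_eq_true h2, Bool.true_and]
  rw [h3, dec]
  cases r.testBit (ix j) <;> cases a.testBit (ix j) <;> rfl

/-- the value of a form -/
private def qf (M : List ℕ) (a : ℕ) : ℕ :=
  Nat.add (Nat.add (Nat.add (Nat.add (Nat.mul (bt a 0) (pr (Nat.land (M.getD 0 0) a))) (Nat.mul (bt a 1) (pr (Nat.land (M.getD 1 0) a))))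
    (Nat.mul (bt a 2) (pr (Nat.land (M.getD 2 0) a)))) (Nat.mul (bt a 3) (pr (Nat.land (M.getD 3 0) a))))
    (Nat.add (Nat.add (Nat.add (Nat.mul (bt a 4) (pr (Nat.land (M.getD 4 0) a))) (Nat.mul (bt a 5) (pr (Nat.land (M.getD 5 0) a))))
    (Nat.mul (bt a 6) (pr (Nat.land (M.getD 6 0) a)))) (Nat.mul (bt a 7) (pr (Nat.land (M.getD 7 0) a))))

private theorem qf_cast (M : List ℕ) (a : ℕ) : dec a ⬝ᵥ (sm M *ᵥ dec a) = ((qf M a : ℕ) : ZMod 2) := by
  have h : ∀ i : I8, dec a i * (sm M *ᵥ dec a) i = ((bt a (ix i) * pr (Nat.land (M.getD (ix i) 0) a) : ℕ) : ZMod 2) := fun i => by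
    rw [Nat.cast_mul, bt_cast, pr_cast]
    rfl
  have e : qf M a = ∑ i : I8, bt a (ix i) * pr (Nat.land (M.getD (ix i) 0) a) := by
    rw [Fintype.sum_sum_type, Fin.sum_univ_four, Fin.sum_univ_four]
    rfl
  rw [dotProduct, Finset.sum_congr rfl fun i _ => h i, ← Nat.cast_sum, e]

private theorem tst_eq (Ms : List (List ℕ)) (v : ℕ) :
    tst Ms v = fun a => Ms.all fun M => Nat.beq (Nat.mod (qf M a) 2) (Nat.mod (qf M v) 2) := by
  funext a
  have h : ∀ x y : ℕ, decide ((x : ZMod 2) = (y : ZMod 2)) = Nat.beq (Nat.mod x 2) (Nat.mod y 2) := fun x y => by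
    rw [Bool.eq_iff_iff, decide_eq_true_eq, Nat.beq_eq]
    exact ZMod.natCast_eq_natCast_iff' x y 2
  simp only [tst, qf_cast, h]

/-- `M` is a form invariant under the centralizer of `Y` -/
def Inv (Y : Sp8) (M : Matrix I8 I8 (ZMod 2)) : Prop := ∀ g : Sp8, g * Y = Y * g → g.1ᵀ * M * g.1 = M

theorem inv_J (Y : Sp8) : Inv Y (J (Fin 4) (ZMod 2)) := fun g _ => SymplecticGroup.mem_iff'.1 g.2

theorem Inv.mul {Y : Sp8} {M : Matrix I8 I8 (ZMod 2)} (h : Inv Y M) {l : List ℕ} (hl : sm l = M * Y.1) : Inv Y (sm l) := by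
  intro g hg
  have h1 : g.1 * Y.1 = Y.1 * g.1 := congrArg Subtype.val hg
  rw [hl, Matrix.mul_assoc, Matrix.mul_assoc, ← h1, ← Matrix.mul_assoc, ← Matrix.mul_assoc, h g hg]

theorem form_mulVec (g M : Matrix I8 I8 (ZMod 2)) (v : I8 → ZMod 2) :
    (g *ᵥ v) ⬝ᵥ (M *ᵥ (g *ᵥ v)) = v ⬝ᵥ ((gᵀ * M * g) *ᵥ v) := by
  rw [Matrix.dotProduct_mulVec, Matrix.vecMul_mulVec, ← Matrix.dotProduct_mulVec, Matrix.mulVec_mulVec]

theorem card_cent_le {Y : Sp8} {kc : List ℕ} {K' : Matrix I8 I8 (ZMod 2)} {Ms : List (List ℕ)} {m : ℕ}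
    (hcol : ∀ j < 7, Y.1 *ᵥ dec (kc.getD j 0) = dec (kc.getD (j + 1) 0)) (hK : km kc * K' = 1)
    (hM : ∀ M ∈ Ms, Inv Y (sm M)) (ht : cntB (tst Ms (kc.getD 0 0)) 256 m = true) :
    Nat.card (Subgroup.centralizer ({Y} : Set Sp8)) ≤ m := by
  classical
  have hc : ∀ g : Subgroup.centralizer ({Y} : Set Sp8), g.1 * Y = Y * g.1 := fun g =>
    Subgroup.mem_centralizer_singleton_iff.1 g.2
  choose f hf using fun g : Subgroup.centralizer ({Y} : Set Sp8) => dec_surj (g.1.1 *ᵥ dec (kc.getD 0 0))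
  have hmem : ∀ g, f g ∈ (Finset.univ : Finset (Fin 256)).filter fun a : Fin 256 => tst Ms (kc.getD 0 0) a = true := by
    intro g
    rw [Finset.mem_filter]
    refine ⟨Finset.mem_univ _, ?_⟩
    rw [tst, List.all_eq_true]
    intro M hMM
    rw [decide_eq_true_eq, hf g, form_mulVec, hM M hMM g.1 (hc g)]
  have hinj : Function.Injective f := by
    intro g h hgh
    have h0 : g.1.1 *ᵥ dec (kc.getD 0 0) = h.1.1 *ᵥ dec (kc.getD 0 0) := by rw [← hf g, ← hf h, hgh]
    have h1 : ∀ j < 8, g.1.1 *ᵥ dec (kc.getD j 0) = h.1.1 *ᵥ dec (kc.getD j 0) := by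
      intro j
      induction j with
      | zero => exact fun _ => h0
      | succ j ih =>
        intro hj
        have h2 := ih (by omega)
        rw [← hcol j (by omega), Matrix.mulVec_mulVec, Matrix.mulVec_mulVec]
        have h3 : g.1.1 * Y.1 = Y.1 * g.1.1 := congrArg Subtype.val (hc g)
        have h4 : h.1.1 * Y.1 = Y.1 * h.1.1 := congrArg Subtype.val (hc h)
        rw [h3, h4, ← Matrix.mulVec_mulVec, ← Matrix.mulVec_mulVec, h2]
    have h2 : g.1.1 * km kc = h.1.1 * km kc := by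
      ext i j
      have h3 := congrFun (h1 (ix j) (by rcases j with j | j <;> simp [ix] <;> omega)) i
      exact h3
    have h3 : g.1.1 = h.1.1 := by
      rw [← Matrix.mul_one g.1.1, ← hK, ← Matrix.mul_assoc, h2, Matrix.mul_assoc, hK, Matrix.mul_one]
    exact Subtype.ext (Subtype.ext h3)
  rw [← card_fin_of_cntB _ 256 m ht, ← Nat.card_eq_finsetCard]
  exact Nat.card_le_card_of_injective (fun g => (⟨f g, hmem g⟩ : {a // a ∈ _})) fun g h e =>
    hinj (congrArg (fun z => (z : {a // a ∈ (Finset.univ : Finset (Fin 256)).filter fun a : Fin 256 =>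
      tst Ms (kc.getD 0 0) a = true}).1) e)

/-! ### The elements -/

theorem card_sp : Nat.card Sp8 = 47377612800 := by
  rw [Cfsg.Agent.S0245.result (F := ZMod 2) (q := 2) (ZMod.card 2) 4]
  decide +kernel

theorem center_bot : Subgroup.center Sp8 = ⊥ := by
  have h := Cfsg.Agent.S0246.result (F := ZMod 2) (q := 2) (ZMod.card 2) 4 (by norm_num)
  exact Subgroup.card_eq_one.1 h

/-- `PSp₈(F) ≃* Sp₈(2)`, `|F| = 2` -/
noncomputable def equiv {F : Type*} [Field F] [Fintype F] (hF : Fintype.card F = 2) : Cfsg.PSp 4 F ≃* Sp8 :=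
  (LieClassical.FieldTransfer.pspCongr 4 (ZMod.ringEquivOfPrime F Nat.prime_two hF).symm).trans
    ((QuotientGroup.quotientMulEquivOfEq center_bot).trans QuotientGroup.quotientBot)

def ez : Sp8 := se [191, 4, 40, 37, 5, 120, 164, 143] (by decide +kernel)
def ez2 : Sp8 := se [68, 40, 93, 239, 151, 252, 223, 57] (by decide +kernel)
def ez4 : Sp8 := se [130, 19, 190, 196, 159, 63, 175, 192] (by decide +kernel)
def ez8 : Sp8 := se [211, 14, 9, 209, 180, 75, 20, 111] (by decide +kernel)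
def ez16 : Sp8 := se [18, 214, 2, 28, 153, 24, 189, 90] (by decide +kernel)

def ey : Sp8 := se [130, 84, 149, 173, 206, 71, 211, 2] (by decide +kernel)
def ey2 : Sp8 := se [86, 136, 219, 255, 189, 144, 201, 84] (by decide +kernel)
def ey3 : Sp8 := se [220, 175, 100, 182, 49, 204, 254, 136] (by decide +kernel)
def ey6 : Sp8 := se [149, 229, 86, 190, 33, 164, 246, 62] (by decide +kernel)
def eu : Sp8 := se [127, 124, 76, 8, 16, 94, 62, 200] (by decide +kernel)
def eu2 : Sp8 := se [55, 52, 122, 8, 16, 22, 118, 254] (by decide +kernel)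
def eg : Sp8 := se [142, 17, 95, 96, 8, 56, 40, 44] (by decide +kernel)

theorem ez_two : ez * ez = ez2 := by decide +kernel
theorem ez_four : ez2 * ez2 = ez4 := by decide +kernel
theorem ez_eight : ez4 * ez4 = ez8 := by decide +kernel
theorem ez_sixteen : ez8 * ez8 = ez16 := by decide +kernel
theorem ez_sev : ez16 * ez = 1 := by decide +kernel
theorem ez_ne : ez ≠ 1 := by decide +kernel

theorem ey_two : ey * ey = ey2 := by decide +kernel
theorem ey_three : ey2 * ey = ey3 := by decide +kernel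
theorem ey_six : ey3 * ey3 = ey6 := by decide +kernel
theorem ey_nine : ey6 * ey3 = 1 := by decide +kernel
theorem ey3_ne : ey3 ≠ 1 := by decide +kernel
theorem eu_two : eu * eu = eu2 := by decide +kernel
theorem eu_three : eu2 * eu = 1 := by decide +kernel
theorem eu_ne : eu ≠ 1 := by decide +kernel
theorem eu_ne3 : eu ≠ ey3 := by decide +kernel
theorem eu_ne6 : eu ≠ ey6 := by decide +kernel
theorem eu_comm : eu * ey = ey * eu := by decide +kernel
theorem eg_conj : eg * ey = ey2 * eg := by decide +kernel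

theorem order_ez : orderOf ez = 17 := by
  have : Fact (Nat.Prime 17) := ⟨by norm_num⟩
  refine orderOf_eq_prime ?_ ez_ne
  have h : ez ^ 17 = (((ez ^ 2) ^ 2) ^ 2) ^ 2 * ez := by rw [← pow_mul, ← pow_mul, ← pow_mul, ← pow_succ]
  rw [h, pow_two ez, ez_two, pow_two ez2, ez_four, pow_two ez4, ez_eight, pow_two ez8, ez_sixteen, ez_sev]

theorem ey_pow3 : ey ^ 3 = ey3 := by
  rw [pow_succ, pow_two, ey_two, ey_three]

theorem ey_pow6 : ey ^ 6 = ey6 := by
  rw [show 6 = 3 * 2 by norm_num, pow_mul, ey_pow3, pow_two, ey_six]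

theorem ey_pow9 : ey ^ 9 = 1 := by
  rw [show 9 = 6 + 3 by norm_num, pow_add, ey_pow6, ey_pow3, ey_nine]

theorem order_ey : orderOf ey = 9 := by
  have : Fact (Nat.Prime 3) := ⟨by norm_num⟩
  exact orderOf_eq_prime_pow (p := 3) (n := 1) (by rw [pow_one, ey_pow3]; exact ey3_ne)
    (by norm_num; exact ey_pow9)

theorem eu_pow3 : eu ^ 3 = 1 := by
  rw [pow_succ, pow_two, eu_two, eu_three]

theorem eu_not_mem : eu ∉ Subgroup.zpowers ey := by
  intro h
  obtain ⟨k, hk⟩ := (mem_zpowers_iff_mem_range_orderOf (x := ey) (y := eu)).1 h |> fun h => by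
    rw [Finset.mem_image] at h
    exact h
  obtain ⟨hk1, hk2⟩ := hk
  rw [Finset.mem_range, order_ey] at hk1
  have h3 : ey ^ (k * 3) = 1 := by
    rw [pow_mul, hk2, eu_pow3]
  have h4 := orderOf_dvd_of_pow_eq_one h3
  rw [order_ey] at h4
  have h5 : k = 0 ∨ k = 3 ∨ k = 6 := by omega
  rcases h5 with rfl | rfl | rfl
  · rw [pow_zero] at hk2
    exact eu_ne hk2.symm
  · rw [ey_pow3] at hk2
    exact eu_ne3 hk2.symm
  · rw [ey_pow6] at hk2
    exact eu_ne6 hk2.symm

theorem cent_ez : Nat.card (Subgroup.centralizer ({ez} : Set Sp8)) ≤ 17 := by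
  refine card_cent_le (Y := ez) (kc := [1, 153, 220, 190, 114, 237, 107, 240]) (K' := km [1, 194, 240, 77, 28, 57, 247, 82])
    (Ms := [[5, 120, 164, 143, 191, 4, 40, 37], [151, 252, 223, 57, 68, 40, 93, 239], [25, 91, 152, 231, 140, 93, 19, 229], [159, 63, 175, 192, 130, 19, 190, 196]]) ?_ ?_ ?_ ?_
  · decide +kernel
  · decide +kernel
  · have h1 : Inv ez (sm [5, 120, 164, 143, 191, 4, 40, 37]) := (inv_J ez).mul (by decide +kernel)
    have h2 : Inv ez (sm [151, 252, 223, 57, 68, 40, 93, 239]) := h1.mul (by decide +kernel)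
    have h3 : Inv ez (sm [25, 91, 152, 231, 140, 93, 19, 229]) := h2.mul (by decide +kernel)
    have h4 : Inv ez (sm [159, 63, 175, 192, 130, 19, 190, 196]) := h3.mul (by decide +kernel)
    intro M hM
    simp only [List.mem_cons, List.not_mem_nil, or_false] at hM
    rcases hM with rfl | rfl | rfl | rfl
    · exact h1
    · exact h2
    · exact h3
    · exact h4
  · rw [tst_eq]
    decide +kernel

theorem cent_ey_le : Nat.card (Subgroup.centralizer ({ey} : Set Sp8)) ≤ 27 := by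
  refine card_cent_le (Y := ey) (kc := [2, 241, 13, 74, 155, 158, 204, 9]) (K' := km [180, 1, 132, 52, 92, 26, 61, 205])
    (Ms := [[206, 71, 211, 2, 130, 84, 149, 173], [189, 144, 201, 84, 86, 136, 219, 255], [49, 204, 254, 136, 220, 175, 100, 182], [11, 233, 52, 175, 39, 171, 1, 74]]) ?_ ?_ ?_ ?_
  · decide +kernel
  · decide +kernel
  · have h1 : Inv ey (sm [206, 71, 211, 2, 130, 84, 149, 173]) := (inv_J ey).mul (by decide +kernel)
    have h2 : Inv ey (sm [189, 144, 201, 84, 86, 136, 219, 255]) := h1.mul (by decide +kernel)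
    have h3 : Inv ey (sm [49, 204, 254, 136, 220, 175, 100, 182]) := h2.mul (by decide +kernel)
    have h4 : Inv ey (sm [11, 233, 52, 175, 39, 171, 1, 74]) := h3.mul (by decide +kernel)
    intro M hM
    simp only [List.mem_cons, List.not_mem_nil, or_false] at hM
    rcases hM with rfl | rfl | rfl | rfl
    · exact h1
    · exact h2
    · exact h3
    · exact h4
  · rw [tst_eq]
    decide +kernel

theorem cent_ey_ge : 27 ≤ Nat.card (Subgroup.centralizer ({ey} : Set Sp8)) := by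
  have hyC : ey ∈ Subgroup.centralizer ({ey} : Set Sp8) := Subgroup.mem_centralizer_singleton_iff.2 rfl
  have huC : eu ∈ Subgroup.centralizer ({ey} : Set Sp8) := Subgroup.mem_centralizer_singleton_iff.2 eu_comm
  have hle : Subgroup.zpowers ey ≤ Subgroup.centralizer ({ey} : Set Sp8) := by rwa [Subgroup.zpowers_le]
  let f : Subgroup.zpowers ey × Fin 3 → Subgroup.centralizer ({ey} : Set Sp8) := fun p =>
    ⟨p.1.1 * eu ^ (p.2 : ℕ), Subgroup.mul_mem _ (hle p.1.2) (Subgroup.pow_mem _ huC _)⟩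
  have hf : Function.Injective f := by
    rintro ⟨⟨a, ha⟩, i⟩ ⟨⟨b, hb⟩, j⟩ h
    have h1 : a * eu ^ (i : ℕ) = b * eu ^ (j : ℕ) := congrArg Subtype.val h
    have h2 : eu ^ (i : ℕ) * (eu ^ (j : ℕ))⁻¹ ∈ Subgroup.zpowers ey := by
      have h3 : eu ^ (i : ℕ) * (eu ^ (j : ℕ))⁻¹ = a⁻¹ * b := by
        rw [mul_inv_eq_iff_eq_mul, mul_assoc, ← h1, inv_mul_cancel_left]
      rw [h3]
      exact Subgroup.mul_mem _ (Subgroup.inv_mem _ ha) hb
    have h4 : ∀ n : ℤ, eu ^ n ∈ Subgroup.zpowers ey → (3 : ℤ) ∣ n := by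
      intro n hn
      by_contra hd
      apply eu_not_mem
      have h5 : ∃ s : ℤ, n * s % 3 = 1 := ⟨n, by
        have : n % 3 = 1 ∨ n % 3 = 2 := by omega
        rcases this with h | h <;> simp [Int.mul_emod, h]⟩
      obtain ⟨s, hs⟩ := h5
      have h6 : eu = (eu ^ n) ^ s := by
        rw [← _root_.zpow_mul, ← Int.mul_ediv_add_emod (n * s) 3, hs, _root_.zpow_add, _root_.zpow_mul]
        have : eu ^ (3 : ℤ) = 1 := by exact_mod_cast eu_pow3
        rw [this, _root_.one_zpow, one_mul, _root_.zpow_one]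
      rw [h6]
      exact Subgroup.zpow_mem _ hn s
    have h5 := h4 ((i : ℤ) - (j : ℤ)) (by rw [_root_.zpow_sub, _root_.zpow_natCast, _root_.zpow_natCast]; exact h2)
    have h6 : i = j := by
      have := i.2
      have := j.2
      apply Fin.ext
      omega
    subst h6
    have h7 : a = b := mul_right_cancel h1
    subst h7
    rfl
  have h := Nat.card_le_card_of_injective f hf
  rw [Nat.card_prod, Nat.card_zpowers, order_ey, Nat.card_eq_fintype_card, Fintype.card_fin] at h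
  exact h

end Cfsg.Agent.H348.OZ.SpE
end

-- part: H348/OZ/RowSpEight
section
/-!
# One vanishing class: `PSp₈(2)` (helper348, S4842)

The sieve with the isolated prime 17 leaves 16 degrees.  If `3 ∣ d`, the value at the rational element `y` of order 9
(`|C(y)| = 27`) is divisible by 3: `8 c ≤ 27` or `c = 27`.  If `d` is a power of 2, Burnside's lemma at a central element
of a Sylow 2-subgroup gives `2 ^ 16 ≤ c`.  Both contradict T4 (`c ≤ 25`).
-/

set_option autoImplicit false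
set_option maxRecDepth 100000

open Cfsg Cfsg.Agent.Characters Cfsg.Agent.H732.VZ Cfsg.Agent.H604.OZ

namespace Cfsg.Agent.H348.OZ

open SpE

universe u

/-- powers of a rational element of order 9 -/
theorem conj_pow_nine {G : Type u} [Group G] {y : G} (hy : y ^ 9 = 1) (h : IsConj y (y ^ 2)) {m : ℕ}
    (hm : ¬ 3 ∣ m) : IsConj (y ^ m) y := by
  have hs : ∀ k : ℕ, IsConj y (y ^ (2 ^ k)) := by
    intro k
    induction k with
    | zero => rw [pow_zero, pow_one]
    | succ k ih =>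
      obtain ⟨c, hc⟩ := isConj_iff.1 h
      refine ih.trans ?_
      have h2 : IsConj (y ^ (2 ^ k)) ((y ^ 2) ^ (2 ^ k)) := isConj_iff.2 ⟨c, by rw [← hc, conj_pow]⟩
      rwa [← pow_mul, ← pow_succ'] at h2
  have h9 : y ^ m = y ^ (m % 9) := by
    conv_lhs => rw [← Nat.div_add_mod m 9, pow_add, pow_mul, hy, one_pow, one_mul]
  have h1 : m % 9 = 1 ∨ m % 9 = 2 ∨ m % 9 = 4 ∨ m % 9 = 5 ∨ m % 9 = 7 ∨ m % 9 = 8 := by omega
  have hp : ∀ n r : ℕ, n % 9 = r → y ^ n = y ^ r := by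
    intro n r hr
    conv_lhs => rw [← Nat.div_add_mod n 9, pow_add, pow_mul, hy, one_pow, one_mul, hr]
  rw [h9]
  rcases h1 with h1 | h1 | h1 | h1 | h1 | h1 <;> rw [h1]
  · rw [pow_one]
  · exact h.symm
  · exact (hs 2).symm
  · have := hs 5
    rw [hp (2 ^ 5) 5 (by norm_num)] at this
    exact this.symm
  · have := hs 4
    rw [hp (2 ^ 4) 7 (by norm_num)] at this
    exact this.symm
  · exact (hs 3).symm

/-- a central element of a Sylow subgroup -/
theorem exists_central {G : Type u} [Group G] [Finite G] {r n : ℕ} (hr : r.Prime) (hn : n ≠ 0) (h1 : r ^ n ∣ Nat.card G) :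
    ∃ z : G, z ≠ 1 ∧ r ^ n ∣ cent z := by
  have : Fact r.Prime := ⟨hr⟩
  let P : Sylow r G := default
  have hPr : r ^ n ∣ Nat.card (P : Subgroup G) := P.pow_dvd_card_of_pow_dvd_card h1
  have hPnt : Nontrivial (P : Subgroup G) := by
    rw [← Finite.one_lt_card_iff_nontrivial]
    exact lt_of_lt_of_le (Nat.one_lt_pow hn hr.one_lt) (Nat.le_of_dvd Nat.card_pos hPr)
  have hZ := P.2.center_nontrivial
  obtain ⟨z, hz⟩ := exists_ne (1 : Subgroup.center (P : Subgroup G))
  refine ⟨((z : (P : Subgroup G)) : G), fun h => hz (Subtype.ext (Subtype.ext h)), hPr.trans ?_⟩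
  refine Subgroup.card_dvd_of_le ?_
  intro g hg
  rw [Subgroup.mem_centralizer_singleton_iff]
  exact congrArg Subtype.val (Subgroup.mem_center_iff.1 z.2 ⟨g, hg⟩)

/-- **A degree which is a power of a prime `r`**: `|G|_r ≤ c`. -/
theorem le_cent_of_prime_pow {G : Type u} [Group G] [Finite G] [IsSimpleGroup G] (hna : ¬ IsMulCommutative G)
    {χ : IrrCharacter G} {x : G} (h : One χ x) {r n a : ℕ} (hr : r.Prime) (hn : n ≠ 0) (h1 : r ^ n ∣ Nat.card G)
    (h2 : ¬ r ^ (n + 1) ∣ Nat.card G) (hd : charDegree (χ : G → ℂ) = r ^ a) : r ^ n ≤ cent x := by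
  obtain ⟨z, hz, hzc⟩ := exists_central hr hn h1
  have h3 : (Subgroup.centralizer ({z} : Set G)).index.Coprime (charDegree (χ : G → ℂ)) := by
    rw [hd]
    refine Nat.Coprime.pow_right _ ?_
    rw [Nat.coprime_comm, hr.coprime_iff_not_dvd]
    intro hi
    apply h2
    rw [pow_succ, ← Subgroup.card_mul_index (Subgroup.centralizer ({z} : Set G))]
    exact Nat.mul_dvd_mul hzc hi
  rw [H672.OZ.cent_eq_of_conj (H933.OZ.zero_of_coprime hna χ h hz h3)]
  exact Nat.le_of_dvd Nat.card_pos hzc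

theorem isConj_ey : IsConj ey (ey ^ 2) := by
  refine isConj_iff.2 ⟨eg, ?_⟩
  rw [pow_two, ey_two, eg_conj, mul_inv_cancel_right]

/-- **`Sp₈(2)`.** -/
theorem row_sp8 [IsSimpleGroup Sp8] : H730.OZ.Row Sp8 := by
  have hN := card_sp
  have hna : ¬ IsMulCommutative Sp8 := fun h => by
    have h1 : ez * ey = ey * ez := h.is_comm.comm ez ey
    exact absurd h1 (by decide +kernel)
  refine row_of fun χ x ho => ?_
  have h4 : 4 ≤ cent x := four_le_cent ho (by rw [hN]; norm_num) (by rw [hN]; norm_num)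
  have hiso : ∀ r ∈ [17], charDegree (χ : Sp8 → ℂ) % r = 0 ∨
      charDegree (χ : Sp8 → ℂ) % r = 1 ∨ charDegree (χ : Sp8 → ℂ) % r = r - 1 := by
    intro r hr
    rw [List.mem_singleton] at hr
    subst hr
    exact H672.OZ.iso_mod_of ho (by norm_num) (by norm_num) (by rw [hN]; norm_num) (by rw [hN]; norm_num) order_ez
      cent_ez h4
  have hm := H672.OZ.mem_of_sieve4 ho hN (l := [(2,16),(3,5),(5,2),(7,1),(17,1)]) (by decide +kernel)
    (by
      intro x hx
      simp only [List.mem_cons, List.not_mem_nil, or_false] at hx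
      rcases hx with rfl | rfl | rfl | rfl | rfl <;> norm_num)
    (by decide +kernel) h4 hiso
    (D := [16, 256, 4096, 18, 120, 135, 288, 324, 1920, 2160, 4608, 5184, 30720, 34560, 73728, 82944])
    (_root_.Cfsg.Agent.H672.OZ.LowExp.all_of4 (by decide +kernel))
  set d := charDegree (χ : Sp8 → ℂ) with hd
  -- `c ≤ 25`
  have hc : cent x ≤ 25 := by
    have h5 : ∀ d ∈ [16, 256, 4096, 18, 120, 135, 288, 324, 1920, 2160, 4608, 5184, 30720, 34560, 73728, 82944],
        ¬ 5 ^ 2 ∣ d ^ 2 - 1 ∨ ¬ 7 ^ 1 ∣ d ^ 2 - 1 := by decide +kernel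
    rcases h5 d hm with h6 | h6
    · have := H672.OZ.cent_le_of ho hN (r := 5) (n := 2) (by norm_num) hd.symm (by norm_num) (by norm_num) h6
      omega
    · have := H672.OZ.cent_le_of ho hN (r := 7) (n := 1) (by norm_num) hd.symm (by norm_num) (by norm_num) h6
      omega
  have h6 : ∀ d ∈ [16, 256, 4096, 18, 120, 135, 288, 324, 1920, 2160, 4608, 5184, 30720, 34560, 73728, 82944],
      (d = 2 ^ 4 ∨ d = 2 ^ 8 ∨ d = 2 ^ 12) ∨ 3 ∣ d := by decide +kernel
  have key : ∀ a : ℕ, d ≠ 2 ^ a := by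
    intro a ha
    have h7 := le_cent_of_prime_pow hna ho Nat.prime_two (n := 16) (by norm_num) (by rw [hN]; norm_num)
      (by rw [hN]; norm_num) ha
    norm_num at h7
    omega
  rcases h6 d hm with (h7 | h7 | h7) | h7
  · exact key _ h7
  · exact key _ h7
  · exact key _ h7
  have hy : ∀ m : ℕ, m.Coprime (Nat.card Sp8) → IsConj (ey ^ m) ey := by
    intro m hm
    refine conj_pow_nine ey_pow9 isConj_ey fun h3 => ?_
    have h8 : 3 ∣ Nat.gcd m (Nat.card Sp8) := Nat.dvd_gcd h3 (by rw [hN]; norm_num)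
    rw [hm] at h8
    omega
  by_cases hxy : IsConj x ey
  · have h8 := H672.OZ.cent_eq_of_conj hxy
    have h9 : 27 ≤ cent ey := cent_ey_ge
    omega
  · have h8 := H849.OZ.one_prime ho Nat.prime_three h7 ⟨2, by rw [order_ey]; norm_num⟩ hy hxy
    have h9 : cent ey ≤ 27 := cent_ey_le
    norm_num at h8
    omega

/-- **`PSp₈(2)`.** -/
theorem row_psp8_two {S : Type u} [Group S] [Finite S] (hs : IsSimpleGroup S) {F : Type*} [Field F] [Fintype F]
    (hF : Fintype.card F = 2) (h : Nonempty (S ≃* PSp 4 F)) : H730.OZ.Row S := by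
  obtain ⟨e⟩ := h
  have e' : S ≃* Sp8 := e.trans (equiv hF)
  have : Nontrivial Sp8 := e'.symm.toEquiv.nontrivial
  have : IsSimpleGroup Sp8 := IsSimpleGroup.isSimpleGroup_of_surjective e'.toMonoidHom e'.surjective
  exact H730.OZ.Row.congr e' row_sp8

end Cfsg.Agent.H348.OZ
end

private theorem dce_5c0ed888cad0 : _root_.True := by
  try have : _root_.True := by simp only [_root_.Cfsg.Agent.H348.OZ.SpE.tst.eq_1]
  try have : _root_.True := by simp only [_root_.Cfsg.Agent.H348.OZ.SpE.ix.eq_2]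
  try have : _root_.True := by simp only [_root_.Cfsg.Agent.H348.OZ.SpE.ix.eq_1]
  try have : _root_.True := by simp only [_root_.Cfsg.Agent.H348.OZ.SpE.dec.eq_1]
  exact _root_.True.intro
end

-- part: H364/OZ/Mid
section
set_option linter.all false
open scoped Cfsg.Agent.FastGrp

/-!
# S4842: the middle value (helper364)

An irreducible character with exactly one class of zeros satisfies `∑ p-elements = p ^ m χ(1)` with

* `F₄(q)`: `m = 24 a` (`sum_F4`), `G₂(q)`: `m = 6 a` (`sum_G2`), `E₈(q)`: `m = 120 a` (`sum_E8`);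
* `PΩ⁺(8, q)`: `m = 12 a` (`sum_O8`), `³D₄(q)`: `m = 12 a`, or `- p ^ m`, `m = 6 a, 18 a` (`sum_3D4`).

The input is `CP p D G`: the congruence holds for a prime `r` with `orderOf (p : ZMod r) = D`.
-/

set_option autoImplicit false

namespace Cfsg.Agent.H364.OZ

open Cfsg Cfsg.Lie Finset Cfsg.Agent.H730.OZ
open Cfsg.Agent.H448.Van (not_dvd_card fact_of not_dvd_prod mid_E8 ord_one ord_neg)

universe u

/-- **The closing criterion with middle values.** -/
theorem mid_of_cong {G : Type u} [Group G] [Finite G] (hs : IsSimpleGroup G) {p : ℕ} (hp : p.Prime) {v : ℕ}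
    (hv : (Nat.card G).factorization p = v) (hv0 : v ≠ 0) (hK : Kaw p G)
    (h0 : ¬ p ^ (2 * v) - 1 ∣ Nat.card G) {Q : ℕ → ℤ → Prop}
    (hmid : ∀ (m : ℕ) (e : ℤ), (e = 1 ∨ e = -1) → 0 < m → m < 2 * v →
      (∀ r k : ℕ, Cong p r k G → (r : ℤ) ∣ e * (p : ℤ) ^ m - (p : ℤ) ^ k) → Q m e)
    {χ : G → ℂ} (hχ : IsIrrCharacter G χ) (hz : OneZero χ) :
    ∃ (m : ℕ) (e : ℤ), Q m e ∧ ∑ᶠ u ∈ pSet p G, χ u = (e : ℂ) * (p : ℂ) ^ m * χ 1 := by
  classical
  by_contra hno
  have hex : ∀ (m : ℕ) (e : ℤ), ∑ᶠ u ∈ pSet p G, χ u = (e : ℂ) * (p : ℂ) ^ m * χ 1 → ¬ Q m e :=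
    fun m e h1 h2 => hno ⟨m, e, h2, h1⟩
  have := Fintype.ofFinite G
  have hd : ((charDegree χ : ℕ) : ℂ) = χ 1 := H686.CharKit.charDegree_cast (Cfsg.Agent.Characters.Core.isIrr_isCharacter hχ)
  have hd0 : 0 < charDegree χ := H686.CharKit.charDegree_pos ⟨χ, hχ⟩
  have hpG : p ∣ Nat.card G := by
    by_contra h
    rw [Nat.factorization_eq_zero_of_not_dvd h] at hv
    exact hv0 hv.symm
  obtain ⟨m, e, he, hsum⟩ := hK.sum χ hχ
  obtain ⟨hmle, hmtop⟩ := hK.top hp hχ he hsum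
  rw [hv] at hmle hmtop
  rcases Nat.eq_zero_or_pos m with hm0 | hm0
  · refine h0 ?_
    have h1 := OneZero.dvd_of_degree hp hpG hχ hz ?_
    · rwa [hK.card, hv] at h1
    · obtain ⟨z, hzz⟩ := frob hp hχ
      rw [hsum, hm0, pow_zero, mul_one, ← hd] at hzz
      have h2 : e * (charDegree χ : ℤ) = ((p ^ (Nat.card G).factorization p : ℕ) : ℤ) * z := by
        exact_mod_cast hzz
      have h3 : ((p ^ (Nat.card G).factorization p : ℕ) : ℤ) ∣ (charDegree χ : ℤ) := by
        rcases he with rfl | rfl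
        · exact ⟨z, by rw [← h2, one_mul]⟩
        · exact ⟨-z, by rw [mul_neg, ← h2]; ring⟩
      exact_mod_cast h3
  rcases Nat.lt_or_ge m (2 * v) with hlt | hge
  · exact hex m e hsum (hmid m e he hm0 hlt fun r k hrk => hrk χ hχ hz m e he hsum)
  · have hall := hmtop (le_antisymm hmle hge)
    obtain ⟨u, hu⟩ := @exists_prime_orderOf_dvd_card' G _ _ p ⟨hp⟩ hpG
    have hu1 : χ u = χ 1 := hall u ⟨1, by rw [hu, pow_one]⟩
    set K := H686.CharKit.chKer (⟨χ, hχ⟩ : IrrCharacter G) with hKdef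
    have huK : u ∈ K := H686.CharKit.mem_chKer.2 hu1
    have hKtop : K = ⊤ := by
      rcases hs.eq_bot_or_eq_top_of_normal K inferInstance with h | h
      · exfalso
        rw [h, Subgroup.mem_bot] at huK
        rw [huK, orderOf_one] at hu
        exact hp.one_lt.ne hu
      · exact h
    obtain ⟨x, hx0, -⟩ := hz
    have hxK : x ∈ K := by rw [hKtop]; exact Subgroup.mem_top _
    have hx1 : χ x = χ 1 := H686.CharKit.mem_chKer.1 hxK
    rw [hx0, ← hd] at hx1
    have : (charDegree χ : ℂ) ≠ 0 := by exact_mod_cast hd0.ne'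
    exact this hx1.symm

/-- the congruence holds for a prime of order `D` -/
def CP (p D : ℕ) (G : Type u) [Group G] : Prop :=
  ∃ r : ℕ, r.Prime ∧ orderOf (p : ZMod r) = D ∧ Cong p r 0 G

theorem CP.spec {G : Type u} [Group G] {p D m : ℕ} {e : ℤ} (h : CP p D G) (hD : 3 ≤ D)
    (hc : ∀ r k : ℕ, Cong p r k G → (r : ℤ) ∣ e * (p : ℤ) ^ m - (p : ℤ) ^ k) (he : e = 1 ∨ e = -1) :
    D ∣ 2 * m ∧ (e = -1 → ¬ D ∣ m) ∧ (e = 1 → D ∣ m) := by
  obtain ⟨r, hrp, hord, hcg⟩ := h
  have h1 := hc r 0 hcg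
  have : Fact r.Prime := ⟨hrp⟩
  have hr : 2 < r := by
    have h2 : orderOf (p : ZMod r) ∣ r - 1 := by
      apply orderOf_dvd_of_pow_eq_one
      apply ZMod.pow_card_sub_one_eq_one
      intro h3
      rw [h3] at hord
      have h4 : orderOf (0 : ZMod r) = 0 := orderOf_eq_zero_iff'.2 fun n hn h => by
        rw [zero_pow hn.ne'] at h
        exact zero_ne_one h
      omega
    have h3 := hrp.two_le
    have h4 := Nat.le_of_dvd (by omega) h2
    omega
  rcases he with rfl | rfl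
  · have h2 := ord_one hord h1
    exact ⟨h2.mul_left 2, fun h => absurd h (by norm_num), fun _ => h2⟩
  · obtain ⟨h2, h3⟩ := ord_neg hord h1
    exact ⟨h2, fun _ => h3 hr, fun h => absurd h (by norm_num)⟩

/-- **The general form.** -/
theorem sum_gen {G : Type u} [Group G] [Finite G] (hs : IsSimpleGroup G) {p a N g : ℕ} (hp : p.Prime) (ha : 0 < a)
    {L : List ℕ} (hg : ¬ p ∣ g) (hcard : g * Nat.card G = p ^ (N * a) * (L.map fun d => (p ^ a) ^ d - 1).prod)
    (hL : ∀ d ∈ L, 0 < d ∧ d < 2 * N) (hN : 4 ≤ N) (hK : Kaw p G) {Q : ℕ → ℤ → Prop}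
    (hmid : ∀ (m : ℕ) (e : ℤ), (e = 1 ∨ e = -1) → 0 < m → m < 2 * (N * a) →
      (∀ D, 3 ≤ D → CP p D G → D ∣ 2 * m ∧ (e = -1 → ¬ D ∣ m) ∧ (e = 1 → D ∣ m)) → Q m e)
    {χ : G → ℂ} (hχ : IsIrrCharacter G χ) (hz : OneZero χ) :
    ∃ (m : ℕ) (e : ℤ), Q m e ∧ ∑ᶠ u ∈ pSet p G, χ u = (e : ℂ) * (p : ℂ) ^ m * χ 1 := by
  have hv : (Nat.card G).factorization p = N * a :=
    fact_of hp hg (not_dvd_prod hp ha (fun d hd => (hL d hd).1)) Nat.card_pos.ne' hcard
  refine mid_of_cong hs hp hv (by positivity) hK ?_ ?_ hχ hz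
  · rw [show 2 * (N * a) = a * (2 * N) by ring]
    refine not_dvd_card hp ha (by omega) (N := N * a) (L := L) ?_ hL
    rw [← hcard]
    exact dvd_mul_left _ _
  · intro m e he hm hm2 hc
    exact hmid m e he hm hm2 fun D hD hCP => hCP.spec hD hc he

/-! ### the numbers -/

theorem dvd_lt {a b m : ℕ} {k : ℕ} (h : a * b ∣ m) (hm : 0 < m) (hm2 : m < a * b * k) : ∃ c, 0 < c ∧ c < k ∧ m = a * b * c := by
  obtain ⟨c, hc⟩ := h
  refine ⟨c, Nat.pos_of_ne_zero (by rintro rfl; omega), ?_, hc⟩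
  rw [hc] at hm2
  exact Nat.lt_of_mul_lt_mul_left hm2

theorem mid_3D4 {a m : ℕ} {e : ℤ} (hm : 0 < m) (hm2 : m < 2 * (12 * a)) (he : e = 1 ∨ e = -1)
    (h12 : a * 12 ∣ 2 * m ∧ (e = -1 → ¬ a * 12 ∣ m) ∧ (e = 1 → a * 12 ∣ m)) :
    (m = a * 12 ∧ e = 1) ∨ ((m = a * 6 ∨ m = a * 18) ∧ e = -1) := by
  rcases he with rfl | rfl
  · left
    obtain ⟨c, hc, hc2, h2⟩ := dvd_lt (k := 2) (h12.2.2 rfl) hm (by omega)
    have : c = 1 := by omega
    subst this
    exact ⟨by omega, rfl⟩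
  · right
    obtain ⟨c, hc, hc2, h2⟩ := dvd_lt (k := 4) h12.1 (by omega) (by omega)
    have h3 := h12.2.1 rfl
    have h4 : c = 1 ∨ c = 2 ∨ c = 3 := by omega
    rcases h4 with rfl | rfl | rfl
    · exact ⟨Or.inl (by omega), rfl⟩
    · exact absurd (show a * 12 ∣ m from ⟨1, by omega⟩) h3
    · exact ⟨Or.inr (by omega), rfl⟩

/-! ### the families -/

section

variable {F : Type u} [Field F] [Fintype F] {p a : ℕ}

end

/-- **`³D₄(q)`**: `12 a`, or the sign `-` and `6 a`, `18 a`. -/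
theorem sum_3D4 {K : Type u} [Field K] [Fintype K] {p a q : ℕ} (hs : IsSimpleGroup ↥(twistedD4 K q)) (hp : p.Prime)
    (ha : 0 < a) (hq : q = p ^ a) (hF : Fintype.card K = q ^ 3) (hK : Kaw p ↥(twistedD4 K q))
    (h12 : CP p (a * 12) ↥(twistedD4 K q))
    {χ : ↥(twistedD4 K q) → ℂ} (hχ : IsIrrCharacter ↥(twistedD4 K q) χ) (hz : OneZero χ) :
    ∑ᶠ u ∈ pSet p ↥(twistedD4 K q), χ u = (p : ℂ) ^ (a * 12) * χ 1 ∨
    ∑ᶠ u ∈ pSet p ↥(twistedD4 K q), χ u = - (p : ℂ) ^ (a * 6) * χ 1 ∨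
    ∑ᶠ u ∈ pSet p ↥(twistedD4 K q), χ u = - (p : ℂ) ^ (a * 18) * χ 1 := by
  have hqp : IsPrimePow q := by rw [hq]; exact hp.isPrimePow.pow ha.ne'
  have hp4 : ¬ p ∣ q ^ 4 - 1 := by
    intro h
    have h1 : p ∣ q ^ 4 := by rw [hq]; exact dvd_pow (dvd_pow_self p ha.ne') (by norm_num)
    have h2 : 1 ≤ q ^ 4 := Nat.one_le_pow _ _ hqp.pos
    have h3 := (Nat.dvd_sub_iff_right h2 h1).1 h
    exact hp.one_lt.ne' (Nat.dvd_one.1 h3)
  have hcard : (q ^ 4 - 1) * Nat.card ↥(twistedD4 K q) =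
      p ^ (12 * a) * (([2, 6, 12] : List ℕ).map fun d => (p ^ a) ^ d - 1).prod := by
    have h1 : (q ^ 4 - 1) * (q ^ 8 + q ^ 4 + 1) = q ^ 12 - 1 := by
      obtain ⟨c, hc⟩ := Nat.exists_eq_add_of_le' (Nat.one_le_pow 4 q hqp.pos)
      rw [show q ^ 8 = (q ^ 4) ^ 2 by ring, show q ^ 12 = (q ^ 4) ^ 3 by ring, hc, Nat.add_sub_cancel]
      have : (c + 1) ^ 3 = c * ((c + 1) ^ 2 + (c + 1) + 1) + 1 := by ring
      rw [this, Nat.add_sub_cancel]
    calc (q ^ 4 - 1) * Nat.card ↥(twistedD4 K q)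
        = q ^ 12 * (q ^ 2 - 1) * (q ^ 6 - 1) * ((q ^ 4 - 1) * (q ^ 8 + q ^ 4 + 1)) := by
          rw [Cfsg.Agent.S1067.result hqp hF]; ring
      _ = _ := by
          rw [h1, hq]
          simp only [List.map_cons, List.map_nil, List.prod_cons, List.prod_nil, mul_one, ← pow_mul]
          rw [mul_comm a 12]
          ring
  obtain ⟨m, e, hme, h⟩ := sum_gen (Q := fun m e => (m = a * 12 ∧ e = 1) ∨ ((m = a * 6 ∨ m = a * 18) ∧ e = -1)) hs hp ha hp4
    hcard (fun d hd => by simp at hd; omega) (by norm_num) hK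
    (fun m e he hm hm2 hc => mid_3D4 hm hm2 he (hc _ (by omega) h12)) hχ hz
  rcases hme with ⟨rfl, rfl⟩ | ⟨rfl | rfl, rfl⟩
  · left; rw [h]; push_cast; ring
  · right; left; rw [h]; push_cast; ring
  · right; right; rw [h]; push_cast; ring

end Cfsg.Agent.H364.OZ
end

-- part: H448/Van/DataE8s
section
prune_inst 0x4f12075057d801200001c009673003ca7ff000592006b8000b9660f0207cf5d60e947af614aa01d1a100e9e5438310008111000f0425000000e003c00411b01a080ae4206b308a30c2e008f803087180c00000000000000000000000000041004000000000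
set_option linter.all false
open scoped Cfsg.Agent.FastGrp

/-!
# Data of the torus of type `A₆` of `E₈(q)` (helper448)

The word `s₂ s₄ s₅ s₆ s₇ s₈` fixes `α₁`; `Gf q` is a functional on the root lattice with `Gf q (θ x) = q Gf q x` modulo
`q ^ 7 - 1`; its values on the roots `≠ ± α₁` are units modulo the prime divisors `≠ 2, 7` of `Φ₇(q)`.
-/

set_option autoImplicit false

namespace Cfsg.Agent.H448.Van.DataE8s

open Cfsg.Agent.H129.TorusTw Cfsg.Agent.H129.WData Cfsg.Agent.ChevalleyStructure.CoxeterGeomTypes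
open Cfsg.Agent.ChevalleyStructure.RootVec
open Cfsg.Lie Cfsg.Lie.ChevalleyDatum

/-- the Cartan matrix -/
def Am : Mat 8 := ![![2, 0, -1, 0, 0, 0, 0, 0],
    ![0, 2, 0, -1, 0, 0, 0, 0],
    ![-1, 0, 2, -1, 0, 0, 0, 0],
    ![0, -1, -1, 2, -1, 0, 0, 0],
    ![0, 0, 0, -1, 2, -1, 0, 0],
    ![0, 0, 0, 0, -1, 2, -1, 0],
    ![0, 0, 0, 0, 0, -1, 2, -1],
    ![0, 0, 0, 0, 0, 0, -1, 2]]

/-- the word -/
def word : List (Fin 8) := [1, 3, 4, 5, 6, 7]

/-- the partial products -/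
def chain : List (Fin 8 × Mat 8) := [
    (1, ![![1, 0, 0, 0, 0, 0, 0, 0],
      ![0, 0, 0, 1, 0, 0, 0, 0],
      ![0, 1, 1, 1, 0, 0, 0, 0],
      ![0, 0, 0, 0, 1, 0, 0, 0],
      ![0, 0, 0, 0, 0, 1, 0, 0],
      ![0, 0, 0, 0, 0, 0, 1, 0],
      ![0, 0, 0, 0, 0, 0, 0, 1],
      ![0, -1, 0, -1, -1, -1, -1, -1]]),
    (3, ![![1, 0, 0, 0, 0, 0, 0, 0],
      ![0, 1, 0, 1, 0, 0, 0, 0],
      ![0, 0, 1, 1, 0, 0, 0, 0],
      ![0, 0, 0, 0, 1, 0, 0, 0],
      ![0, 0, 0, 0, 0, 1, 0, 0],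
      ![0, 0, 0, 0, 0, 0, 1, 0],
      ![0, 0, 0, 0, 0, 0, 0, 1],
      ![0, 0, 0, -1, -1, -1, -1, -1]]),
    (4, ![![1, 0, 0, 0, 0, 0, 0, 0],
      ![0, 1, 0, 0, 0, 0, 0, 0],
      ![0, 0, 1, 0, 0, 0, 0, 0],
      ![0, 0, 0, 1, 1, 0, 0, 0],
      ![0, 0, 0, 0, 0, 1, 0, 0],
      ![0, 0, 0, 0, 0, 0, 1, 0],
      ![0, 0, 0, 0, 0, 0, 0, 1],
      ![0, 0, 0, 0, -1, -1, -1, -1]]),
    (5, ![![1, 0, 0, 0, 0, 0, 0, 0],
      ![0, 1, 0, 0, 0, 0, 0, 0],
      ![0, 0, 1, 0, 0, 0, 0, 0],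
      ![0, 0, 0, 1, 0, 0, 0, 0],
      ![0, 0, 0, 0, 1, 1, 0, 0],
      ![0, 0, 0, 0, 0, 0, 1, 0],
      ![0, 0, 0, 0, 0, 0, 0, 1],
      ![0, 0, 0, 0, 0, -1, -1, -1]]),
    (6, ![![1, 0, 0, 0, 0, 0, 0, 0],
      ![0, 1, 0, 0, 0, 0, 0, 0],
      ![0, 0, 1, 0, 0, 0, 0, 0],
      ![0, 0, 0, 1, 0, 0, 0, 0],
      ![0, 0, 0, 0, 1, 0, 0, 0],
      ![0, 0, 0, 0, 0, 1, 1, 0],
      ![0, 0, 0, 0, 0, 0, 0, 1],
      ![0, 0, 0, 0, 0, 0, -1, -1]]),
    (7, ![![1, 0, 0, 0, 0, 0, 0, 0],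
      ![0, 1, 0, 0, 0, 0, 0, 0],
      ![0, 0, 1, 0, 0, 0, 0, 0],
      ![0, 0, 0, 1, 0, 0, 0, 0],
      ![0, 0, 0, 0, 1, 0, 0, 0],
      ![0, 0, 0, 0, 0, 1, 0, 0],
      ![0, 0, 0, 0, 0, 0, 1, 1],
      ![0, 0, 0, 0, 0, 0, 0, -1]])]

/-- the matrix of `θ` -/
def Th : Mat 8 := ![![1, 0, 0, 0, 0, 0, 0, 0],
    ![0, 0, 0, 1, 0, 0, 0, 0],
    ![0, 1, 1, 1, 0, 0, 0, 0],
    ![0, 0, 0, 0, 1, 0, 0, 0],
    ![0, 0, 0, 0, 0, 1, 0, 0],
    ![0, 0, 0, 0, 0, 0, 1, 0],
    ![0, 0, 0, 0, 0, 0, 0, 1],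
    ![0, -1, 0, -1, -1, -1, -1, -1]]

/-- the representatives of the orbits on the roots -/
def R : Fin 36 → Fin 8 → ℤ := ![![-2, -3, -4, -6, -5, -4, -3, -2],
    ![-2, -3, -3, -5, -4, -3, -2, -1],
    ![-1, -3, -3, -5, -4, -3, -2, -1],
    ![-1, -2, -2, -4, -4, -3, -2, -1],
    ![-1, -2, -2, -4, -3, -3, -2, -1],
    ![-1, -2, -2, -4, -3, -2, -2, -1],
    ![-1, -2, -2, -4, -3, -2, -1, -1],
    ![-1, -2, -2, -3, -3, -2, -2, -1],
    ![-1, -1, -1, -2, -2, -2, -2, -1],
    ![-1, -1, -1, -2, -2, -2, -1, -1],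
    ![-1, -1, -1, -2, -2, -1, -1, -1],
    ![-1, 0, 0, 0, 0, 0, 0, 0],
    ![0, -1, -1, -2, -2, -2, -2, -1],
    ![0, -1, -1, -2, -2, -2, -1, -1],
    ![0, -1, -1, -2, -2, -1, -1, -1],
    ![0, -1, 0, -1, -1, -1, -1, -1],
    ![0, -1, 0, -1, -1, -1, -1, 0],
    ![0, -1, 0, -1, -1, -1, 0, 0],
    ![0, -1, 0, -1, -1, 0, 0, 0],
    ![0, -1, 0, -1, 0, 0, 0, 0],
    ![0, -1, 0, 0, 0, 0, 0, 0],
    ![0, 0, 1, 0, 0, 0, 0, 0],
    ![0, 0, 1, 1, 0, 0, 0, 0],
    ![0, 0, 1, 1, 1, 0, 0, 0],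
    ![1, 0, 0, 0, 0, 0, 0, 0],
    ![1, 0, 1, 0, 0, 0, 0, 0],
    ![1, 0, 1, 1, 0, 0, 0, 0],
    ![1, 0, 1, 1, 1, 0, 0, 0],
    ![1, 1, 2, 2, 1, 0, 0, 0],
    ![1, 1, 2, 2, 1, 1, 0, 0],
    ![1, 1, 2, 2, 1, 1, 1, 0],
    ![1, 1, 2, 2, 2, 1, 0, 0],
    ![1, 1, 2, 2, 2, 1, 1, 0],
    ![1, 2, 3, 4, 3, 2, 1, 0],
    ![2, 2, 3, 4, 3, 2, 1, 0],
    ![2, 2, 4, 5, 4, 3, 2, 1]]

/-- previous root -/
def prv (r : ℕ) : ℕ := Nat.mod (Nat.shiftRight 0xeeedecebeae8e200e9e7e6e5e400dbe1e0dfdedd00d6d2cfcdccc8c5c3c2bfbdbcbab9b8dad9d8d7d5d4d3d1d0cecbcac9c70000c1000000b5b3b2b0afaeacabaaa9a7a6a5a4a3b7b6b4000000009f9d9c9a9998969594938b8a8988877775726e695da1a09e00000091908f8e8d85848382807f7e7c7b7976747371706f6d6c6b6a6261605f5e635854514f4e00000000000068676665645c5b5a595756005300000047423e3b39384c4b4a4948464544434140003d000034312f2e2b2928262524211f1e1c1b1a181716153736353332302d2c00272300000000131211100f0e000c0b0a0908060000070504030200 (8 * r)) 256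

/-- depth -/
def dep (r : ℕ) : ℕ := Nat.mod (Nat.shiftRight 0x60504030201010002030405060001020304050600030402020204050303050101010101040503030506040602020506040600000600000005040403030306020202060501010106050400000000050404030303060202020605010101060504030201060504000000060504030206050403060504060506050404030303020202020101010101020304010101000000000000030405020204050603050600060000000203040101010304050202040506030506000600000405030305020402020205040406010301010101050604060303060500020600000000060504030201000605040302010100020304050600 (8 * r)) 256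

theorem hA : ∀ i j, Am i j = cartanOf chevE8 8 i j :=
  H129.RootF.cE8

theorem chainOK : ChainOK Am chain :=
  H129.ChainF.ok H129.ChainF.i8 H129.ChainF.m8 (H129.ChainF.c8 <| H129.ChainF.c8 <| H129.ChainF.c8 <| H129.ChainF.c8 <| H129.ChainF.c8 <| H129.ChainF.c8 <| H129.ChainF.nil) (by decide +kernel)

theorem hd_eq : hd chain = Th := rfl

theorem word_eq : chain.map Prod.fst = word := rfl

theorem rootOK : RootOK chevE8 8 Th R prv dep :=
  H129.RootF.ok H129.RootF.t8 (H129.RootF.mc H129.RootF.r8 <| H129.RootF.mc H129.RootF.r8 <| H129.RootF.mc H129.RootF.r8 <| H129.RootF.mc H129.RootF.r8 <| H129.RootF.mc H129.RootF.r8 <| H129.RootF.mc H129.RootF.r8 <| H129.RootF.mc H129.RootF.r8 <| H129.RootF.mc H129.RootF.r8 <| H129.RootF.mc H129.RootF.r8 <| H129.RootF.mc H129.RootF.r8 <| H129.RootF.mc H129.RootF.r8 <| H129.RootF.mc H129.RootF.r8 <| H129.RootF.mc H129.RootF.r8 <| H129.RootF.mc H129.RootF.r8 <| H129.RootF.mc H129.RootF.r8 <| H129.RootF.mc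 H129.RootF.r8 <| H129.RootF.mc H129.RootF.r8 <| H129.RootF.mc H129.RootF.r8 <| H129.RootF.mc H129.RootF.r8 <| H129.RootF.mc H129.RootF.r8 <| H129.RootF.mc H129.RootF.r8 <| H129.RootF.mc H129.RootF.r8 <| H129.RootF.mc H129.RootF.r8 <| H129.RootF.mc H129.RootF.r8 <| H129.RootF.mc H129.RootF.r8 <| H129.RootF.mc H129.RootF.r8 <| H129.RootF.mc H129.RootF.r8 <| H129.RootF.mc H129.RootF.r8 <| H129.RootF.mc H129.RootF.r8 <| H129.RootF.mc H129.RootF.r8 <| H129.RootF.mc H129.RootF.r8 <| H129.RootF.mc H129.RootF.r8 <| H129.RootF.mc H129.RootF.r8 <| H129.RootF.mc H129.RootF.r8 <| H129.RootF.mc H129.RootF.r8 <| H129.RootF.mc H129.RootF.r8 <| H129.RootF.m0) (by decide +kernel)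

theorem word_ne : ∀ i ∈ word, i ≠ 0 := by decide

theorem Am_two : Am 0 2 = -1 := by decide +kernel

/-- a root with a positive coefficient of `α₁` and coefficient `0` of `α₃` is `α₁` -/
theorem sep : ∀ r : Fin chevE8.nroots, 0 < rt chevE8 r 0 → rt chevE8 r 2 = 0 → ∀ i : Fin 8, i ≠ 0 → rt chevE8 r i = 0 := by
  decide +kernel

/-- the values of the functional on the simple roots -/
def cf (q : ℤ) : Fin 8 → ℤ := ![0, -1 + q ^ (6:ℕ), q + q ^ (2:ℕ) + q ^ (3:ℕ) + q ^ (4:ℕ) + q ^ (5:ℕ), 1 - q, q - q ^ (2:ℕ), q ^ (2:ℕ) - q ^ (3:ℕ), q ^ (3:ℕ) - q ^ (4:ℕ), q ^ (4:ℕ) - q ^ (5:ℕ)]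

/-- the functional -/
def Gf (q : ℤ) (x : Fin 8 → ℤ) : ℤ := ∑ i, x i * cf q i

theorem Gf_th (q : ℤ) : ∀ j, ∑ m, Th j m * cf q m = q * cf q j + if j = 1 then 1 - q ^ (7:ℕ) else 0 := by
  intro j
  (revert j; simp only [Th, cf, Fin.sum_univ_succ, _root_.Fin.forall_fin_succ, Int.reduceNeg, _root_.Matrix.cons_val', _root_.Matrix.cons_val_fin_one, Fin.isValue, _root_.Matrix.cons_val_zero, _root_.MulZeroClass.mul_zero, _root_.Matrix.cons_val_succ, _root_.Finset.univ_unique, _root_.Fin.default_eq_zero, _root_.Finset.sum_const, _root_.Finset.card_singleton, _root_.Int.nsmul_eq_mul, _root_.Nat.cast_one, _root_.one_mul, _root_.zero_add, _root_.MulZeroClass.zero_mul, _root_.add_zero, _root_.zero_ne_one, ↓reduceIte, _root_.Fin.succ_zero_eq_one, _root_.Fin.succ_one_eq_two, Fin.reduceEq, Fin.reduceSucc, _root_.neg_mul, _root_.neg_add_rev, _root_.neg_neg, _root_.neg_sub, _root_.sub_add_sub_cancel', _root_.add_add_sub_cancel, _root_.IsEmpty.forall_iff,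 _root_.and_true, _root_.true_and]) <;> (repeat' with_reducible apply And.intro) <;> ring

theorem G_0 (x : ℤ) : Gf x (R 0) = -3 - 3 * x - 3 * x ^ (2:ℕ) - 3 * x ^ (3:ℕ) - 3 * x ^ (4:ℕ) - 2 * x ^ (5:ℕ) - 3 * x ^ (6:ℕ) := by
  unfold Gf R cf
  simp only [Fin.sum_univ_succ, _root_.Int.reduceNeg, _root_.Fin.isValue, _root_.Matrix.cons_val', _root_.Matrix.cons_val_fin_one, _root_.Matrix.cons_val_zero, _root_.MulZeroClass.mul_zero, _root_.Matrix.cons_val_succ, _root_.neg_mul, _root_.Finset.univ_unique, _root_.Fin.default_eq_zero, _root_.Finset.sum_neg_distrib, _root_.Finset.sum_const, _root_.Finset.card_singleton, _root_.Int.nsmul_eq_mul, _root_.Nat.cast_one, _root_.one_mul, _root_.zero_add]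
  try ring

theorem bez_0 (x : ℤ) : (1 - x + 3 * x ^ (2:ℕ)) * (1 + x + x ^ (2:ℕ) + x ^ (3:ℕ) + x ^ (4:ℕ) + x ^ (5:ℕ) + x ^ (6:ℕ)) + (x ^ (2:ℕ)) * (-3 - 3 * x - 3 * x ^ (2:ℕ) - 3 * x ^ (3:ℕ) - 3 * x ^ (4:ℕ) - 2 * x ^ (5:ℕ) - 3 * x ^ (6:ℕ)) = 1 := by
  ring

theorem G_1 (x : ℤ) : Gf x (R 1) = -2 - 2 * x - 2 * x ^ (2:ℕ) - 2 * x ^ (3:ℕ) - 2 * x ^ (4:ℕ) - 2 * x ^ (5:ℕ) - 3 * x ^ (6:ℕ) := by
  unfold Gf R cf
  simp only [Fin.sum_univ_succ, _root_.Int.reduceNeg, _root_.Fin.isValue, _root_.Matrix.cons_val', _root_.Matrix.cons_val_fin_one, _root_.Matrix.cons_val_one, _root_.Matrix.cons_val_zero, _root_.MulZeroClass.mul_zero, _root_.Matrix.cons_val_succ, _root_.neg_mul, _root_.Finset.univ_unique, _root_.Fin.default_eq_zero, _root_.one_mul, _root_.neg_sub, _root_.Finset.sum_sub_distrib, _root_.Finset.sum_const, _root_.Finset.card_singleton, _root_.Int.nsmul_eq_mul, _root_.Nat.cast_one, _root_.zero_add]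
  try ring

theorem bez_1 (x : ℤ) : (1 - 3 * x) * (1 + x + x ^ (2:ℕ) + x ^ (3:ℕ) + x ^ (4:ℕ) + x ^ (5:ℕ) + x ^ (6:ℕ)) + (-x) * (-2 - 2 * x - 2 * x ^ (2:ℕ) - 2 * x ^ (3:ℕ) - 2 * x ^ (4:ℕ) - 2 * x ^ (5:ℕ) - 3 * x ^ (6:ℕ)) = 1 := by
  ring

theorem G_2 (x : ℤ) : Gf x (R 2) = -2 - 2 * x - 2 * x ^ (2:ℕ) - 2 * x ^ (3:ℕ) - 2 * x ^ (4:ℕ) - 2 * x ^ (5:ℕ) - 3 * x ^ (6:ℕ) := by
  unfold Gf R cf
  simp only [Fin.sum_univ_succ, _root_.Int.reduceNeg, _root_.Fin.isValue, _root_.Matrix.cons_val', _root_.Matrix.cons_val_fin_one, _root_.Matrix.cons_val, _root_.Matrix.cons_val_one, _root_.Matrix.cons_val_zero, _root_.MulZeroClass.mul_zero, _root_.Matrix.cons_val_succ, _root_.neg_mul, _root_.Finset.univ_unique, _root_.Fin.default_eq_zero, _root_.one_mul, _root_.neg_sub, _root_.Finset.sum_sub_distrib, _root_.Finset.sum_const, _root_.Finset.card_singleton, _root_.Int.nsmul_eq_mul, _root_.Nat.cast_one, _root_.zero_add]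
  try ring

theorem bez_2 (x : ℤ) : (1 - 3 * x) * (1 + x + x ^ (2:ℕ) + x ^ (3:ℕ) + x ^ (4:ℕ) + x ^ (5:ℕ) + x ^ (6:ℕ)) + (-x) * (-2 - 2 * x - 2 * x ^ (2:ℕ) - 2 * x ^ (3:ℕ) - 2 * x ^ (4:ℕ) - 2 * x ^ (5:ℕ) - 3 * x ^ (6:ℕ)) = 1 := by
  ring

theorem G_3 (x : ℤ) : Gf x (R 3) = -2 - 2 * x - x ^ (2:ℕ) - x ^ (3:ℕ) - x ^ (4:ℕ) - x ^ (5:ℕ) - 2 * x ^ (6:ℕ) := by
  unfold Gf R cf
  simp only [Fin.sum_univ_succ, _root_.Int.reduceNeg, _root_.Fin.isValue, _root_.Matrix.cons_val', _root_.Matrix.cons_val_fin_one, _root_.Matrix.cons_val, _root_.Matrix.cons_val_one, _root_.Matrix.cons_val_zero, _root_.MulZeroClass.mul_zero, _root_.Matrix.cons_val_succ, _root_.neg_mul, _root_.Finset.univ_unique, _root_.Fin.default_eq_zero, _root_.one_mul, _root_.neg_sub, _root_.Finset.sum_sub_distrib, _root_.Finset.sum_const, _root_.Finset.card_singleton, _root_.Int.nsmul_eq_mul, _root_.Nat.cast_one, _root_.zero_add]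
  try ring

theorem bez_3 (x : ℤ) : (1 - x + 2 * x ^ (2:ℕ) - x ^ (4:ℕ) + 2 * x ^ (5:ℕ)) * (1 + x + x ^ (2:ℕ) + x ^ (3:ℕ) + x ^ (4:ℕ) + x ^ (5:ℕ) + x ^ (6:ℕ)) + (x ^ (2:ℕ) + x ^ (5:ℕ)) * (-2 - 2 * x - x ^ (2:ℕ) - x ^ (3:ℕ) - x ^ (4:ℕ) - x ^ (5:ℕ) - 2 * x ^ (6:ℕ)) = 1 := by
  ring

theorem G_4 (x : ℤ) : Gf x (R 4) = -2 - x - 2 * x ^ (2:ℕ) - x ^ (3:ℕ) - x ^ (4:ℕ) - x ^ (5:ℕ) - 2 * x ^ (6:ℕ) := by
  unfold Gf R cf
  simp only [Fin.sum_univ_succ, _root_.Int.reduceNeg, _root_.Fin.isValue, _root_.Matrix.cons_val', _root_.Matrix.cons_val_fin_one, _root_.Matrix.cons_val, _root_.Matrix.cons_val_one, _root_.Matrix.cons_val_zero, _root_.MulZeroClass.mul_zero, _root_.Matrix.cons_val_succ, _root_.neg_mul, _root_.Finset.univ_unique, _root_.Fin.default_eq_zero, _root_.one_mul, _root_.neg_sub, _root_.Finset.sum_sub_distrib, _root_.Finset.sum_const, _root_.Finset.card_singleton, _root_.Int.nsmul_eq_mul, _root_.Nat.cast_one, _root_.zero_add]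
  try ring

theorem bez_4 (x : ℤ) : (-3 * x + x ^ (4:ℕ) - 2 * x ^ (5:ℕ)) * (1 + x + x ^ (2:ℕ) + x ^ (3:ℕ) + x ^ (4:ℕ) + x ^ (5:ℕ) + x ^ (6:ℕ)) + (-1 - x - x ^ (5:ℕ)) * (-2 - x - 2 * x ^ (2:ℕ) - x ^ (3:ℕ) - x ^ (4:ℕ) - x ^ (5:ℕ) - 2 * x ^ (6:ℕ)) = 2 := by
  ring

theorem G_5 (x : ℤ) : Gf x (R 5) = -2 - x - x ^ (2:ℕ) - 2 * x ^ (3:ℕ) - x ^ (4:ℕ) - x ^ (5:ℕ) - 2 * x ^ (6:ℕ) := by
  unfold Gf R cf
  simp only [Fin.sum_univ_succ, _root_.Int.reduceNeg, _root_.Fin.isValue, _root_.Matrix.cons_val', _root_.Matrix.cons_val_fin_one, _root_.Matrix.cons_val, _root_.Matrix.cons_val_one, _root_.Matrix.cons_val_zero, _root_.MulZeroClass.mul_zero, _root_.Matrix.cons_val_succ, _root_.neg_mul, _root_.Finset.univ_unique, _root_.Fin.default_eq_zero, _root_.one_mul, _root_.neg_sub, _root_.Finset.sum_sub_distrib, _root_.Finset.sum_const, _root_.Finset.card_singleton, _root_.Int.nsmul_eq_mul, _root_.Nat.cast_one, _root_.zero_add]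
  try ring

theorem bez_5 (x : ℤ) : (1 - x + 2 * x ^ (3:ℕ) - x ^ (4:ℕ) + 2 * x ^ (5:ℕ)) * (1 + x + x ^ (2:ℕ) + x ^ (3:ℕ) + x ^ (4:ℕ) + x ^ (5:ℕ) + x ^ (6:ℕ)) + (x ^ (3:ℕ) + x ^ (5:ℕ)) * (-2 - x - x ^ (2:ℕ) - 2 * x ^ (3:ℕ) - x ^ (4:ℕ) - x ^ (5:ℕ) - 2 * x ^ (6:ℕ)) = 1 := by
  ring

theorem G_6 (x : ℤ) : Gf x (R 6) = -2 - x - x ^ (2:ℕ) - x ^ (3:ℕ) - 2 * x ^ (4:ℕ) - x ^ (5:ℕ) - 2 * x ^ (6:ℕ) := by
  unfold Gf R cf
  simp only [Fin.sum_univ_succ, _root_.Int.reduceNeg, _root_.Fin.isValue, _root_.Matrix.cons_val', _root_.Matrix.cons_val_fin_one, _root_.Matrix.cons_val, _root_.Matrix.cons_val_one, _root_.Matrix.cons_val_zero, _root_.MulZeroClass.mul_zero, _root_.Matrix.cons_val_succ, _root_.neg_mul, _root_.one_mul, _root_.neg_sub, _root_.Finset.univ_unique, _root_.Fin.default_eq_zero, _root_.Finset.sum_sub_distrib, _root_.Finset.sum_const, _root_.Finset.card_singleton, _root_.Int.nsmul_eq_mul, _root_.Nat.cast_one, _root_.sub_add_sub_cancel', _root_.zero_add]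
  try ring

theorem bez_6 (x : ℤ) : (-3 * x + x ^ (2:ℕ) - 2 * x ^ (3:ℕ)) * (1 + x + x ^ (2:ℕ) + x ^ (3:ℕ) + x ^ (4:ℕ) + x ^ (5:ℕ) + x ^ (6:ℕ)) + (-1 - x - x ^ (3:ℕ)) * (-2 - x - x ^ (2:ℕ) - x ^ (3:ℕ) - 2 * x ^ (4:ℕ) - x ^ (5:ℕ) - 2 * x ^ (6:ℕ)) = 2 := by
  ring

theorem G_7 (x : ℤ) : Gf x (R 7) = -1 - 2 * x - x ^ (2:ℕ) - 2 * x ^ (3:ℕ) - x ^ (4:ℕ) - x ^ (5:ℕ) - 2 * x ^ (6:ℕ) := by
  unfold Gf R cf
  simp only [Fin.sum_univ_succ, _root_.Int.reduceNeg, _root_.Fin.isValue, _root_.Matrix.cons_val', _root_.Matrix.cons_val_fin_one, _root_.Matrix.cons_val, _root_.Matrix.cons_val_one, _root_.Matrix.cons_val_zero, _root_.MulZeroClass.mul_zero, _root_.Matrix.cons_val_succ, _root_.neg_mul, _root_.Finset.univ_unique, _root_.Fin.default_eq_zero, _root_.one_mul, _root_.neg_sub, _root_.Finset.sum_sub_distrib, _root_.Finset.sum_const, _root_.Finset.card_singleton, _root_.Int.nsmul_eq_mul, _root_.Nat.cast_one, _root_.zero_add]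
  try ring

theorem bez_7 (x : ℤ) : (1 - x + x ^ (2:ℕ) + 2 * x ^ (3:ℕ)) * (1 + x + x ^ (2:ℕ) + x ^ (3:ℕ) + x ^ (4:ℕ) + x ^ (5:ℕ) + x ^ (6:ℕ)) + (x ^ (2:ℕ) + x ^ (3:ℕ)) * (-1 - 2 * x - x ^ (2:ℕ) - 2 * x ^ (3:ℕ) - x ^ (4:ℕ) - x ^ (5:ℕ) - 2 * x ^ (6:ℕ)) = 1 := by
  ring

theorem G_8 (x : ℤ) : Gf x (R 8) = -1 - x - x ^ (2:ℕ) - x ^ (3:ℕ) - x ^ (6:ℕ) := by
  unfold Gf R cf
  simp only [Fin.sum_univ_succ, _root_.Int.reduceNeg, _root_.Fin.isValue, _root_.Matrix.cons_val', _root_.Matrix.cons_val_fin_one, _root_.Matrix.cons_val, _root_.Matrix.cons_val_one, _root_.Matrix.cons_val_zero, _root_.MulZeroClass.mul_zero, _root_.Matrix.cons_val_succ, _root_.neg_mul, _root_.one_mul, _root_.neg_add_rev, _root_.neg_neg, _root_.Finset.univ_unique, _root_.Fin.default_eq_zero, _root_.neg_sub, _root_.Finset.sum_sub_distrib, _root_.Finset.sum_const, _root_.Finset.card_singleton, _root_.Int.nsmul_eq_mul, _root_.Nat.cast_one, _root_.zero_add]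
  try ring

theorem bez_8 (x : ℤ) : (2 - x + x ^ (2:ℕ) + x ^ (3:ℕ) - x ^ (4:ℕ) + x ^ (5:ℕ)) * (1 + x + x ^ (2:ℕ) + x ^ (3:ℕ) + x ^ (4:ℕ) + x ^ (5:ℕ) + x ^ (6:ℕ)) + (1 + x ^ (2:ℕ) + x ^ (3:ℕ) + x ^ (5:ℕ)) * (-1 - x - x ^ (2:ℕ) - x ^ (3:ℕ) - x ^ (6:ℕ)) = 1 := by
  ring

theorem G_9 (x : ℤ) : Gf x (R 9) = -1 - x - x ^ (2:ℕ) - x ^ (4:ℕ) - x ^ (6:ℕ) := by
  unfold Gf R cf
  simp only [Fin.sum_univ_succ, _root_.Int.reduceNeg, _root_.Fin.isValue, _root_.Matrix.cons_val', _root_.Matrix.cons_val_fin_one, _root_.Matrix.cons_val, _root_.Matrix.cons_val_one, _root_.Matrix.cons_val_zero, _root_.MulZeroClass.mul_zero, _root_.Matrix.cons_val_succ, _root_.neg_mul, _root_.one_mul, _root_.neg_add_rev, _root_.neg_neg, _root_.neg_sub, _root_.Finset.univ_unique, _root_.Fin.default_eq_zero, _root_.Finset.sum_sub_distrib, _root_.Finset.sum_const, _root_.Finset.card_singleton, _root_.Int.nsmul_eq_mul, _root_.Nat.cast_one, _root_.sub_add_sub_cancel', _root_.zero_add]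
  try ring

theorem bez_9 (x : ℤ) : (1 + x ^ (2:ℕ) + x ^ (5:ℕ)) * (1 + x + x ^ (2:ℕ) + x ^ (3:ℕ) + x ^ (4:ℕ) + x ^ (5:ℕ) + x ^ (6:ℕ)) + (x + x ^ (2:ℕ) + x ^ (4:ℕ) + x ^ (5:ℕ)) * (-1 - x - x ^ (2:ℕ) - x ^ (4:ℕ) - x ^ (6:ℕ)) = 1 := by
  ring

theorem G_10 (x : ℤ) : Gf x (R 10) = -1 - x - x ^ (3:ℕ) - x ^ (4:ℕ) - x ^ (6:ℕ) := by
  unfold Gf R cf
  simp only [Fin.sum_univ_succ, _root_.Int.reduceNeg, _root_.Fin.isValue, _root_.Matrix.cons_val', _root_.Matrix.cons_val_fin_one, _root_.Matrix.cons_val, _root_.Matrix.cons_val_one, _root_.Matrix.cons_val_zero, _root_.MulZeroClass.mul_zero, _root_.Matrix.cons_val_succ, _root_.neg_mul, _root_.one_mul, _root_.neg_add_rev, _root_.neg_neg, _root_.neg_sub, _root_.Finset.univ_unique, _root_.Fin.default_eq_zero, _root_.Finset.sum_sub_distrib, _root_.Finset.sum_const, _root_.Finset.card_singleton, _root_.Int.nsmul_eq_mul, _root_.Nat.cast_one, _root_.sub_add_sub_cancel', _root_.zero_add]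
  try ring

theorem bez_10 (x : ℤ) : (1 - x + x ^ (2:ℕ) + x ^ (3:ℕ) + x ^ (5:ℕ)) * (1 + x + x ^ (2:ℕ) + x ^ (3:ℕ) + x ^ (4:ℕ) + x ^ (5:ℕ) + x ^ (6:ℕ)) + (x ^ (2:ℕ) + x ^ (3:ℕ) + x ^ (4:ℕ) + x ^ (5:ℕ)) * (-1 - x - x ^ (3:ℕ) - x ^ (4:ℕ) - x ^ (6:ℕ)) = 1 := by
  ring

theorem G_12 (x : ℤ) : Gf x (R 12) = -1 - x - x ^ (2:ℕ) - x ^ (3:ℕ) - x ^ (6:ℕ) := by
  unfold Gf R cf
  simp only [Fin.sum_univ_succ, _root_.Int.reduceNeg, _root_.Fin.isValue, _root_.Matrix.cons_val', _root_.Matrix.cons_val_fin_one, _root_.Matrix.cons_val, _root_.Matrix.cons_val_one, _root_.Matrix.cons_val_zero, _root_.MulZeroClass.mul_zero, _root_.Matrix.cons_val_succ, _root_.neg_mul, _root_.one_mul, _root_.neg_add_rev, _root_.neg_neg, _root_.Finset.univ_unique, _root_.Fin.default_eq_zero, _root_.neg_sub, _root_.Finset.sum_sub_distrib, _root_.Finset.sum_const, _root_.Finset.card_singleton, _root_.Int.nsmul_eq_mul, _root_.Nat.cast_one, _root_.zero_add]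
  try ring

theorem bez_12 (x : ℤ) : (2 - x + x ^ (2:ℕ) + x ^ (3:ℕ) - x ^ (4:ℕ) + x ^ (5:ℕ)) * (1 + x + x ^ (2:ℕ) + x ^ (3:ℕ) + x ^ (4:ℕ) + x ^ (5:ℕ) + x ^ (6:ℕ)) + (1 + x ^ (2:ℕ) + x ^ (3:ℕ) + x ^ (5:ℕ)) * (-1 - x - x ^ (2:ℕ) - x ^ (3:ℕ) - x ^ (6:ℕ)) = 1 := by
  ring

theorem G_13 (x : ℤ) : Gf x (R 13) = -1 - x - x ^ (2:ℕ) - x ^ (4:ℕ) - x ^ (6:ℕ) := by
  unfold Gf R cf
  simp only [Fin.sum_univ_succ, _root_.Int.reduceNeg, _root_.Fin.isValue, _root_.Matrix.cons_val', _root_.Matrix.cons_val_fin_one, _root_.Matrix.cons_val, _root_.Matrix.cons_val_one, _root_.Matrix.cons_val_zero, _root_.MulZeroClass.mul_zero, _root_.Matrix.cons_val_succ, _root_.neg_mul, _root_.one_mul, _root_.neg_add_rev, _root_.neg_neg, _root_.neg_sub, _root_.Finset.univ_unique, _root_.Fin.default_eq_zero, _root_.Finset.sum_sub_distrib, _root_.Finset.sum_const, _root_.Finset.card_singleton, _root_.Int.nsmul_eq_mul, _root_.Nat.cast_one, _root_.sub_add_sub_cancel', _root_.zero_add]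
  try ring

theorem bez_13 (x : ℤ) : (1 + x ^ (2:ℕ) + x ^ (5:ℕ)) * (1 + x + x ^ (2:ℕ) + x ^ (3:ℕ) + x ^ (4:ℕ) + x ^ (5:ℕ) + x ^ (6:ℕ)) + (x + x ^ (2:ℕ) + x ^ (4:ℕ) + x ^ (5:ℕ)) * (-1 - x - x ^ (2:ℕ) - x ^ (4:ℕ) - x ^ (6:ℕ)) = 1 := by
  ring

theorem G_14 (x : ℤ) : Gf x (R 14) = -1 - x - x ^ (3:ℕ) - x ^ (4:ℕ) - x ^ (6:ℕ) := by
  unfold Gf R cf
  simp only [Fin.sum_univ_succ, _root_.Int.reduceNeg, _root_.Fin.isValue, _root_.Matrix.cons_val', _root_.Matrix.cons_val_fin_one, _root_.Matrix.cons_val, _root_.Matrix.cons_val_one, _root_.Matrix.cons_val_zero, _root_.MulZeroClass.mul_zero, _root_.Matrix.cons_val_succ, _root_.neg_mul, _root_.one_mul, _root_.neg_add_rev, _root_.neg_neg, _root_.neg_sub, _root_.Finset.univ_unique, _root_.Fin.default_eq_zero, _root_.Finset.sum_sub_distrib, _root_.Finset.sum_const, _root_.Finset.card_singleton, _root_.Int.nsmul_eq_mul, _root_.Nat.cast_one, _root_.sub_add_sub_cancel', _root_.zero_add]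
  try ring

theorem bez_14 (x : ℤ) : (1 - x + x ^ (2:ℕ) + x ^ (3:ℕ) + x ^ (5:ℕ)) * (1 + x + x ^ (2:ℕ) + x ^ (3:ℕ) + x ^ (4:ℕ) + x ^ (5:ℕ) + x ^ (6:ℕ)) + (x ^ (2:ℕ) + x ^ (3:ℕ) + x ^ (4:ℕ) + x ^ (5:ℕ)) * (-1 - x - x ^ (3:ℕ) - x ^ (4:ℕ) - x ^ (6:ℕ)) = 1 := by
  ring

theorem G_15 (x : ℤ) : Gf x (R 15) = x ^ (5:ℕ) - x ^ (6:ℕ) := by
  unfold Gf R cf
  simp only [Fin.sum_univ_succ, _root_.Int.reduceNeg, _root_.Fin.isValue, _root_.Matrix.cons_val', _root_.Matrix.cons_val_fin_one, _root_.Matrix.cons_val, _root_.Matrix.cons_val_one, _root_.Matrix.cons_val_zero, _root_.MulZeroClass.mul_zero, _root_.Matrix.cons_val_succ, _root_.neg_mul, _root_.one_mul, _root_.neg_add_rev, _root_.neg_neg, _root_.MulZeroClass.zero_mul, _root_.neg_sub, _root_.Finset.univ_unique, _root_.Fin.default_eq_zero, _root_.Finset.sum_sub_distrib, _root_.Finset.sum_const, _root_.Finset.card_singleton, _root_.Int.nsmul_eq_mul, _root_.Nat.cast_one, _root_.sub_add_sub_cancel', _root_.zero_add,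 _root_.add_add_sub_cancel]
  try ring

theorem bez_15 (x : ℤ) : (7 - 7 * x + x ^ (5:ℕ)) * (1 + x + x ^ (2:ℕ) + x ^ (3:ℕ) + x ^ (4:ℕ) + x ^ (5:ℕ) + x ^ (6:ℕ)) + (-1 - 2 * x + 4 * x ^ (2:ℕ) + 3 * x ^ (3:ℕ) + 2 * x ^ (4:ℕ) + x ^ (5:ℕ)) * (x ^ (5:ℕ) - x ^ (6:ℕ)) = 7 := by
  ring

theorem G_16 (x : ℤ) : Gf x (R 16) = x ^ (4:ℕ) - x ^ (6:ℕ) := by
  unfold Gf R cf
  simp only [Fin.sum_univ_succ, _root_.Int.reduceNeg, _root_.Fin.isValue, _root_.Matrix.cons_val', _root_.Matrix.cons_val_fin_one, _root_.Matrix.cons_val, _root_.Matrix.cons_val_one, _root_.Matrix.cons_val_zero, _root_.MulZeroClass.mul_zero, _root_.Matrix.cons_val_succ, _root_.neg_mul, _root_.one_mul, _root_.neg_add_rev, _root_.neg_neg, _root_.MulZeroClass.zero_mul, _root_.neg_sub, _root_.Finset.univ_unique, _root_.Fin.default_eq_zero, _root_.Finset.sum_const_zero, _root_.add_zero, _root_.sub_add_sub_cancel', _root_.zero_add, _root_.add_add_sub_cancel]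
  try ring

theorem bez_16 (x : ℤ) : (7 - 7 * x - 3 * x ^ (4:ℕ) + 4 * x ^ (5:ℕ)) * (1 + x + x ^ (2:ℕ) + x ^ (3:ℕ) + x ^ (4:ℕ) + x ^ (5:ℕ) + x ^ (6:ℕ)) + (3 - x + 2 * x ^ (2:ℕ) + 5 * x ^ (3:ℕ) + x ^ (4:ℕ) + 4 * x ^ (5:ℕ)) * (x ^ (4:ℕ) - x ^ (6:ℕ)) = 7 := by
  ring

theorem G_17 (x : ℤ) : Gf x (R 17) = x ^ (3:ℕ) - x ^ (6:ℕ) := by
  unfold Gf R cf
  simp only [Fin.sum_univ_succ, _root_.Int.reduceNeg, _root_.Fin.isValue, _root_.Matrix.cons_val', _root_.Matrix.cons_val_fin_one, _root_.Matrix.cons_val, _root_.Matrix.cons_val_one, _root_.Matrix.cons_val_zero, _root_.MulZeroClass.mul_zero, _root_.Matrix.cons_val_succ, _root_.neg_mul, _root_.one_mul, _root_.neg_add_rev, _root_.neg_neg, _root_.MulZeroClass.zero_mul, _root_.neg_sub, _root_.Finset.univ_unique, _root_.Fin.default_eq_zero, _root_.Finset.sum_const_zero, _root_.add_zero, _root_.sub_add_sub_cancel', _root_.zero_add, _root_.add_add_sub_cancel]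
  try ring

theorem bez_17 (x : ℤ) : (7 - 7 * x - 2 * x ^ (3:ℕ) + 5 * x ^ (4:ℕ) - 2 * x ^ (5:ℕ)) * (1 + x + x ^ (2:ℕ) + x ^ (3:ℕ) + x ^ (4:ℕ) + x ^ (5:ℕ) + x ^ (6:ℕ)) + (2 - 3 * x - x ^ (2:ℕ) + x ^ (3:ℕ) + 3 * x ^ (4:ℕ) - 2 * x ^ (5:ℕ)) * (x ^ (3:ℕ) - x ^ (6:ℕ)) = 7 := by
  ring

theorem G_18 (x : ℤ) : Gf x (R 18) = x ^ (2:ℕ) - x ^ (6:ℕ) := by
  unfold Gf R cf
  simp only [Fin.sum_univ_succ, _root_.Int.reduceNeg, _root_.Fin.isValue, _root_.Matrix.cons_val', _root_.Matrix.cons_val_fin_one, _root_.Matrix.cons_val, _root_.Matrix.cons_val_one, _root_.Matrix.cons_val_zero, _root_.MulZeroClass.mul_zero, _root_.Matrix.cons_val_succ, _root_.neg_mul, _root_.one_mul, _root_.neg_add_rev, _root_.neg_neg, _root_.MulZeroClass.zero_mul, _root_.neg_sub, _root_.Finset.univ_unique, _root_.Fin.default_eq_zero, _root_.Finset.sum_const_zero, _root_.add_zero, _root_.sub_add_sub_cancel', _root_.zero_add, _root_.add_add_sub_cancel]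
  try ring

theorem bez_18 (x : ℤ) : (7 - 7 * x + 2 * x ^ (2:ℕ) + 2 * x ^ (3:ℕ) - 5 * x ^ (4:ℕ) + 2 * x ^ (5:ℕ)) * (1 + x + x ^ (2:ℕ) + x ^ (3:ℕ) + x ^ (4:ℕ) + x ^ (5:ℕ) + x ^ (6:ℕ)) + (-2 - 4 * x + x ^ (2:ℕ) - x ^ (3:ℕ) - 3 * x ^ (4:ℕ) + 2 * x ^ (5:ℕ)) * (x ^ (2:ℕ) - x ^ (6:ℕ)) = 7 := by
  ring

theorem G_19 (x : ℤ) : Gf x (R 19) = x - x ^ (6:ℕ) := by
  unfold Gf R cf
  simp only [Fin.sum_univ_succ, _root_.Int.reduceNeg, _root_.Fin.isValue, _root_.Matrix.cons_val', _root_.Matrix.cons_val_fin_one, _root_.Matrix.cons_val, _root_.Matrix.cons_val_one, _root_.Matrix.cons_val_zero, _root_.MulZeroClass.mul_zero, _root_.Matrix.cons_val_succ, _root_.neg_mul, _root_.one_mul, _root_.neg_add_rev, _root_.neg_neg, _root_.MulZeroClass.zero_mul, _root_.neg_sub, _root_.Finset.univ_unique, _root_.Fin.default_eq_zero, _root_.Finset.sum_const_zero, _root_.add_zero, _root_.zero_add, _root_.add_add_sub_cancel]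
  try ring

theorem bez_19 (x : ℤ) : (7 - 4 * x + 3 * x ^ (2:ℕ) - 4 * x ^ (3:ℕ) + 3 * x ^ (4:ℕ) - 4 * x ^ (5:ℕ)) * (1 + x + x ^ (2:ℕ) + x ^ (3:ℕ) + x ^ (4:ℕ) + x ^ (5:ℕ) + x ^ (6:ℕ)) + (-3 - 6 * x - 2 * x ^ (2:ℕ) - 5 * x ^ (3:ℕ) - x ^ (4:ℕ) - 4 * x ^ (5:ℕ)) * (x - x ^ (6:ℕ)) = 7 := by
  ring

theorem G_20 (x : ℤ) : Gf x (R 20) = 1 - x ^ (6:ℕ) := by
  unfold Gf R cf
  simp only [Fin.sum_univ_succ, _root_.Int.reduceNeg, _root_.Fin.isValue, _root_.Matrix.cons_val', _root_.Matrix.cons_val_fin_one, _root_.Matrix.cons_val, _root_.Matrix.cons_val_one, _root_.Matrix.cons_val_zero, _root_.MulZeroClass.mul_zero, _root_.Matrix.cons_val_succ, _root_.neg_mul, _root_.one_mul, _root_.neg_add_rev, _root_.neg_neg, _root_.MulZeroClass.zero_mul, _root_.Finset.univ_unique, _root_.Fin.default_eq_zero, _root_.Finset.sum_const_zero, _root_.add_zero, _root_.zero_add]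
  try ring

theorem bez_20 (x : ℤ) : (6 - x - x ^ (2:ℕ) - x ^ (3:ℕ) - x ^ (4:ℕ) - x ^ (5:ℕ)) * (1 + x + x ^ (2:ℕ) + x ^ (3:ℕ) + x ^ (4:ℕ) + x ^ (5:ℕ) + x ^ (6:ℕ)) + (1 - 5 * x - 4 * x ^ (2:ℕ) - 3 * x ^ (3:ℕ) - 2 * x ^ (4:ℕ) - x ^ (5:ℕ)) * (1 - x ^ (6:ℕ)) = 7 := by
  ring

theorem G_21 (x : ℤ) : Gf x (R 21) = x + x ^ (2:ℕ) + x ^ (3:ℕ) + x ^ (4:ℕ) + x ^ (5:ℕ) := by
  unfold Gf R cf
  simp only [Fin.sum_univ_succ, _root_.Int.reduceNeg, _root_.Fin.isValue, _root_.Matrix.cons_val', _root_.Matrix.cons_val_fin_one, _root_.Matrix.cons_val, _root_.Matrix.cons_val_one, _root_.Matrix.cons_val_zero, _root_.MulZeroClass.mul_zero, _root_.Matrix.cons_val_succ, _root_.MulZeroClass.zero_mul, _root_.one_mul, _root_.Finset.univ_unique, _root_.Fin.default_eq_zero, _root_.Finset.sum_const_zero, _root_.add_zero, _root_.zero_add]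
  try ring

theorem bez_21 (x : ℤ) : (1 + x ^ (2:ℕ) + x ^ (4:ℕ)) * (1 + x + x ^ (2:ℕ) + x ^ (3:ℕ) + x ^ (4:ℕ) + x ^ (5:ℕ) + x ^ (6:ℕ)) + (-1 - x - x ^ (3:ℕ) - x ^ (5:ℕ)) * (x + x ^ (2:ℕ) + x ^ (3:ℕ) + x ^ (4:ℕ) + x ^ (5:ℕ)) = 1 := by
  ring

theorem G_22 (x : ℤ) : Gf x (R 22) = 1 + x ^ (2:ℕ) + x ^ (3:ℕ) + x ^ (4:ℕ) + x ^ (5:ℕ) := by
  unfold Gf R cf
  simp only [Fin.sum_univ_succ, _root_.Int.reduceNeg, _root_.Fin.isValue, _root_.Matrix.cons_val', _root_.Matrix.cons_val_fin_one, _root_.Matrix.cons_val, _root_.Matrix.cons_val_one, _root_.Matrix.cons_val_zero, _root_.MulZeroClass.mul_zero, _root_.Matrix.cons_val_succ, _root_.MulZeroClass.zero_mul, _root_.one_mul, _root_.Finset.univ_unique, _root_.Fin.default_eq_zero, _root_.Finset.sum_const_zero, _root_.add_zero, _root_.zero_add]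
  try ring

theorem bez_22 (x : ℤ) : (-x ^ (2:ℕ) - x ^ (3:ℕ)) * (1 + x + x ^ (2:ℕ) + x ^ (3:ℕ) + x ^ (4:ℕ) + x ^ (5:ℕ) + x ^ (6:ℕ)) + (1 + x ^ (3:ℕ) + x ^ (4:ℕ)) * (1 + x ^ (2:ℕ) + x ^ (3:ℕ) + x ^ (4:ℕ) + x ^ (5:ℕ)) = 1 := by
  ring

theorem G_23 (x : ℤ) : Gf x (R 23) = 1 + x + x ^ (3:ℕ) + x ^ (4:ℕ) + x ^ (5:ℕ) := by
  unfold Gf R cf
  simp only [Fin.sum_univ_succ, _root_.Int.reduceNeg, _root_.Fin.isValue, _root_.Matrix.cons_val', _root_.Matrix.cons_val_fin_one, _root_.Matrix.cons_val, _root_.Matrix.cons_val_one, _root_.Matrix.cons_val_zero, _root_.MulZeroClass.mul_zero, _root_.Matrix.cons_val_succ, _root_.MulZeroClass.zero_mul, _root_.one_mul, _root_.Finset.univ_unique, _root_.Fin.default_eq_zero, _root_.Finset.sum_const_zero, _root_.add_zero, _root_.sub_add_sub_cancel, _root_.zero_add]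
  try ring

theorem bez_23 (x : ℤ) : (1 - x - x ^ (2:ℕ) - x ^ (3:ℕ)) * (1 + x + x ^ (2:ℕ) + x ^ (3:ℕ) + x ^ (4:ℕ) + x ^ (5:ℕ) + x ^ (6:ℕ)) + (x ^ (2:ℕ) + x ^ (3:ℕ) + x ^ (4:ℕ)) * (1 + x + x ^ (3:ℕ) + x ^ (4:ℕ) + x ^ (5:ℕ)) = 1 := by
  ring

theorem G_25 (x : ℤ) : Gf x (R 25) = x + x ^ (2:ℕ) + x ^ (3:ℕ) + x ^ (4:ℕ) + x ^ (5:ℕ) := by
  unfold Gf R cf
  simp only [Fin.sum_univ_succ, _root_.Int.reduceNeg, _root_.Fin.isValue, _root_.Matrix.cons_val', _root_.Matrix.cons_val_fin_one, _root_.Matrix.cons_val, _root_.Matrix.cons_val_one, _root_.Matrix.cons_val_zero, _root_.MulZeroClass.mul_zero, _root_.Matrix.cons_val_succ, _root_.MulZeroClass.zero_mul, _root_.one_mul, _root_.Finset.univ_unique, _root_.Fin.default_eq_zero, _root_.Finset.sum_const_zero, _root_.add_zero, _root_.zero_add]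
  try ring

theorem bez_25 (x : ℤ) : (1 + x ^ (2:ℕ) + x ^ (4:ℕ)) * (1 + x + x ^ (2:ℕ) + x ^ (3:ℕ) + x ^ (4:ℕ) + x ^ (5:ℕ) + x ^ (6:ℕ)) + (-1 - x - x ^ (3:ℕ) - x ^ (5:ℕ)) * (x + x ^ (2:ℕ) + x ^ (3:ℕ) + x ^ (4:ℕ) + x ^ (5:ℕ)) = 1 := by
  ring

theorem G_26 (x : ℤ) : Gf x (R 26) = 1 + x ^ (2:ℕ) + x ^ (3:ℕ) + x ^ (4:ℕ) + x ^ (5:ℕ) := by
  unfold Gf R cf
  simp only [Fin.sum_univ_succ, _root_.Int.reduceNeg, _root_.Fin.isValue, _root_.Matrix.cons_val', _root_.Matrix.cons_val_fin_one, _root_.Matrix.cons_val, _root_.Matrix.cons_val_one, _root_.Matrix.cons_val_zero, _root_.MulZeroClass.mul_zero, _root_.Matrix.cons_val_succ, _root_.MulZeroClass.zero_mul, _root_.one_mul, _root_.Finset.univ_unique, _root_.Fin.default_eq_zero, _root_.Finset.sum_const_zero, _root_.add_zero, _root_.zero_add]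
  try ring

theorem bez_26 (x : ℤ) : (-x ^ (2:ℕ) - x ^ (3:ℕ)) * (1 + x + x ^ (2:ℕ) + x ^ (3:ℕ) + x ^ (4:ℕ) + x ^ (5:ℕ) + x ^ (6:ℕ)) + (1 + x ^ (3:ℕ) + x ^ (4:ℕ)) * (1 + x ^ (2:ℕ) + x ^ (3:ℕ) + x ^ (4:ℕ) + x ^ (5:ℕ)) = 1 := by
  ring

theorem G_27 (x : ℤ) : Gf x (R 27) = 1 + x + x ^ (3:ℕ) + x ^ (4:ℕ) + x ^ (5:ℕ) := by
  unfold Gf R cf
  simp only [Fin.sum_univ_succ, _root_.Int.reduceNeg, _root_.Fin.isValue, _root_.Matrix.cons_val', _root_.Matrix.cons_val_fin_one, _root_.Matrix.cons_val, _root_.Matrix.cons_val_one, _root_.Matrix.cons_val_zero, _root_.MulZeroClass.mul_zero, _root_.Matrix.cons_val_succ, _root_.MulZeroClass.zero_mul, _root_.one_mul, _root_.Finset.univ_unique, _root_.Fin.default_eq_zero, _root_.Finset.sum_const_zero, _root_.add_zero, _root_.sub_add_sub_cancel, _root_.zero_add]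
  try ring

theorem bez_27 (x : ℤ) : (1 - x - x ^ (2:ℕ) - x ^ (3:ℕ)) * (1 + x + x ^ (2:ℕ) + x ^ (3:ℕ) + x ^ (4:ℕ) + x ^ (5:ℕ) + x ^ (6:ℕ)) + (x ^ (2:ℕ) + x ^ (3:ℕ) + x ^ (4:ℕ)) * (1 + x + x ^ (3:ℕ) + x ^ (4:ℕ) + x ^ (5:ℕ)) = 1 := by
  ring

theorem G_28 (x : ℤ) : Gf x (R 28) = 1 + x + x ^ (2:ℕ) + 2 * x ^ (3:ℕ) + 2 * x ^ (4:ℕ) + 2 * x ^ (5:ℕ) + x ^ (6:ℕ) := by
  unfold Gf R cf
  simp only [Fin.sum_univ_succ, _root_.Int.reduceNeg, _root_.Fin.isValue, _root_.Matrix.cons_val', _root_.Matrix.cons_val_fin_one, _root_.Matrix.cons_val, _root_.Matrix.cons_val_one, _root_.Matrix.cons_val_zero, _root_.MulZeroClass.mul_zero, _root_.Matrix.cons_val_succ, _root_.one_mul, _root_.MulZeroClass.zero_mul, _root_.Finset.univ_unique, _root_.Fin.default_eq_zero, _root_.Finset.sum_const_zero, _root_.add_zero, _root_.zero_add]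
  try ring

theorem bez_28 (x : ℤ) : (1 + x ^ (4:ℕ) + x ^ (5:ℕ)) * (1 + x + x ^ (2:ℕ) + x ^ (3:ℕ) + x ^ (4:ℕ) + x ^ (5:ℕ) + x ^ (6:ℕ)) + (-x - x ^ (5:ℕ)) * (1 + x + x ^ (2:ℕ) + 2 * x ^ (3:ℕ) + 2 * x ^ (4:ℕ) + 2 * x ^ (5:ℕ) + x ^ (6:ℕ)) = 1 := by
  ring

theorem G_29 (x : ℤ) : Gf x (R 29) = 1 + x + 2 * x ^ (2:ℕ) + x ^ (3:ℕ) + 2 * x ^ (4:ℕ) + 2 * x ^ (5:ℕ) + x ^ (6:ℕ) := by
  unfold Gf R cf
  simp only [Fin.sum_univ_succ, _root_.Int.reduceNeg, _root_.Fin.isValue, _root_.Matrix.cons_val', _root_.Matrix.cons_val_fin_one, _root_.Matrix.cons_val, _root_.Matrix.cons_val_one, _root_.Matrix.cons_val_zero, _root_.MulZeroClass.mul_zero, _root_.Matrix.cons_val_succ, _root_.one_mul, _root_.MulZeroClass.zero_mul, _root_.Finset.univ_unique, _root_.Fin.default_eq_zero, _root_.Finset.sum_const_zero, _root_.add_zero, _root_.sub_add_sub_cancel, _root_.zero_add]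
  try ring

theorem bez_29 (x : ℤ) : (2 - 2 * x - x ^ (2:ℕ) - x ^ (3:ℕ) - x ^ (4:ℕ) - x ^ (5:ℕ)) * (1 + x + x ^ (2:ℕ) + x ^ (3:ℕ) + x ^ (4:ℕ) + x ^ (5:ℕ) + x ^ (6:ℕ)) + (x ^ (2:ℕ) + x ^ (3:ℕ) + x ^ (5:ℕ)) * (1 + x + 2 * x ^ (2:ℕ) + x ^ (3:ℕ) + 2 * x ^ (4:ℕ) + 2 * x ^ (5:ℕ) + x ^ (6:ℕ)) = 2 := by
  ring

theorem G_30 (x : ℤ) : Gf x (R 30) = 1 + x + 2 * x ^ (2:ℕ) + 2 * x ^ (3:ℕ) + x ^ (4:ℕ) + 2 * x ^ (5:ℕ) + x ^ (6:ℕ) := by
  unfold Gf R cf
  simp only [Fin.sum_univ_succ, _root_.Int.reduceNeg, _root_.Fin.isValue, _root_.Matrix.cons_val', _root_.Matrix.cons_val_fin_one, _root_.Matrix.cons_val, _root_.Matrix.cons_val_one, _root_.Matrix.cons_val_zero, _root_.MulZeroClass.mul_zero, _root_.Matrix.cons_val_succ, _root_.one_mul, _root_.Finset.univ_unique, _root_.Fin.default_eq_zero, _root_.MulZeroClass.zero_mul, _root_.Finset.sum_const_zero, _root_.add_zero, _root_.sub_add_sub_cancel, _root_.zero_add]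
  try ring

theorem bez_30 (x : ℤ) : (2 - 2 * x - x ^ (2:ℕ) - 2 * x ^ (4:ℕ) - x ^ (5:ℕ)) * (1 + x + x ^ (2:ℕ) + x ^ (3:ℕ) + x ^ (4:ℕ) + x ^ (5:ℕ) + x ^ (6:ℕ)) + (x ^ (2:ℕ) + x ^ (4:ℕ) + x ^ (5:ℕ)) * (1 + x + 2 * x ^ (2:ℕ) + 2 * x ^ (3:ℕ) + x ^ (4:ℕ) + 2 * x ^ (5:ℕ) + x ^ (6:ℕ)) = 2 := by
  ring

theorem G_31 (x : ℤ) : Gf x (R 31) = 1 + 2 * x + x ^ (2:ℕ) + x ^ (3:ℕ) + 2 * x ^ (4:ℕ) + 2 * x ^ (5:ℕ) + x ^ (6:ℕ) := by
  unfold Gf R cf
  simp only [Fin.sum_univ_succ, _root_.Int.reduceNeg, _root_.Fin.isValue, _root_.Matrix.cons_val', _root_.Matrix.cons_val_fin_one, _root_.Matrix.cons_val, _root_.Matrix.cons_val_one, _root_.Matrix.cons_val_zero, _root_.MulZeroClass.mul_zero, _root_.Matrix.cons_val_succ, _root_.one_mul, _root_.MulZeroClass.zero_mul, _root_.Finset.univ_unique, _root_.Fin.default_eq_zero, _root_.Finset.sum_const_zero, _root_.add_zero, _root_.zero_add]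
  try ring

theorem bez_31 (x : ℤ) : (2 - x ^ (2:ℕ) + x ^ (4:ℕ) + x ^ (5:ℕ)) * (1 + x + x ^ (2:ℕ) + x ^ (3:ℕ) + x ^ (4:ℕ) + x ^ (5:ℕ) + x ^ (6:ℕ)) + (-1 - x ^ (5:ℕ)) * (1 + 2 * x + x ^ (2:ℕ) + x ^ (3:ℕ) + 2 * x ^ (4:ℕ) + 2 * x ^ (5:ℕ) + x ^ (6:ℕ)) = 1 := by
  ring

theorem G_32 (x : ℤ) : Gf x (R 32) = 1 + 2 * x + x ^ (2:ℕ) + 2 * x ^ (3:ℕ) + x ^ (4:ℕ) + 2 * x ^ (5:ℕ) + x ^ (6:ℕ) := by
  unfold Gf R cf
  simp only [Fin.sum_univ_succ, _root_.Int.reduceNeg, _root_.Fin.isValue, _root_.Matrix.cons_val', _root_.Matrix.cons_val_fin_one, _root_.Matrix.cons_val, _root_.Matrix.cons_val_one, _root_.Matrix.cons_val_zero, _root_.MulZeroClass.mul_zero, _root_.Matrix.cons_val_succ, _root_.one_mul, _root_.Finset.univ_unique, _root_.Fin.default_eq_zero, _root_.MulZeroClass.zero_mul, _root_.Finset.sum_const_zero, _root_.add_zero, _root_.sub_add_sub_cancel, _root_.zero_add]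
  try ring

theorem bez_32 (x : ℤ) : (2 + x) * (1 + x + x ^ (2:ℕ) + x ^ (3:ℕ) + x ^ (4:ℕ) + x ^ (5:ℕ) + x ^ (6:ℕ)) + (-1 - x) * (1 + 2 * x + x ^ (2:ℕ) + 2 * x ^ (3:ℕ) + x ^ (4:ℕ) + 2 * x ^ (5:ℕ) + x ^ (6:ℕ)) = 1 := by
  ring

theorem G_33 (x : ℤ) : Gf x (R 33) = 2 + 2 * x + 2 * x ^ (2:ℕ) + 2 * x ^ (3:ℕ) + 2 * x ^ (4:ℕ) + 3 * x ^ (5:ℕ) + 2 * x ^ (6:ℕ) := by
  unfold Gf R cf
  simp only [Fin.sum_univ_succ, _root_.Int.reduceNeg, _root_.Fin.isValue, _root_.Matrix.cons_val', _root_.Matrix.cons_val_fin_one, _root_.Matrix.cons_val, _root_.Matrix.cons_val_one, _root_.Matrix.cons_val_zero, _root_.MulZeroClass.mul_zero, _root_.Matrix.cons_val_succ, _root_.one_mul, _root_.Finset.univ_unique, _root_.Fin.default_eq_zero, _root_.MulZeroClass.zero_mul, _root_.Finset.sum_const_zero, _root_.add_zero, _root_.zero_add]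
  try ring

theorem bez_33 (x : ℤ) : (1 - x - 2 * x ^ (2:ℕ)) * (1 + x + x ^ (2:ℕ) + x ^ (3:ℕ) + x ^ (4:ℕ) + x ^ (5:ℕ) + x ^ (6:ℕ)) + (x ^ (2:ℕ)) * (2 + 2 * x + 2 * x ^ (2:ℕ) + 2 * x ^ (3:ℕ) + 2 * x ^ (4:ℕ) + 3 * x ^ (5:ℕ) + 2 * x ^ (6:ℕ)) = 1 := by
  ring

theorem G_34 (x : ℤ) : Gf x (R 34) = 2 + 2 * x + 2 * x ^ (2:ℕ) + 2 * x ^ (3:ℕ) + 2 * x ^ (4:ℕ) + 3 * x ^ (5:ℕ) + 2 * x ^ (6:ℕ) := by
  unfold Gf R cf
  simp only [Fin.sum_univ_succ, _root_.Int.reduceNeg, _root_.Fin.isValue, _root_.Matrix.cons_val', _root_.Matrix.cons_val_fin_one, _root_.Matrix.cons_val, _root_.Matrix.cons_val_one, _root_.Matrix.cons_val_zero, _root_.MulZeroClass.mul_zero, _root_.Matrix.cons_val_succ, _root_.one_mul, _root_.Finset.univ_unique, _root_.Fin.default_eq_zero, _root_.MulZeroClass.zero_mul, _root_.Finset.sum_const_zero, _root_.add_zero, _root_.zero_add]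
  try ring

theorem bez_34 (x : ℤ) : (1 - x - 2 * x ^ (2:ℕ)) * (1 + x + x ^ (2:ℕ) + x ^ (3:ℕ) + x ^ (4:ℕ) + x ^ (5:ℕ) + x ^ (6:ℕ)) + (x ^ (2:ℕ)) * (2 + 2 * x + 2 * x ^ (2:ℕ) + 2 * x ^ (3:ℕ) + 2 * x ^ (4:ℕ) + 3 * x ^ (5:ℕ) + 2 * x ^ (6:ℕ)) = 1 := by
  ring

theorem G_35 (x : ℤ) : Gf x (R 35) = 3 + 3 * x + 3 * x ^ (2:ℕ) + 3 * x ^ (3:ℕ) + 3 * x ^ (4:ℕ) + 3 * x ^ (5:ℕ) + 2 * x ^ (6:ℕ) := by
  unfold Gf R cf
  simp only [Fin.sum_univ_succ, _root_.Int.reduceNeg, _root_.Fin.isValue, _root_.Matrix.cons_val', _root_.Matrix.cons_val_fin_one, _root_.Matrix.cons_val, _root_.Matrix.cons_val_one, _root_.Matrix.cons_val_zero, _root_.MulZeroClass.mul_zero, _root_.Matrix.cons_val_succ, _root_.Finset.univ_unique, _root_.Fin.default_eq_zero, _root_.one_mul, _root_.Finset.sum_sub_distrib, _root_.Finset.sum_const, _root_.Finset.card_singleton, _root_.Int.nsmul_eq_mul, _root_.Nat.cast_one, _root_.zero_add]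
  try ring

theorem bez_35 (x : ℤ) : (1 + 2 * x) * (1 + x + x ^ (2:ℕ) + x ^ (3:ℕ) + x ^ (4:ℕ) + x ^ (5:ℕ) + x ^ (6:ℕ)) + (-x) * (3 + 3 * x + 3 * x ^ (2:ℕ) + 3 * x ^ (3:ℕ) + 3 * x ^ (4:ℕ) + 3 * x ^ (5:ℕ) + 2 * x ^ (6:ℕ)) = 1 := by
  ring

/-- the two fixed roots, common divisors of `Φ₇(x)` and the values of the functional at the other representatives -/
theorem dvd_of_G {x r : ℤ} (h : r ∣ 1 + x + x ^ (2:ℕ) + x ^ (3:ℕ) + x ^ (4:ℕ) + x ^ (5:ℕ) + x ^ (6:ℕ)) (s : Fin 36) :
    R s = ![1, 0, 0, 0, 0, 0, 0, 0] ∨ R s = ![-1, 0, 0, 0, 0, 0, 0, 0] ∨ (r ∣ Gf x (R s) → r ∣ 14) := by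
  have key : ∀ {a b g : ℤ} {y : ℤ}, a * (1 + x + x ^ (2:ℕ) + x ^ (3:ℕ) + x ^ (4:ℕ) + x ^ (5:ℕ) + x ^ (6:ℕ)) + b * g = y → y ∣ 14 → r ∣ g →
      r ∣ 14 := fun e h14 hg => by
    refine dvd_trans ?_ h14
    rw [← e]
    exact dvd_add (h.mul_left _) (hg.mul_left _)
  fin_cases s
  · exact Or.inr (Or.inr fun hs => key (bez_0 x) (by decide) (by rw [← G_0]; exact hs))
  · exact Or.inr (Or.inr fun hs => key (bez_1 x) (by decide) (by rw [← G_1]; exact hs))
  · exact Or.inr (Or.inr fun hs => key (bez_2 x) (by decide) (by rw [← G_2]; exact hs))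
  · exact Or.inr (Or.inr fun hs => key (bez_3 x) (by decide) (by rw [← G_3]; exact hs))
  · exact Or.inr (Or.inr fun hs => key (bez_4 x) (by decide) (by rw [← G_4]; exact hs))
  · exact Or.inr (Or.inr fun hs => key (bez_5 x) (by decide) (by rw [← G_5]; exact hs))
  · exact Or.inr (Or.inr fun hs => key (bez_6 x) (by decide) (by rw [← G_6]; exact hs))
  · exact Or.inr (Or.inr fun hs => key (bez_7 x) (by decide) (by rw [← G_7]; exact hs))
  · exact Or.inr (Or.inr fun hs => key (bez_8 x) (by decide) (by rw [← G_8]; exact hs))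
  · exact Or.inr (Or.inr fun hs => key (bez_9 x) (by decide) (by rw [← G_9]; exact hs))
  · exact Or.inr (Or.inr fun hs => key (bez_10 x) (by decide) (by rw [← G_10]; exact hs))
  · exact Or.inr (Or.inl rfl)
  · exact Or.inr (Or.inr fun hs => key (bez_12 x) (by decide) (by rw [← G_12]; exact hs))
  · exact Or.inr (Or.inr fun hs => key (bez_13 x) (by decide) (by rw [← G_13]; exact hs))
  · exact Or.inr (Or.inr fun hs => key (bez_14 x) (by decide) (by rw [← G_14]; exact hs))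
  · exact Or.inr (Or.inr fun hs => key (bez_15 x) (by decide) (by rw [← G_15]; exact hs))
  · exact Or.inr (Or.inr fun hs => key (bez_16 x) (by decide) (by rw [← G_16]; exact hs))
  · exact Or.inr (Or.inr fun hs => key (bez_17 x) (by decide) (by rw [← G_17]; exact hs))
  · exact Or.inr (Or.inr fun hs => key (bez_18 x) (by decide) (by rw [← G_18]; exact hs))
  · exact Or.inr (Or.inr fun hs => key (bez_19 x) (by decide) (by rw [← G_19]; exact hs))
  · exact Or.inr (Or.inr fun hs => key (bez_20 x) (by decide) (by rw [← G_20]; exact hs))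
  · exact Or.inr (Or.inr fun hs => key (bez_21 x) (by decide) (by rw [← G_21]; exact hs))
  · exact Or.inr (Or.inr fun hs => key (bez_22 x) (by decide) (by rw [← G_22]; exact hs))
  · exact Or.inr (Or.inr fun hs => key (bez_23 x) (by decide) (by rw [← G_23]; exact hs))
  · exact Or.inl rfl
  · exact Or.inr (Or.inr fun hs => key (bez_25 x) (by decide) (by rw [← G_25]; exact hs))
  · exact Or.inr (Or.inr fun hs => key (bez_26 x) (by decide) (by rw [← G_26]; exact hs))
  · exact Or.inr (Or.inr fun hs => key (bez_27 x) (by decide) (by rw [← G_27]; exact hs))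
  · exact Or.inr (Or.inr fun hs => key (bez_28 x) (by decide) (by rw [← G_28]; exact hs))
  · exact Or.inr (Or.inr fun hs => key (bez_29 x) (by decide) (by rw [← G_29]; exact hs))
  · exact Or.inr (Or.inr fun hs => key (bez_30 x) (by decide) (by rw [← G_30]; exact hs))
  · exact Or.inr (Or.inr fun hs => key (bez_31 x) (by decide) (by rw [← G_31]; exact hs))
  · exact Or.inr (Or.inr fun hs => key (bez_32 x) (by decide) (by rw [← G_32]; exact hs))
  · exact Or.inr (Or.inr fun hs => key (bez_33 x) (by decide) (by rw [← G_33]; exact hs))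
  · exact Or.inr (Or.inr fun hs => key (bez_34 x) (by decide) (by rw [← G_34]; exact hs))
  · exact Or.inr (Or.inr fun hs => key (bez_35 x) (by decide) (by rw [← G_35]; exact hs))

end Cfsg.Agent.H448.Van.DataE8s

private theorem dce_fdfac8da9e45 : _root_.True := by
  try have : _root_.True := by simp only [_root_.Cfsg.Agent.H448.Van.DataE8s.cf.eq_1]
  try have : _root_.True := by simp only [_root_.Cfsg.Agent.H448.Van.DataE8s.Th.eq_1]
  exact _root_.True.intro
end

-- part: H128/OZ/PlusEven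
section
prune_inst 0x4f02055017d80020000040082430022a17d00049000408000e1060a060309c020c902a8000a800118100280001000000811000030420000000a00040000010120808252043300010c06008f800084000000000000000000000000000000000000000000000
set_option linter.all false
open scoped Cfsg.Agent.FastGrp

/-!
# S4842: `POmega⁺_{2n}`, `n` even, `n ≥ 6`

* `isoP'` : a prime dividing `q ^ k - 1`, `k ≥ 5` odd, and no `q ^ i - 1`, `i < k`, is isolated in dimension `2k` and `2k + 2`;
* `end_plus_even` : the arithmetic;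
* `row_plus_even_of` : the row from the two congruences of the primes of order `2(n-2)` (constancy on `z Ω₄⁻`) and `n`.
-/

set_option autoImplicit false

namespace Cfsg.Agent.H128.OZ

open Module QuadraticMap Cfsg Subgroup
open Cfsg.Agent.LieClassical.OrthCore Cfsg.Agent.LieClassical.OrthTrans Cfsg.Agent.H890.SpParity
open Cfsg.Agent.LieClassical.OrthFinite Cfsg.Agent.LieClassical.OrthForms
open Cfsg.Agent.H182.Sign Cfsg.Agent.H182.Orth Cfsg.Agent.H530.CJ Cfsg.Agent.H93.CJ Cfsg.Agent.H93.PReg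
open Cfsg.Agent.H730.OZ Cfsg.Agent.H530.OZ Cfsg.Agent.Nodes.RGDChev

universe u

section num

theorem num1' {k : ℕ} (hk : 5 ≤ k) : 2 * k + 4 < 2 ^ k := by
  induction k, hk using Nat.le_induction with
  | base => norm_num
  | succ k hk ih => rw [pow_succ]; omega

theorem num3' {k : ℕ} (hk : 5 ≤ k) : 8 * k + 13 < 3 ^ k := by
  induction k, hk using Nat.le_induction with
  | base => norm_num
  | succ k hk ih => rw [pow_succ]; omega

theorem numP' {q k j r : ℕ} (hq : 2 ≤ q) (hk : 5 ≤ k) (hj : j = 0 ∨ j = 1) (hr : r.Prime)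
    (hle : r ≤ 2 * (k + j) + 1) (h4 : q ^ k - 1 ∣ 4 * r) : False := by
  have hr0 : 0 < r := hr.pos
  have hq2 : 2 ^ k ≤ q ^ k := Nat.pow_le_pow_left hq k
  have h1 := num1' hk
  rcases Nat.even_or_odd q with he | ho
  · have h5 : q ^ k - 1 ∣ r := by
      refine Nat.Coprime.dvd_of_dvd_mul_left (m := 4) ?_ h4
      refine Nat.Coprime.pow_right (m := 2) 2 ?_
      rw [Nat.coprime_two_right]
      exact Nat.Even.sub_odd (by omega) (he.pow_of_ne_zero (by omega)) odd_one
    have h6 := Nat.le_of_dvd hr0 h5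
    omega
  · have hq3 : 3 ≤ q := by
      rcases ho with ⟨m, hm⟩
      omega
    have h7 : 3 ^ k ≤ q ^ k := Nat.pow_le_pow_left hq3 k
    have := num3' hk
    have := Nat.le_of_dvd (by omega) h4
    omega

end num

/-- **Primes dividing `q ^ k - 1`, `k` odd, dimension `2k` or `2k + 2`.** -/
theorem isoP' {F : Type} [Field F] [Fintype F] {p : ℕ} [Fact p.Prime] [CharP F p] {k : ℕ} {P : Type} [AddCommGroup P]
    [Module F P] [Finite P] {Q' : QuadraticForm F P} {j : ℕ} {δ : ℤ} (hQ' : Sg Q' j δ) (hj : j = 0 ∨ j = 1)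
    (hk : 5 ≤ k) (hodd : Odd k) {ι : Type} [Fintype ι] [DecidableEq ι] {R : QuadraticForm F (ι → F)}
    (hR : Sg R (k + j) (1 * δ)) {S : Type*} [Group S] (i : POmega F ⇑R ≃* S) {r : ℕ} (hr : r.Prime)
    (hr1 : r ∣ Fintype.card F ^ k - 1) (hr2 : ∀ i : ℕ, 0 < i → i < k → ¬ r ∣ Fintype.card F ^ i - 1) :
    IsoAt p r S := by
  obtain ⟨K, _, _, b, hKf, y, hK, hy⟩ := Singer.exists_ext F k (by omega)
  have hrk : Module.finrank F K = k := by rw [Module.finrank_eq_card_basis b, Fintype.card_fin]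
  have hQ := sg_tq F K hrk
  obtain ⟨hG, π, hπ, hker⟩ := exists_pi' (hQ.prod hQ') (by omega) hR i
  have hcF : Nat.card F = Fintype.card F := Nat.card_eq_fintype_card
  have hF : 2 ≤ Fintype.card F := Fintype.one_lt_card
  have hFk : 2 ^ k ≤ Fintype.card F ^ k := Nat.pow_le_pow_left hF k
  have h2k := num1' hk
  obtain ⟨s, hs⟩ := hr1
  have hs0 : s ≠ 0 := by
    rintro rfl
    omega
  set lam : Kˣ := y ^ s with hlam
  have hlamo : orderOf (lam : K) = r := by
    rw [orderOf_units, hlam, orderOf_pow_of_dvd hs0 (by rw [hy, hs]; exact Dvd.intro_left r rfl), hy, hs,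
      Nat.mul_div_cancel _ (Nat.pos_of_ne_zero hs0)]
  have hr2' : r ≠ 2 := by
    rintro rfl
    rcases Nat.even_or_odd (Fintype.card F) with h | h
    · have h1 : Odd (Fintype.card F ^ k - 1) := Nat.Even.sub_odd (by omega) (h.pow_of_ne_zero (by omega)) odd_one
      rw [hs] at h1
      exact (Nat.not_odd_iff_even.2 (even_two_mul s)) h1
    · have h1 := hr2 1 one_pos (by omega)
      rw [pow_one] at h1
      exact h1 (Nat.Odd.sub_odd h odd_one).two_dvd
  have hT := torU_plus (F := F) (r := r) (lam := lam) (by omega) (tor_of_odd hr hr2' lam.ne_zero hlamo (by rwa [hrk]) (by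
    intro i hi hi2
    rw [hcF]
    rw [hrk] at hi2
    exact hr2 i hi hi2)) hlamo
  have hr2'' : Odd r := hr.odd_of_ne_two hr2'
  have hPd : finrank F P = 2 * j := hQ'.dim
  refine iso_orth (p := p) hr hT (hQ.prod hQ').nondeg (by rw [hPd]; (clear * - hj; omega)) ?_ ?_ ?_
    (mem_of_odd hG hT.memO hr2'' hT.pow_eq) π hπ hker ?_
  · rw [hcF]
    intro h1
    have h3 : Fintype.card F ^ k = r * s + 1 := by (clear * - hFk h2k hs; omega)
    have h2 : r ∣ 1 := (Nat.dvd_add_right (Dvd.intro s rfl)).1 (h3 ▸ Dvd.dvd.pow h1 (by omega))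
    exact hr.one_lt.ne' (Nat.dvd_one.1 h2)
  · rw [hcF]
    have h1 := hr2 1 one_pos (by omega)
    rwa [pow_one] at h1
  · rw [hcF]
    exact hr2 2 two_pos (by omega)
  · rintro ⟨h1, h2⟩
    have h3 := h1 ⟨zz P (dw y ^ 2), sq_mem hG (dw_mem_O y)⟩ (by
      apply Subtype.ext
      show zz P (dw lam) * zz P (dw y ^ 2) = zz P (dw y ^ 2) * zz P (dw lam)
      refine LinearEquiv.ext fun v => Prod.ext ?_ rfl
      show (dw lam : (K × K) ≃ₗ[F] (K × K)) ((dw y ^ 2 : (K × K) ≃ₗ[F] (K × K)) v.1) =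
        (dw y ^ 2 : (K × K) ≃ₗ[F] (K × K)) ((dw lam : (K × K) ≃ₗ[F] (K × K)) v.1)
      rw [dw_pow, dw_apply, dw_apply, dw_apply, dw_apply]
      refine Prod.ext ?_ ?_
      · show (lam : K) * (((y ^ 2 : Kˣ) : K) * v.1.1) = ((y ^ 2 : Kˣ) : K) * ((lam : K) * v.1.1)
        ring
      · show ((lam⁻¹ : Kˣ) : K) * ((((y ^ 2)⁻¹ : Kˣ) : K) * v.1.2) = (((y ^ 2)⁻¹ : Kˣ) : K) * (((lam⁻¹ : Kˣ) : K) * v.1.2)
        ring)
    have hnt' : Nontrivial ((K × K) × P) := inferInstance
    obtain ⟨a, ha2, ha, -⟩ := scal hker (hQ.prod hQ').nondeg hnt' _ h3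
    have h4 : ((y ^ (2 * r) : Kˣ) : K) = a • (1 : K) := by
      have h5 := ha (1, 0)
      rw [← pow_mul, dw_pow, dw_apply] at h5
      have h6 := congrArg Prod.fst h5
      rw [mul_one] at h6
      exact h6
    refine numP' hF hk hj hr ?_ ?_
    · rw [finrank_prod, hPd, hQ.dim] at h2
      omega
    · rw [← hy]
      apply orderOf_dvd_of_pow_eq_one
      apply Units.ext
      rw [show 4 * r = 2 * r * 2 by ring, pow_mul, Units.val_pow_eq_pow_val, h4, smul_pow, one_pow, pow_two, ha2,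
        one_smul, Units.val_one]

/-- `e = 1`, shifted -/
theorem pos_shift {p n r : ℕ} (h : Prim p n r) (hp : 1 ≤ p) {m k : ℕ} (hk : k ≤ m)
    (hm : (r : ℤ) ∣ 1 * (p : ℤ) ^ m - (p : ℤ) ^ k) : n ∣ m - k := by
  rw [← h.iff]
  obtain ⟨s, rfl⟩ := Nat.exists_eq_add_of_le hk
  rw [Nat.add_sub_cancel_left]
  have h1 : 1 ≤ p ^ s := Nat.one_le_pow _ _ hp
  have h2 : 1 * (p : ℤ) ^ (k + s) - (p : ℤ) ^ k = (p : ℤ) ^ k * ((p ^ s - 1 : ℕ) : ℤ) := by
    rw [Nat.cast_sub h1]
    push_cast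
    ring
  rw [h2] at hm
  have h3 : r ∣ p ^ k * (p ^ s - 1) := by exact_mod_cast hm
  rcases h.prime.dvd_mul.1 h3 with h4 | h4
  · exact absurd h4 (h.not_dvd_pow k)
  · exact h4

/-- `POmega⁺`, `n ≥ 6` even: no exponents -/
theorem end_plus_even {f n m r₁ r₂ r₃ r₄ p : ℕ} (hp : 1 ≤ p) (hf : 0 < f) (hn : 6 ≤ n)
    (h1 : Prim p (2 * (n - 1) * f) r₁) (h2 : Prim p ((n - 1) * f) r₂) (h3 : Prim p (2 * (n - 2) * f) r₃)
    (h4 : Prim p (n * f) r₄) (e : ℤ) (he : e = 1 ∨ e = -1) (hm : 0 < m) (hm' : m < 2 * (f * (n * (n - 1))))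
    (c1 : (r₁ : ℤ) ∣ e * (p : ℤ) ^ m - (p : ℤ) ^ 0) (c2 : (r₂ : ℤ) ∣ e * (p : ℤ) ^ m - (p : ℤ) ^ 0)
    (c3 : (r₃ : ℤ) ∣ e * (p : ℤ) ^ m - (p : ℤ) ^ (4 * f)) (c4 : (r₄ : ℤ) ∣ e * (p : ℤ) ^ m - (p : ℤ) ^ 0) : False := by
  obtain ⟨k, rfl⟩ : ∃ k, n = k + 2 := ⟨n - 2, by omega⟩
  rw [show k + 2 - 1 = k + 1 by omega, show k + 2 - 2 = k by omega] at *
  rcases he with rfl | rfl
  · have d1 := h1.pos hp c1
    obtain ⟨y, rfl⟩ := d1
    have hy0 : 0 < y := Nat.pos_of_ne_zero (by rintro rfl; omega)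
    have hylt : y < k + 2 := by
      by_contra hcon
      push Not at hcon
      have h5 : 2 * (k + 1) * f * (k + 2) ≤ 2 * (k + 1) * f * y := Nat.mul_le_mul_left _ hcon
      have h6 : 2 * (f * ((k + 2) * (k + 1))) = 2 * (k + 1) * f * (k + 2) := by ring
      omega
    have hle : 4 * f ≤ 2 * (k + 1) * f * y := by
      have h5 : 2 * (k + 1) * f * 1 ≤ 2 * (k + 1) * f * y := Nat.mul_le_mul_left _ hy0
      have h6 : 4 * f ≤ 2 * (k + 1) * f := Nat.mul_le_mul_right _ (by omega)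
      omega
    have d3 := pos_shift h3 hp hle c3
    -- `(k + 1) y ≡ 2 (mod k)`
    have d3' : k ∣ (k + 1) * y - 2 := by
      apply Nat.dvd_of_mul_dvd_mul_left (k := 2 * f) (by omega)
      have h5 : 2 * f * ((k + 1) * y - 2) = 2 * (k + 1) * f * y - 4 * f := by
        rw [Nat.mul_sub]
        congr 1
        · ring
        · ring
      rw [h5, show 2 * f * k = 2 * k * f by ring]
      exact d3
    have hy2 : y = 2 := by
      obtain ⟨z, hz⟩ := d3'
      have h5 : 2 ≤ (k + 1) * y := by nlinarith only [hf, hle]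
      have h6 : (k + 1) * y = k * z + 2 := by omega
      -- `y - 2 = k (z - y)`
      by_contra hne
      rcases Nat.lt_or_ge y 2 with hlt | hge
      · have hy1 : y = 1 := by omega
        subst hy1
        have h7 : k * z + 1 = k := by omega
        rcases Nat.eq_zero_or_pos z with rfl | hz0
        · omega
        · have : k * 1 ≤ k * z := Nat.mul_le_mul_left _ hz0
          omega
      · obtain ⟨w, rfl⟩ := Nat.exists_eq_add_of_le hge
        have h7 : k * (2 + w) + w = k * z := by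
          have : (k + 1) * (2 + w) = k * (2 + w) + (2 + w) := by ring
          omega
        have h8 : k ∣ w := (Nat.dvd_add_right (Dvd.intro _ rfl)).1 ⟨z, h7⟩
        have h9 := Nat.le_of_dvd (by omega) h8
        omega
    subst hy2
    have d4 := h4.pos hp c4
    have h5 : (k + 2) ∣ 4 * (k + 1) := by
      apply Nat.dvd_of_mul_dvd_mul_left (k := f) hf
      rw [show f * (k + 2) = (k + 2) * f by ring, show f * (4 * (k + 1)) = 2 * (k + 1) * f * 2 by ring]
      exact d4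
    have h6 : Nat.Coprime (k + 2) (k + 1) := by
      rw [show k + 2 = (k + 1) + 1 by ring]
      simp
    have h7 : (k + 2) ∣ 4 := h6.dvd_of_dvd_mul_right h5
    have h8 := Nat.le_of_dvd (by norm_num) h7
    omega
  · have hk1 : 5 ≤ (k + 1) * f := (by omega : 5 ≤ k + 1).trans (Nat.le_mul_of_pos_right _ hf)
    have hn1 : 2 ≤ 2 * (k + 1) * f := by rw [mul_assoc]; omega
    obtain ⟨d1, -⟩ := h1.neg hn1 hp c1
    obtain ⟨-, d2⟩ := h2.neg (by omega) hp c2
    apply d2
    apply Nat.dvd_of_mul_dvd_mul_left (k := 2) (by omega)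
    rwa [show 2 * ((k + 1) * f) = 2 * (k + 1) * f by ring]

/-- **The row `POmega⁺_{2n}`, `n ≥ 6` even**, from the congruences for the primitive primes of order `2(n-2)` and `n` -/
theorem row_plus_even_of {S : Type u} [Group S] [Finite S] (hs : IsSimpleGroup S) {F : Type} [Field F] [Fintype F]
    {n : ℕ} (hn : 6 ≤ n) (heven : Even n) (h62 : ¬ (n = 6 ∧ Fintype.card F = 2)) (e : S ≃* POmega F (quadFormPlus n F))
    (hKC : ∀ (p f r : ℕ), p.Prime → Fintype.card F = p ^ f → Prim p (2 * (n - 2) * f) r → Cong p r (4 * f) S)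
    (hLOC : ∀ (p f r : ℕ), p.Prime → Fintype.card F = p ^ f → Prim p (n * f) r → Cong p r 0 S) : Cfsg.Agent.H730.OZ.Row S := by
  obtain ⟨p, hch⟩ := CharP.exists F
  obtain ⟨⟨f, hf⟩, hp, hcard⟩ := FiniteField.card F p
  simp only [PNat.mk_coe] at hcard
  have hpf : Fact p.Prime := ⟨hp⟩
  have hKS : Kaw p S := by
    refine Cfsg.Agent.H279.OZ.kaw_of_hasRGD hp ?_
    obtain ⟨k, rfl⟩ : ∃ k, n = k + 3 := ⟨n - 3, by omega⟩
    exact (Cfsg.Agent.Nodes.WittInst.hasRGD_PO_plus k).of_equiv e.symm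
  have hS0 := S0293.result hcard n (by omega)
  have hcS : Nat.card (POmega F (quadFormPlus n F)) = Nat.card S := (Nat.card_congr e.toEquiv).symm
  rw [hcS] at hS0
  have hfn : 0 < f * n := Nat.mul_pos hf (by omega)
  obtain ⟨ho1, ho2⟩ := order_facts hp hf (by omega : 4 ≤ n) (Nat.card_pos (α := S)).ne' (d := Nat.gcd 4 ((p ^ f) ^ n - 1))
    (w := (p ^ f) ^ n - 1) (fun h => not_dvd_pow_sub hp hfn (by rw [pow_mul]; exact h.trans (Nat.gcd_dvd_right _ _)))
    (fun h => not_dvd_pow_sub hp hfn (by rw [pow_mul]; exact h)) (by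
      have h4 : (p ^ f) ^ (2 * n) - 1 = ((p ^ f) ^ n + 1) * ((p ^ f) ^ n - 1) := by
        rw [mul_comm 2, pow_mul]
        have := Nat.sq_sub_sq ((p ^ f) ^ n) 1
        simpa only [_root_.one_pow] using this
      rw [h4]
      exact Dvd.intro_left _ rfl) hS0
  have i : POmega F ⇑(plusForm n F) ≃* S := by
    rw [coe_plusForm]
    exact e.symm
  have hR : Sg (plusForm n F) n 1 := sg_plusForm n
  have hn1f : 5 ≤ (n - 1) * f := (by omega : 5 ≤ n - 1).trans (Nat.le_mul_of_pos_right _ hf)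
  have hn2f : 4 ≤ (n - 2) * f := (by omega : 4 ≤ n - 2).trans (Nat.le_mul_of_pos_right _ hf)
  have hnf : 6 ≤ n * f := hn.trans (Nat.le_mul_of_pos_right _ hf)
  have hoddn : Odd (n - 1) := Nat.Even.sub_odd (by omega) heven odd_one
  -- the prime of order `n - 1`
  obtain ⟨r₂, hr₂⟩ := exists_prim (p := p) (n := (n - 1) * f) hp.two_le (by omega) (by
    rintro ⟨-, h6⟩
    have h7 : n - 1 ∣ 6 := ⟨f, h6.symm⟩
    have h8 : n - 1 ≤ 6 := Nat.le_of_dvd (by norm_num) h7
    have h9 : n - 1 = 5 ∨ n - 1 = 6 := by omega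
    rcases h9 with h9 | h9
    · rw [h9] at h7; exact absurd h7 (by norm_num)
    · rw [h9] at hoddn; exact absurd hoddn (by decide))
  have hc₂ : Cong p r₂ 0 S := by
    refine IsoAt.cong hp hr₂.prime hr₂.ne (isoP' (p := p) (k := n - 1) (sg_hypForm (F := F)) (Or.inr rfl) (by omega) hoddn ?_ i
      hr₂.prime ?_ ?_)
    · rw [show n - 1 + 1 = n by omega]
      simpa using hR
    · rw [hcard, ← pow_mul, hr₂.iff]
      exact ⟨1, by ring⟩
    · intro j hj hjn
      rw [hcard, ← pow_mul, hr₂.iff]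
      intro h1
      have h3 := Nat.le_of_dvd (Nat.mul_pos hf hj) h1
      have h4 : f * j < f * (n - 1) := Nat.mul_lt_mul_of_pos_left hjn hf
      have h5 : (n - 1) * f = f * (n - 1) := mul_comm _ _
      omega
  -- the prime of order `2 (n - 1)`
  obtain ⟨r₁, hr₁⟩ := exists_prim (p := p) (n := 2 * (n - 1) * f) hp.two_le (by rw [mul_assoc]; omega) (by
    rw [mul_assoc]; omega)
  have hc₁ : Cong p r₁ 0 S := by
    obtain ⟨h1, h2⟩ := hr₁.conds hf
    obtain ⟨L, _, _, _, Q', u, hQ', -, -⟩ := exists_torusM F (k := 1) one_ne_zero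
    refine IsoAt.cong hp hr₁.prime hr₁.ne (isoM (p := p) (k := n - 1) hQ' (Or.inr rfl) (by omega)
      (fun h => absurd h one_ne_zero) ?_ i hr₁.prime (by rw [hcard]; exact h1) (by rw [hcard]; exact h2))
    rw [show n - 1 + 1 = n by omega]
    simpa using hR
  -- the primes of order `2 (n - 2)` and `n`
  obtain ⟨r₃, hr₃⟩ := exists_prim (p := p) (n := 2 * (n - 2) * f) hp.two_le (by rw [mul_assoc]; omega) (by
    rw [mul_assoc]; omega)
  obtain ⟨r₄, hr₄⟩ := exists_prim (p := p) (n := n * f) hp.two_le (by omega) (by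
    rintro ⟨rfl, h6⟩
    have h7 : f = 1 := by
      have h8 : 6 * f ≤ n * f := Nat.mul_le_mul_right _ hn
      omega
    subst h7
    apply h62
    exact ⟨by omega, by rw [hcard]; norm_num⟩)
  refine Cfsg.Agent.H730.OZ.Row.of_none fun χ hχ => ?_
  refine none_of_cong hs hp ho1 (Nat.mul_pos hf (Nat.mul_pos (by omega) (by omega))).ne' hKS ho2 ?_ hχ
  intro m ε hε hm hm' hcong
  exact end_plus_even hp.one_le hf hn hr₁ hr₂ hr₃ hr₄ ε hε hm hm' (hcong r₁ 0 hc₁) (hcong r₂ 0 hc₂)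
    (hcong r₃ _ (hKC p f r₃ hp hcard hr₃)) (hcong r₄ 0 (hLOC p f r₄ hp hcard hr₄))

end Cfsg.Agent.H128.OZ
end

-- part: H556/OZ/LocPlus
section
prune_inst 0x4e0201400790010000000000240001e26da0004000048800048000a06068904200900a020a2800008100200040038000811000020420000000a000000011900800000100411000000020080800000000000000000000000000000000000000000000000000
set_option linter.all false
open scoped Cfsg.Agent.FastGrp

-- part: H5/OZ/LocTwo
section
/-!
# S4842: congruences from the defect groups (helper5)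

`cong_loc` : if no `p`-element `≠ 1` centralizes a Sylow `r`-subgroup, and every `r`-subgroup which is not Sylow misses
the `r`-parts of two classes, then `Cong p r 0 G`.
-/

set_option autoImplicit false

namespace Cfsg.Agent.H5.OZ

open Cfsg Cfsg.Agent.H730.OZ Cfsg.Agent.H732.VZ Cfsg.Agent.Blocks

universe u

variable {G : Type u} [Group G] [Finite G]

/-- the eigenvalue of the sum of the `p`-elements is `1` modulo `r` if no `p`-element centralizes a defect group -/
theorem dvd_of_defect {p r : ℕ} [Fact r.Prime] {M : Ideal AlgInt} (hM : IsPModular r M) (χ : IrrCharacter G)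
    {D : Subgroup G} (hD : IsDefectGroup r M (blockOf M (χ : G → ℂ)) D)
    (hC : ∀ u, u ∈ Subgroup.centralizer (D : Set G) → u ∈ pSet p G → u = 1) {m : ℕ} {e : ℤ}
    (hs : ∑ᶠ u ∈ pSet p G, (χ : G → ℂ) u = (e : ℂ) * (p : ℂ) ^ m * (χ : G → ℂ) 1) :
    (r : ℤ) ∣ e * (p : ℤ) ^ m - 1 := by
  classical
  have := Fintype.ofFinite G
  have := Fintype.ofFinite (ConjClasses G)
  have hMp : M.IsPrime := Local.isPrime_of_isPModular hM
  have h1 : (χ : G → ℂ) 1 ≠ 0 := Basic.irr_one_ne_zero χ.2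
  have hord : ∀ {g h : G}, IsConj g h → (g ∈ pSet p G ↔ h ∈ pSet p G) := by
    intro g h hgh
    have : orderOf g = orderOf h := H604.OZ.orderOf_eq_of_conj hgh
    change (∃ k, _) ↔ (∃ k, _)
    rw [this]
  have hloc : ∀ u ∈ pSet p G, u ≠ 1 → MemLocalIdeal M (centralChar (χ : G → ℂ) u) := by
    intro u hu hu1
    by_contra h
    obtain ⟨x, hx, hxC, -⟩ := S0929.result r M hM (blockOf M (χ : G → ℂ)) ⟨χ, rfl⟩ D hD u
      ⟨χ, Basic.mem_blockOf_self χ, h⟩
    have hx1 := hC x hxC ((hord hx).1 hu)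
    rw [hx1] at hx
    exact hu1 (isConj_one_right.1 hx.symm)
  let T : ConjClasses G → ℂ := fun c =>
    if Quotient.out c ∈ pSet p G then centralChar (χ : G → ℂ) (Quotient.out c) else 0
  have hsum : ∑ᶠ u ∈ pSet p G, (χ : G → ℂ) u = (∑ c, T c) * (χ : G → ℂ) 1 := by
    have e1 : ∑ᶠ u ∈ pSet p G, (χ : G → ℂ) u = ∑ g : G, if g ∈ pSet p G then (χ : G → ℂ) g else 0 := by
      rw [← finsum_eq_sum_of_fintype]
      refine finsum_congr fun g => ?_
      by_cases hg : g ∈ pSet p G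
      · simp [hg]
      · simp [hg]
    rw [e1, SecondMain.sum_eq_sum_classes, Finset.sum_mul]
    refine Finset.sum_congr rfl fun c _ => ?_
    have e2 : ∀ g ∈ Finset.univ.filter (fun g : G => IsConj (Quotient.out c) g),
        (if g ∈ pSet p G then (χ : G → ℂ) g else 0) =
          if Quotient.out c ∈ pSet p G then (χ : G → ℂ) (Quotient.out c) else 0 := by
      intro g hg
      have hg' := (Finset.mem_filter.1 hg).2
      obtain ⟨y, hy⟩ := isConj_iff.1 hg'
      have e3 : (χ : G → ℂ) g = (χ : G → ℂ) (Quotient.out c) := by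
        have := Basic.irr_conj χ.2 (Quotient.out c) y
        rwa [hy] at this
      rw [e3]
      simp only [hord hg']
    rw [Finset.sum_congr rfl e2, Finset.sum_const, nsmul_eq_mul]
    have h2 : (Finset.univ.filter (fun g : G => IsConj (Quotient.out c) g)).card =
        (Subgroup.centralizer ({Quotient.out c} : Set G)).index := by
      rw [Basic.index_centralizer_eq_ncard, Set.ncard_eq_toFinset_card']
      congr 1
      ext g
      simp only [_root_.isConj_iff, _root_.Finset.univ_filter_exists, _root_.Finset.mem_image, _root_.Finset.mem_univ, _root_.true_and, _root_.Set.toFinset_ofPred]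
    rw [h2]
    simp only [T]
    split_ifs
    · rw [Basic.centralChar_def]
      field_simp
    · rw [mul_zero, zero_mul]
  rw [hs] at hsum
  have h3 := mul_right_cancel₀ h1 hsum
  have h4 : Quotient.out (ConjClasses.mk (1 : G)) = 1 := by
    have : ConjClasses.mk (Quotient.out (ConjClasses.mk (1 : G))) = ConjClasses.mk 1 := Quotient.out_eq _
    rw [ConjClasses.mk_eq_mk_iff_isConj] at this
    exact isConj_one_right.1 this.symm
  have h5 : ∑ c, T c = 1 + ∑ c ∈ Finset.univ.erase (ConjClasses.mk (1 : G)), T c := by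
    rw [← Finset.add_sum_erase _ _ (Finset.mem_univ (ConjClasses.mk (1 : G)))]
    congr 1
    simp only [T]
    rw [h4, if_pos ⟨0, by rw [orderOf_one, pow_zero]⟩, Basic.centralChar_one h1]
  have h6 : MemLocalIdeal M (∑ c ∈ Finset.univ.erase (ConjClasses.mk (1 : G)), T c) := by
    refine Local.memLocalIdeal_sum fun c hc => ?_
    simp only [T]
    split_ifs with h
    · refine hloc _ h fun h7 => ?_
      rw [Finset.mem_erase] at hc
      apply hc.1
      have : ConjClasses.mk (Quotient.out c) = c := Quotient.out_eq _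
      rw [← this, h7]
    · exact Local.memLocalIdeal_zero
  have h7 : (((e * (p : ℤ) ^ m - 1 : ℤ)) : ℂ) = ∑ c ∈ Finset.univ.erase (ConjClasses.mk (1 : G)), T c := by
    push_cast
    rw [h3, h5]
    ring
  rw [← h7] at h6
  exact (Local.memLocalIdeal_intCast_iff hM _).1 h6

/-- **congruences from the defect groups** -/
theorem cong_loc {p r : ℕ} (hr : r.Prime)
    (hC : ∀ (R : Sylow r G) (u : G), u ∈ Subgroup.centralizer ((R : Subgroup G) : Set G) → u ∈ pSet p G → u = 1)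
    (hD : ∀ D : Subgroup G, IsPGroup r D → (∀ R : Sylow r G, (R : Subgroup G) ≠ D) →
      ∃ g g' y y' : G, IsPPart r g y ∧ IsPPart r g' y' ∧ ¬ IsConj g g' ∧ (∀ t : G, t * y * t⁻¹ ∉ D) ∧
        (∀ t : G, t * y' * t⁻¹ ∉ D)) : Cong p r 0 G := by
  intro χ hχ hO m e _ hs
  have hrf : Fact r.Prime := ⟨hr⟩
  obtain ⟨x, hx⟩ := (oneZero_iff hχ).1 hO
  obtain ⟨M, hM⟩ := ExistsModular.exists_isPModular hr
  have hMp : M.IsPrime := Local.isPrime_of_isPModular hM
  obtain ⟨D, hDd, hDp⟩ := S0931.exists_defectGroup r M hM (blockOf M χ) ⟨⟨χ, hχ⟩, rfl⟩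
  rw [pow_zero]
  by_cases hS : ∀ R : Sylow r G, (R : Subgroup G) ≠ D
  · exfalso
    obtain ⟨g, g', y, y', hy, hy', hne, h1, h2⟩ := hD D hDp hS
    have key : ∀ {g y : G}, IsPPart r g y → (∀ t : G, t * y * t⁻¹ ∉ D) → χ g = 0 := by
      intro g y hy h
      refine S0924.result r M hM ⟨χ, hχ⟩ g y hy fun D' hD' hyD' => ?_
      obtain ⟨c, hc, P, rfl⟩ := hD'
      obtain ⟨t, ht⟩ := (S0959.result r M hM (blockOf M χ) ⟨⟨χ, hχ⟩, rfl⟩ D hDd
        ((P : Subgroup (Subgroup.centralizer ({c} : Set G))).map (Subgroup.centralizer ({c} : Set G)).subtype)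
        (P.isPGroup'.map _)).1 ⟨c, hc.1, hc.2.1, c, IsConj.refl c, by
          rw [Subgroup.mem_centralizer_iff]
          rintro _ ⟨z, -, rfl⟩
          exact (Subgroup.mem_centralizer_singleton_iff.1 z.2)⟩
      exact h t (ht ⟨y, hyD', rfl⟩)
    exact hne ((hx.uniq g (key hy h1)).symm.trans (hx.uniq g' (key hy' h2)))
  · push Not at hS
    obtain ⟨R, hR⟩ := hS
    refine dvd_of_defect hM ⟨χ, hχ⟩ hDd (fun u hu hup => hC R u ?_ hup) hs
    rw [hR]
    exact hu

end Cfsg.Agent.H5.OZ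
end

-- part: H556/OZ/LocCover
section
/-!
# S4842: congruences from the defect groups over a central extension (helper556)

`cong_of_cover` : `π : H →* S` surjective with central kernel of exponent `c` prime to `p r`, `r ^ (2a)` the largest
possible power of `r` in `|S|`; two classes `X`, `Y` of elements of order `r ^ a` with `X ^ i ~ Y ^ j` only if they are trivial,
each centralizing a nontrivial `r'`-element, and no `p`-element centralizing two commuting elements of order `r`.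
Then `Cong p r 0 S`.
-/

set_option autoImplicit false

namespace Cfsg.Agent.H556.OZ

open Cfsg Subgroup Cfsg.Agent.H730.OZ

universe u

/-- two classes whose `r`-parts are the same element -/
theorem two_classes {G : Type u} [Group G] [Finite G] {r : ℕ} (hr : r.Prime) {D : Subgroup G} {A k : G} {a m : ℕ}
    (hA : orderOf A = r ^ a) (hAk : Commute A k) (hk1 : k ≠ 1) (hkm : k ^ m = 1) (hm : m.Coprime r)
    (hAD : ∀ t : G, t * A * t⁻¹ ∉ D) :
    ∃ g g' y y' : G, IsPPart r g y ∧ IsPPart r g' y' ∧ ¬ IsConj g g' ∧ (∀ t : G, t * y * t⁻¹ ∉ D) ∧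
      (∀ t : G, t * y' * t⁻¹ ∉ D) := by
  have hko : orderOf k ∣ m := orderOf_dvd_of_pow_eq_one hkm
  have hkr : (orderOf k).Coprime r := Nat.Coprime.coprime_dvd_left hko hm
  have hkr' : ¬ r ∣ orderOf k := fun h => by
    have := Nat.Coprime.eq_one_of_dvd (hkr.symm) h
    exact hr.one_lt.ne' this
  refine ⟨A, A * k, A, A, ⟨1, mul_one A, Commute.one_right A, ⟨a, hA⟩, ?_⟩, ⟨k, rfl, hAk, ⟨a, hA⟩, hkr'⟩, ?_, hAD, hAD⟩
  · rw [orderOf_one]
    exact fun h => hr.one_lt.ne' (Nat.dvd_one.1 h)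
  · intro h
    have h1 : orderOf A = orderOf (A * k) := H604.OZ.orderOf_eq_of_conj h
    rw [hAk.orderOf_mul_eq_mul_orderOf_of_coprime (by rw [hA]; exact (hkr.pow_right a).symm)] at h1
    have h2 : 0 < orderOf A := orderOf_pos A
    have h3 : orderOf k = 1 := by
      have : orderOf A * orderOf k = orderOf A * 1 := by rw [← h1, mul_one]
      exact Nat.eq_of_mul_eq_mul_left h2 this
    exact hk1 (orderOf_eq_one_iff.1 h3)

section cover

variable {H : Type*} {S : Type u} [Group H] [Finite H] [Group S] [Finite S] {π : H →* S} {p r c : ℕ}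

omit [Finite H] [Finite S] in
/-- the order of the image of an `r`-element -/
theorem orderOf_map_eq (hc : ∀ k ∈ π.ker, k ^ c = 1) (hcr : c.Coprime r) {z : H} {a : ℕ} (hz : orderOf z = r ^ a) :
    orderOf (π z) = r ^ a := by
  refine Nat.dvd_antisymm (hz ▸ orderOf_map_dvd π z) ?_
  have h1 : z ^ orderOf (π z) ∈ π.ker := by
    rw [MonoidHom.mem_ker, map_pow, pow_orderOf_eq_one]
  have h2 := hc _ h1
  rw [← pow_mul] at h2
  have h3 := orderOf_dvd_of_pow_eq_one h2
  rw [hz] at h3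
  exact (Nat.Coprime.pow_left a hcr.symm).dvd_of_dvd_mul_right h3

/-- **The congruence.** -/
theorem cong_of_cover (hπ : Function.Surjective π) (hr : r.Prime) (hp : p.Prime)
    (hcen : ∀ k ∈ π.ker, ∀ h : H, k * h = h * k)
    (hc : ∀ k ∈ π.ker, k ^ c = 1) (hcr : c.Coprime r) (hcp : c.Coprime p) {a : ℕ}
    (hfac : (Nat.card S).factorization r ≤ 2 * a)
    {l₁ l₂ : H} (hl₁ : orderOf l₁ = r) (hl₂ : orderOf l₂ = r) (hl : Commute l₁ l₂)
    (hC : ∀ x : H, Commute l₁ x → Commute l₂ x → ∀ j : ℕ, x ^ (p ^ j) = 1 → x = 1)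
    {X Y K₁ K₂ : H} (hX : orderOf X = r ^ a) (hY : orderOf Y = r ^ a)
    (hXY : ∀ i j : ℕ, IsConj (X ^ i) (Y ^ j) → X ^ i = 1)
    {m₁ m₂ : ℕ} (hXK : Commute X K₁) (hK₁ : K₁ ^ m₁ = 1) (hm₁ : m₁.Coprime r) (hπ₁ : π K₁ ≠ 1)
    (hYK : Commute Y K₂) (hK₂ : K₂ ^ m₂ = 1) (hm₂ : m₂.Coprime r) (hπ₂ : π K₂ ≠ 1) : Cong p r 0 S := by
  classical
  have hfr : Fact r.Prime := ⟨hr⟩
  have hXo := orderOf_map_eq hc hcr hX
  have hYo := orderOf_map_eq hc hcr hY
  refine H5.OZ.cong_loc hr ?_ ?_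
  · intro R u hu hup
    -- the commuting elements of order `r`
    have hP : IsPGroup r (Subgroup.closure ({π l₁, π l₂} : Set S)) := by
      have hcomm : ∀ x ∈ ({π l₁, π l₂} : Set S), ∀ y ∈ ({π l₁, π l₂} : Set S), x * y = y * x := by
        rintro x (rfl | rfl) y (rfl | rfl)
        · rfl
        · exact (hl.map π).eq
        · exact (hl.map π).eq.symm
        · rfl
      intro x
      have hx : ∀ x ∈ Subgroup.closure ({π l₁, π l₂} : Set S), x ^ r = 1 := by
        intro x hx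
        have hxy : ∀ x ∈ Subgroup.closure ({π l₁, π l₂} : Set S), ∀ y ∈ Subgroup.closure ({π l₁, π l₂} : Set S),
            Commute x y := by
          have h0 := Subgroup.isMulCommutative_closure hcomm
          intro x hx y hy
          exact congrArg Subtype.val (h0.is_comm.comm (⟨x, hx⟩ : Subgroup.closure ({π l₁, π l₂} : Set S)) ⟨y, hy⟩)
        induction hx using Subgroup.closure_induction with
        | mem x hx =>
          rcases hx with rfl | rfl
          · rw [← map_pow, ← hl₁, pow_orderOf_eq_one, map_one]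
          · rw [← map_pow, ← hl₂, pow_orderOf_eq_one, map_one]
        | one => exact one_pow r
        | mul x y hx hy hx1 hy1 => rw [(hxy x hx y hy).mul_pow, hx1, hy1, one_mul]
        | inv x hx hx1 => rw [inv_pow, hx1, inv_one]
      refine ⟨1, Subtype.ext ?_⟩
      rw [pow_one]
      exact hx _ x.2
    obtain ⟨R₀, hR₀⟩ := hP.exists_le_sylow
    obtain ⟨g, hg⟩ := MulAction.exists_smul_eq S R₀ R
    -- conjugate `u` back
    have hmem : ∀ x ∈ (R₀ : Subgroup S), g * x * g⁻¹ ∈ (R : Subgroup S) := by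
      intro x hx
      rw [← hg, Sylow.coe_subgroup_smul]
      exact Subgroup.smul_mem_pointwise_smul x (MulAut.conj g) _ hx
    have hcomm : ∀ x ∈ (R₀ : Subgroup S), Commute x (g⁻¹ * u * g) := by
      intro x hx
      have h1 : (g * x * g⁻¹) * u = u * (g * x * g⁻¹) := Subgroup.mem_centralizer_iff.1 hu _ (hmem x hx)
      show x * (g⁻¹ * u * g) = g⁻¹ * u * g * x
      have h2 : x * (g⁻¹ * u * g) = g⁻¹ * ((g * x * g⁻¹) * u) * g := by group
      rw [h2, h1]
      group
    obtain ⟨x, hx⟩ := hπ (g⁻¹ * u * g)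
    have hx₁ : Commute l₁ x := H530.OZ.commute_of_map hcen hc hcr hl₁ (by
      rw [hx]
      exact hcomm _ (hR₀ (Subgroup.subset_closure (Or.inl rfl))))
    have hx₂ : Commute l₂ x := H530.OZ.commute_of_map hcen hc hcr hl₂ (by
      rw [hx]
      exact hcomm _ (hR₀ (Subgroup.subset_closure (Or.inr rfl))))
    obtain ⟨j, hj⟩ := hup
    have h1 : (g⁻¹ * u * g) ^ (p ^ j) = 1 := by
      have : g⁻¹ * u * g = g⁻¹ * u * g⁻¹⁻¹ := by rw [inv_inv]
      rw [this, conj_pow, ← hj, pow_orderOf_eq_one, mul_one, mul_inv_cancel]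
    have h2 : (x ^ c) ^ (p ^ j) = 1 := by
      have h3 : x ^ (p ^ j) ∈ π.ker := by rw [MonoidHom.mem_ker, map_pow, hx, h1]
      rw [← pow_mul, mul_comm, pow_mul]
      exact hc _ h3
    have h3 : x ^ c = 1 := hC _ (hx₁.pow_right c) (hx₂.pow_right c) j h2
    have h4 : (g⁻¹ * u * g) ^ c = 1 := by rw [← hx, ← map_pow, h3, map_one]
    have h5 : orderOf (g⁻¹ * u * g) = 1 := by
      have h6 := orderOf_dvd_of_pow_eq_one h1
      have h7 := orderOf_dvd_of_pow_eq_one h4
      exact Nat.dvd_one.1 ((hcp.pow_right j) ▸ Nat.dvd_gcd h7 h6)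
    have h6 : g⁻¹ * u * g = 1 := orderOf_eq_one_iff.1 h5
    have h7 : u = g * (g⁻¹ * u * g) * g⁻¹ := by group
    rw [h7, h6]
    group
  · intro D hD hDS
    by_cases h1 : ∃ t : S, t * π X * t⁻¹ ∈ D
    · by_cases h2 : ∃ t : S, t * π Y * t⁻¹ ∈ D
      · exfalso
        obtain ⟨t, ht⟩ := h1
        obtain ⟨s, hs⟩ := h2
        set A := t * π X * t⁻¹ with hA
        set B := s * π Y * s⁻¹ with hB
        have hAo : orderOf A = r ^ a := by
          rw [← hXo]
          exact (H604.OZ.orderOf_eq_of_conj (isConj_iff.2 ⟨t, rfl⟩)).symm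
        have hBo : orderOf B = r ^ a := by
          rw [← hYo]
          exact (H604.OZ.orderOf_eq_of_conj (isConj_iff.2 ⟨s, rfl⟩)).symm
        -- trivial intersection
        have hAB : ∀ i j : ℕ, A ^ i = B ^ j → A ^ i = 1 := by
          intro i j hij
          have e1 : A ^ i = t * π (X ^ i) * t⁻¹ := by rw [hA, conj_pow, map_pow]
          have e2 : B ^ j = s * π (Y ^ j) * s⁻¹ := by rw [hB, conj_pow, map_pow]
          obtain ⟨w, hw⟩ := hπ (s⁻¹ * t)
          have e3 : π (w * X ^ i * w⁻¹) = π (Y ^ j) := by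
            rw [map_mul, map_mul, map_inv, hw]
            have e4 : π (Y ^ j) = s⁻¹ * (s * π (Y ^ j) * s⁻¹) * s := by group
            rw [e4, ← e2, ← hij, e1]
            group
          have hk : w * X ^ i * w⁻¹ * (Y ^ j)⁻¹ ∈ π.ker := by
            rw [MonoidHom.mem_ker, map_mul, e3, map_inv, mul_inv_cancel]
          set k := w * X ^ i * w⁻¹ * (Y ^ j)⁻¹ with hkdef
          have h5 : w * X ^ i * w⁻¹ = k * Y ^ j := by rw [hkdef]; group
          have hXa : X ^ (r ^ a) = 1 := by rw [← hX, pow_orderOf_eq_one]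
          have hYa : Y ^ (r ^ a) = 1 := by rw [← hY, pow_orderOf_eq_one]
          have h6 : (w * X ^ i * w⁻¹) ^ (r ^ a) = 1 := by
            rw [conj_pow, ← pow_mul, mul_comm i, pow_mul, hXa, one_pow, mul_one, mul_inv_cancel]
          have h7 : k ^ (r ^ a) = 1 := by
            have h8 : Commute k (Y ^ j) := hcen k hk _
            rwa [h5, h8.mul_pow, ← pow_mul, mul_comm j, pow_mul, hYa, one_pow, mul_one] at h6
          have h8 : k = 1 := by
            have h9 := orderOf_dvd_of_pow_eq_one (hc k hk)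
            have h10 := orderOf_dvd_of_pow_eq_one h7
            have h11 : orderOf k = 1 := Nat.dvd_one.1 ((hcr.pow_right a) ▸ Nat.dvd_gcd h9 h10)
            exact orderOf_eq_one_iff.1 h11
          rw [h8, one_mul] at h5
          have h9 := hXY i j (isConj_iff.2 ⟨w, h5⟩)
          rw [e1, h9, map_one, mul_one, mul_inv_cancel]
        -- the product set
        let f : Fin (r ^ a) × Fin (r ^ a) → D := fun q => ⟨A ^ (q.1 : ℕ) * B ^ (q.2 : ℕ),
          D.mul_mem (D.pow_mem ht _) (D.pow_mem hs _)⟩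
        have hf : Function.Injective f := by
          rintro ⟨⟨i, hi⟩, ⟨j, hj⟩⟩ ⟨⟨i', hi'⟩, ⟨j', hj'⟩⟩ hij
          have e1 : A ^ i * B ^ j = A ^ i' * B ^ j' := congrArg Subtype.val hij
          have key : ∀ i j i' j' : ℕ, i ≤ i' → i' < r ^ a → j < r ^ a → j' < r ^ a →
              A ^ i * B ^ j = A ^ i' * B ^ j' → i = i' ∧ j = j' := by
            intro i j i' j' hii' hi' hj hj' e1
            have hBa : B ^ (r ^ a) = 1 := by rw [← hBo, pow_orderOf_eq_one]
            have e2 : A ^ (i' - i) = B ^ (j + (r ^ a - j')) := by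
              have e3 : A ^ i' = A ^ i * A ^ (i' - i) := by rw [← pow_add, Nat.add_sub_cancel' hii']
              rw [e3, mul_assoc, mul_right_inj] at e1
              rw [pow_add, e1, mul_assoc, ← pow_add, Nat.add_sub_cancel' hj'.le, hBa, mul_one]
            have e3 := hAB _ _ e2
            have e4 := orderOf_dvd_of_pow_eq_one e3
            rw [hAo] at e4
            have e5 : i' - i = 0 := Nat.eq_zero_of_dvd_of_lt e4 (by (clear * - hi'; omega))
            have e6 : i = i' := by omega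
            subst e6
            refine ⟨rfl, ?_⟩
            rw [mul_right_inj] at e1
            exact pow_injOn_Iio_orderOf (by rw [Set.mem_Iio, hBo]; exact hj) (by rw [Set.mem_Iio, hBo]; exact hj') e1
          rcases le_total i i' with hle | hle
          · obtain ⟨e2, e3⟩ := key i j i' j' hle hi' hj hj' e1
            subst e2 e3
            rfl
          · obtain ⟨e2, e3⟩ := key i' j' i j hle hi hj' hj e1.symm
            subst e2 e3
            rfl
        have hcD : r ^ (2 * a) ≤ Nat.card D := by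
          have h3 := Nat.card_le_card_of_injective f hf
          rwa [Nat.card_prod, Nat.card_eq_fintype_card, Fintype.card_fin, ← pow_add, ← two_mul] at h3
        obtain ⟨R, hR⟩ := hD.exists_le_sylow
        refine hDS R ?_
        symm
        apply Subgroup.eq_of_le_of_card_ge hR
        rw [R.card_eq_multiplicity]
        exact (Nat.pow_le_pow_right hr.pos hfac).trans hcD
      · push Not at h2
        exact two_classes hr hYo (hYK.map π) hπ₂ (by rw [← map_pow, hK₂, map_one]) hm₂ h2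
    · push Not at h1
      exact two_classes hr hXo (hXK.map π) hπ₁ (by rw [← map_pow, hK₁, map_one]) hm₁ h1

end cover

end Cfsg.Agent.H556.OZ
end

-- part: H556/OZ/LocGeo
section
/-!
# S4842: the congruence at the primes dividing `q ^ k + 1`, dimension `4k`, sign `+` (helper556)

* `exists_w` : an isometry `w` of a minus form in dimension `2k` with `w ^ (q ^ (k-1) - 1) = 1`, `w ^ 2 ≠ 1`;
* `exists_yz` : commuting isometries of a plus form in dimension `4k`, one of order `r ^ a` with fixed-point-free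
  nontrivial powers, the other of order dividing `q ^ k - 1` with a non-scalar square;
* `cong_plus` : the congruence, from the order of the `r`-part.
-/

set_option autoImplicit false

namespace Cfsg.Agent.H556.OZ

open Module QuadraticMap Cfsg Subgroup
open Cfsg.Agent.LieClassical.OrthCore Cfsg.Agent.LieClassical.OrthTrans Cfsg.Agent.H890.SpParity
open Cfsg.Agent.LieClassical.OrthFinite
open Cfsg.Agent.H182.Sign Cfsg.Agent.H182.Orth Cfsg.Agent.H530.CJ Cfsg.Agent.H93.CJ Cfsg.Agent.H93.PReg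
open Cfsg.Agent.H730.OZ Cfsg.Agent.H530.OZ

section tr

variable {F V W : Type*} [Field F] [AddCommGroup V] [Module F V] [AddCommGroup W] [Module F W]

/-- transport of the automorphisms -/
def tr (e : V ≃ₗ[F] W) : (V ≃ₗ[F] V) →* (W ≃ₗ[F] W) where
  toFun := fun g => (e.symm.trans g).trans e
  map_one' := by
    refine LinearEquiv.ext fun v => ?_
    show e (e.symm v) = v
    exact e.apply_symm_apply v
  map_mul' := by
    intro g h
    refine LinearEquiv.ext fun v => ?_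
    show e (g (h (e.symm v))) = e (g (e.symm (e (h (e.symm v)))))
    rw [e.symm_apply_apply]

theorem tr_apply (e : V ≃ₗ[F] W) (g : V ≃ₗ[F] V) (w : W) : tr e g w = e (g (e.symm w)) := rfl

theorem tr_injective (e : V ≃ₗ[F] W) : Function.Injective (tr e) := by
  intro g h hgh
  refine LinearEquiv.ext fun v => ?_
  have h1 := LinearEquiv.congr_fun hgh (e v)
  rw [tr_apply, tr_apply, e.symm_apply_apply] at h1
  exact e.injective h1

theorem tr_mem_O {Q : QuadraticForm F V} {Q' : QuadraticForm F W} {e : V ≃ₗ[F] W} (he : ∀ v, Q' (e v) = Q v)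
    {g : V ≃ₗ[F] V} (hg : g ∈ O Q) : tr e g ∈ O Q' := by
  intro w
  rw [tr_apply, he, hg, ← he, e.apply_symm_apply]

end tr

theorem sg_neg_one {F : Type} [Field F] [Fintype F] {K L : Type} [Field K] [Finite K] [Algebra F K] [Field L] [Finite L]
    [Algebra F L] {k : ℕ} (hk : finrank F K = k) {Q : QuadraticForm F L} (hQ : Sg Q 1 (-1)) :
    Sg (prodForm (tq F K) Q) (k + 1) (-1) := by
  have := (sg_tq F K hk).prod hQ
  rwa [one_mul] at this

/-- an isometry of a minus form -/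
theorem exists_w {F : Type} [Field F] [Fintype F] {U : Type} [AddCommGroup U] [Module F U] [Finite U]
    {Q : QuadraticForm F U} {k : ℕ} (hk : 3 ≤ k) (hQ : Sg Q k (-1)) :
    ∃ w ∈ O Q, w ^ (Fintype.card F ^ (k - 1) - 1) = 1 ∧ w ^ 2 ≠ 1 := by
  obtain ⟨K, _, _, b, hKf, y, hK, hy⟩ := Singer.exists_ext F (k - 1) (by omega)
  have hrk : Module.finrank F K = k - 1 := by rw [Module.finrank_eq_card_basis b, Fintype.card_fin]
  obtain ⟨L, _, _, _, Q₁, -, hQ₁, -, -⟩ := exists_torusM F (k := 1) one_ne_zero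
  have hs := sg_neg_one hrk hQ₁
  rw [show k - 1 + 1 = k by omega] at hs
  obtain ⟨e, he⟩ := hs.exists_equiv hQ
  have hF : 2 ≤ Fintype.card F := Fintype.one_lt_card
  have hpw : ∀ m : ℕ, tr e (zz L (dw y)) ^ m = tr e (zz L (dw (y ^ m))) := by
    intro m
    rw [← map_pow, zz_pow, dw_pow]
  refine ⟨tr e (zz L (dw y)), tr_mem_O he (zz_mem_O (dw_mem_O y)), ?_, ?_⟩
  · rw [hpw, ← hy, pow_orderOf_eq_one]
    have : (zz L (dw (1 : Kˣ)) : ((K × K) × L) ≃ₗ[F] ((K × K) × L)) = 1 := by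
      refine LinearEquiv.ext fun v => ?_
      refine Prod.ext ?_ rfl
      show (dw (1 : Kˣ) : (K × K) ≃ₗ[F] (K × K)) v.1 = v.1
      rw [dw_apply, inv_one, Units.val_one, one_mul, one_mul]
    rw [this, map_one]
  · intro h
    rw [hpw] at h
    have h1 := tr_injective e (h.trans (map_one (tr e)).symm)
    have h2 : ((y ^ 2 : Kˣ) : K) * 1 = 1 := congrArg (fun v : (K × K) × L => v.1.1) (LinearEquiv.congr_fun h1 ((1, 0), 0))
    have h3 : y ^ 2 = 1 := Units.ext (by rw [mul_one] at h2; exact h2)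
    have h4 := orderOf_dvd_of_pow_eq_one h3
    rw [hy] at h4
    have h5 := Nat.le_of_dvd two_pos h4
    have h6 : 2 ^ 2 ≤ Fintype.card F ^ (k - 1) := (Nat.pow_le_pow_left hF 2).trans (Nat.pow_le_pow_right (by omega) (by omega))
    omega

/-- commuting isometries of a plus form -/
theorem exists_yz {F : Type} [Field F] [Fintype F] {V : Type} [AddCommGroup V] [Module F V] [Finite V]
    {Q : QuadraticForm F V} {k : ℕ} (hk : 3 ≤ k) (hQ : Sg Q (k + k) 1) {m : ℕ} (hm : m ∣ Fintype.card F ^ k + 1) :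
    ∃ Y Z : V ≃ₗ[F] V, Y ∈ O Q ∧ Z ∈ O Q ∧ Commute Y Z ∧ orderOf Y = m ∧ (∀ (j : ℕ) (v : V), (Y ^ j) v = v → v = 0 ∨ Y ^ j = 1) ∧
      Z ^ (Fintype.card F ^ k - 1) = 1 ∧ ∀ s : F, ¬ ∀ v, (Z ^ 2) v = s • v := by
  obtain ⟨K, _, _, b, hKf, y, hK, hy⟩ := Singer.exists_ext F (k + k) (by omega)
  have hrk : Module.finrank F K = k + k := by rw [Module.finrank_eq_card_basis b, Fintype.card_fin]
  obtain ⟨e, he⟩ := (sg_tq F K hrk).exists_equiv hQ
  have hF : 2 ≤ Fintype.card F := Fintype.one_lt_card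
  have hq8 : 2 ^ 3 ≤ Fintype.card F ^ k := (Nat.pow_le_pow_left hF 3).trans (Nat.pow_le_pow_right (by omega) (by omega))
  have hqq : Fintype.card F ^ (k + k) - 1 = (Fintype.card F ^ k + 1) * (Fintype.card F ^ k - 1) := by
    rw [pow_add]
    have := Nat.sq_sub_sq (Fintype.card F ^ k) 1
    simpa [pow_two] using this
  have hone : tr e (dw (1 : Kˣ) : (K × K) ≃ₗ[F] (K × K)) = 1 := by
    have : (dw (1 : Kˣ) : (K × K) ≃ₗ[F] (K × K)) = 1 := by
      refine LinearEquiv.ext fun v => ?_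
      rw [dw_apply, inv_one, Units.val_one, one_mul, one_mul]
      rfl
    rw [this, map_one]
  have hpw : ∀ (u : Kˣ) (m : ℕ), tr e (dw u) ^ m = tr e (dw (u ^ m)) := by
    intro u m
    rw [← map_pow, dw_pow]
  have hinj : ∀ u : Kˣ, tr e (dw u : (K × K) ≃ₗ[F] (K × K)) = 1 → u = 1 := by
    intro u h
    have h1 := tr_injective e (h.trans (map_one (tr e)).symm)
    have h2 : (u : K) * 1 = 1 := congrArg Prod.fst (LinearEquiv.congr_fun h1 (1, 0))
    exact Units.ext (by rw [mul_one] at h2; exact h2)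
  obtain ⟨s, hs⟩ := hm
  have hs0 : s ≠ 0 := by
    rintro rfl
    omega
  have hm0 : m ≠ 0 := by
    rintro rfl
    omega
  set c : Kˣ := y ^ (s * (Fintype.card F ^ k - 1)) with hc
  have hco : orderOf c = m := by
    have h1 : m * (s * (Fintype.card F ^ k - 1)) = Fintype.card F ^ (k + k) - 1 := by
      rw [hqq, hs, mul_assoc]
    rw [hc, orderOf_pow_of_dvd (Nat.mul_ne_zero hs0 (by omega)) (by rw [hy, ← h1]; exact Dvd.intro_left m rfl), hy, ← h1,
      Nat.mul_div_cancel _ (Nat.mul_pos (Nat.pos_of_ne_zero hs0) (by omega))]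
  set d : Kˣ := y ^ (Fintype.card F ^ k + 1) with hd
  have hdo : orderOf d = Fintype.card F ^ k - 1 := by
    rw [hd, orderOf_pow_of_dvd (by omega) (by rw [hy, hqq]; exact Dvd.intro _ rfl), hy, hqq,
      Nat.mul_div_cancel_left _ (by omega)]
  refine ⟨tr e (dw c), tr e (dw d), tr_mem_O he (dw_mem_O c), tr_mem_O he (dw_mem_O d), ?_, ?_, ?_, ?_, ?_⟩
  · have h1 : Commute (dw c : (K × K) ≃ₗ[F] (K × K)) (dw d) := by
      refine LinearEquiv.ext fun v => ?_
      show (dw c : (K × K) ≃ₗ[F] (K × K)) ((dw d : (K × K) ≃ₗ[F] (K × K)) v) = (dw d : (K × K) ≃ₗ[F] (K × K)) ((dw c : (K × K) ≃ₗ[F] (K × K)) v)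
      rw [dw_apply, dw_apply, dw_apply, dw_apply]
      refine Prod.ext ?_ ?_
      · show (c : K) * ((d : K) * v.1) = (d : K) * ((c : K) * v.1)
        ring
      · show ((c⁻¹ : Kˣ) : K) * (((d⁻¹ : Kˣ) : K) * v.2) = ((d⁻¹ : Kˣ) : K) * (((c⁻¹ : Kˣ) : K) * v.2)
        ring
    exact h1.map (tr e)
  · apply Nat.dvd_antisymm
    · apply orderOf_dvd_of_pow_eq_one
      rw [hpw, ← hco, pow_orderOf_eq_one, hone]
    · have h1 := pow_orderOf_eq_one (tr e (dw c : (K × K) ≃ₗ[F] (K × K)))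
      rw [hpw] at h1
      have h2 := orderOf_dvd_of_pow_eq_one (hinj _ h1)
      rwa [hco] at h2
  · intro j v hv
    by_cases hcj : c ^ j = 1
    · right
      rw [hpw, hcj, hone]
    · left
      rw [hpw, tr_apply, ← LinearEquiv.eq_symm_apply, dw_apply] at hv
      have e1 : ((c ^ j : Kˣ) : K) * (e.symm v).1 = (e.symm v).1 := congrArg Prod.fst hv
      have e2 : (((c ^ j)⁻¹ : Kˣ) : K) * (e.symm v).2 = (e.symm v).2 := congrArg Prod.snd hv
      have h1 : ((c ^ j : Kˣ) : K) ≠ 1 := fun h => hcj (Units.ext h)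
      have h2 : (((c ^ j)⁻¹ : Kˣ) : K) ≠ 1 := fun h => hcj (inv_eq_one.1 (Units.ext h))
      have h3 : (e.symm v).1 = 0 := by
        have h4 : (((c ^ j : Kˣ) : K) - 1) * (e.symm v).1 = 0 := by linear_combination e1
        exact (mul_eq_zero.1 h4).resolve_left (sub_ne_zero.2 h1)
      have h3' : (e.symm v).2 = 0 := by
        have h4 : ((((c ^ j)⁻¹ : Kˣ) : K) - 1) * (e.symm v).2 = 0 := by linear_combination e2
        exact (mul_eq_zero.1 h4).resolve_left (sub_ne_zero.2 h2)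
      have h5 : e.symm v = 0 := Prod.ext h3 h3'
      exact (LinearEquiv.map_eq_zero_iff _).1 h5
  · rw [hpw, ← hdo, pow_orderOf_eq_one, hone]
  · intro s h
    rw [hpw] at h
    have h1 := h (e (1, 1))
    rw [tr_apply, e.symm_apply_apply, ← map_smul] at h1
    have h2 := e.injective h1
    rw [dw_apply] at h2
    have e1 : ((d ^ 2 : Kˣ) : K) * 1 = s • 1 := congrArg Prod.fst h2
    have e2 : (((d ^ 2)⁻¹ : Kˣ) : K) * 1 = s • 1 := congrArg Prod.snd h2
    have e3 : d ^ 2 = (d ^ 2)⁻¹ := Units.ext (by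
      rw [mul_one] at e1 e2
      rw [e1, e2])
    have e4 : d ^ 4 = 1 := by
      have : d ^ 4 = d ^ 2 * d ^ 2 := by rw [← pow_add]
      rw [this]
      nth_rw 2 [e3]
      exact mul_inv_cancel _
    have e5 := orderOf_dvd_of_pow_eq_one e4
    rw [hdo] at e5
    have := Nat.le_of_dvd (by norm_num) e5
    omega

/-- the kernel of the projection -/
theorem ker_facts {F V : Type*} [Field F] [AddCommGroup V] [Module F V] {Q : QuadraticForm F V} {p : ℕ} [Fact p.Prime]
    [CharP F p] (hnd : Nondeg Q) (hne : ∃ v : V, v ≠ 0) {S : Type*} [Group S] {π : E Q →* S}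
    (hker : ∀ k : E Q, k ∈ π.ker ↔ ∃ a : F, ∀ v, (k : V ≃ₗ[F] V) v = a • v) :
    (∀ k ∈ π.ker, ∀ h : E Q, k * h = h * k) ∧ ∀ k ∈ π.ker, k ^ 2 = 1 ∧ (p = 2 → k = 1) := by
  constructor
  · intro k hk h
    obtain ⟨a, ha⟩ := (hker k).1 hk
    apply Subtype.ext
    refine LinearEquiv.ext fun v => ?_
    show (k : V ≃ₗ[F] V) ((h : V ≃ₗ[F] V) v) = (h : V ≃ₗ[F] V) ((k : V ≃ₗ[F] V) v)
    rw [ha, ha, map_smul]
  · intro k hk
    obtain ⟨a, ha⟩ := (hker k).1 hk
    -- a vector with nonzero value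
    obtain ⟨w, hw⟩ : ∃ w : V, Q w ≠ 0 := by
      by_contra hcon
      push Not at hcon
      obtain ⟨v, hv⟩ := hne
      apply hv
      exact hnd _ fun y => by rw [QuadraticMap.polar, hcon, hcon, hcon, sub_zero, sub_zero]
    have h1 := E_le_O k.2 w
    rw [ha, QuadraticMap.map_smul, smul_eq_mul] at h1
    have h2 : a * a = 1 := by
      apply mul_right_cancel₀ hw
      rw [h1, one_mul]
    constructor
    · apply Subtype.ext
      show (k : V ≃ₗ[F] V) ^ 2 = 1
      refine LinearEquiv.ext fun v => ?_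
      rw [pow_two, LinearEquiv.mul_apply, ha, ha, smul_smul, h2, one_smul]
      rfl
    · rintro rfl
      have h3 : a = 1 := by
        have h4 : (a - 1) ^ 2 = 0 := by
          rw [sub_pow_char, one_pow, pow_two, h2, sub_self]
        exact sub_eq_zero.1 (pow_eq_zero_iff two_ne_zero |>.1 h4)
      apply Subtype.ext
      refine LinearEquiv.ext fun v => ?_
      rw [ha, h3, one_smul]
      rfl

section mk2

variable {F U P : Type*} [Field F] [AddCommGroup U] [Module F U] [AddCommGroup P] [Module F P]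

/-- the extension by the identity on the first factor -/
def yy (U : Type*) [AddCommGroup U] [Module F U] (z : P ≃ₗ[F] P) : (U × P) ≃ₗ[F] (U × P) :=
  (LinearEquiv.refl F U).prodCongr z

theorem yy_pow (z : P ≃ₗ[F] P) (k : ℕ) : yy U z ^ k = yy U (z ^ k) := by
  induction k with
  | zero => rfl
  | succ k ih => rw [pow_succ, ih, pow_succ]; rfl

/-- swapping the factors -/
theorem block' {z : P ≃ₗ[F] P} {t : U ≃ₗ[F] U} {s : P ≃ₗ[F] P} (hc : Commute (t.prodCongr s : (U × P) ≃ₗ[F] (U × P)) (yy U z)) : Commute s z := by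
  refine LinearEquiv.ext fun v => ?_
  exact congrArg Prod.snd (LinearEquiv.congr_fun hc.eq (0, v))

end mk2

theorem mulL_pow {F L : Type*} [Field F] [Field L] [Algebra F L] (c : L) (hc : c ≠ 0) (m : ℕ) (v : L) :
    (mulL F c hc ^ m) v = c ^ m * v := by
  induction m with
  | zero => rw [pow_zero, pow_zero, one_mul]; rfl
  | succ m ih => rw [pow_succ', LinearEquiv.mul_apply, ih, mulL_apply, pow_succ', mul_assoc]

universe u

/-- **The congruence at the primes dividing `q ^ k + 1`.** -/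
theorem cong_plus {F : Type} [Field F] [Fintype F] {p : ℕ} [Fact p.Prime] [CharP F p] {k : ℕ} (hk : 3 ≤ k)
    {ι : Type} [Fintype ι] [DecidableEq ι] {R : QuadraticForm F (ι → F)} (hR : Sg R (k + k) 1)
    {S : Type u} [Group S] [Finite S] (i : POmega F ⇑R ≃* S) {r : ℕ} (hr : r.Prime)
    (hr1 : r ∣ Fintype.card F ^ k + 1) (hr2 : ∀ i : ℕ, 0 < i → i < 2 * k → ¬ r ∣ Fintype.card F ^ i - 1)
    (hfac : (Nat.card S).factorization r ≤ 2 * (Fintype.card F ^ k + 1).factorization r) : Cong p r 0 S := by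
  have hpp : p.Prime := Fact.out
  have hfr : Fact r.Prime := ⟨hr⟩
  obtain ⟨L, _, _, _, Q, u, hQ, hu, huQ⟩ := exists_torusM F (k := k) (by omega)
  have hQQ : Sg (prodForm Q Q) (k + k) 1 := by
    have := hQ.prod hQ
    rwa [neg_mul_neg, one_mul] at this
  obtain ⟨hG, π, hπ, hker⟩ := exists_pi' hQQ (by omega) hR i
  have hdL : finrank F L = 2 * k := hQ.dim
  have hcF : Nat.card F = Fintype.card F := Nat.card_eq_fintype_card
  have hF : 2 ≤ Fintype.card F := Fintype.one_lt_card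
  have hfdL : FiniteDimensional F L := Module.Finite.of_finite
  have hfin : Finite (E (prodForm Q Q)) := by
    have : Finite ((L × L) ≃ₗ[F] (L × L)) :=
      Finite.of_injective (fun g : (L × L) ≃ₗ[F] (L × L) => (g : L × L → L × L)) DFunLike.coe_injective
    infer_instance
  have hchL : CharP L p := charP_of_injective_algebraMap (algebraMap F L).injective p
  obtain ⟨hkc, hk2⟩ := ker_facts (p := p) hQQ.nondeg ⟨(1, 0), fun h => one_ne_zero (congrArg Prod.fst h)⟩ hker
  -- the prime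
  have hrF : ¬ r ∣ Fintype.card F := by
    intro h1
    have h2 : r ∣ 1 := (Nat.dvd_add_right (Dvd.dvd.pow h1 (by omega))).1 hr1
    exact hr.one_lt.ne' (Nat.dvd_one.1 h2)
  have hr2' : r ≠ 2 := by
    rintro rfl
    have h1 := hr2 1 one_pos (by omega)
    rw [pow_one] at h1
    rcases Nat.even_or_odd (Fintype.card F) with h | h
    · exact hrF h.two_dvd
    · exact h1 (Nat.Odd.sub_odd h odd_one).two_dvd
  have hodd : Odd r := hr.odd_of_ne_two hr2'
  have hnd : ∀ j : ℕ, 0 < j → j < 2 * k → (Fintype.card F ^ j - 1).Coprime r := fun j h1 h2 =>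
    ((Nat.Prime.coprime_iff_not_dvd hr).2 (hr2 j h1 h2)).symm
  set c : ℕ := if p = 2 then 1 else 2 with hcdef
  have hcc : ∀ k ∈ π.ker, k ^ c = 1 := by
    intro k hk
    rw [hcdef]
    split_ifs with hp2
    · rw [pow_one]; exact (hk2 k hk).2 hp2
    · exact (hk2 k hk).1
  have hcr : c.Coprime r := by
    rw [hcdef]
    split_ifs with hp2
    · exact Nat.coprime_one_left r
    · exact (Nat.coprime_primes Nat.prime_two hr).2 (Ne.symm hr2')
  have hcp : c.Coprime p := by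
    rw [hcdef]
    split_ifs with hp2
    · exact Nat.coprime_one_left p
    · exact (Nat.coprime_primes Nat.prime_two hpp).2 (Ne.symm hp2)
  -- the torus
  have hu0 : u ≠ 0 := by
    rintro rfl
    have h1 := pow_orderOf_eq_one (0 : L)
    rw [hu, pow_succ, mul_zero] at h1
    exact zero_ne_one h1
  have hpowQ : ∀ (m : ℕ) (v : L), Q (u ^ m * v) = Q v := by
    intro m
    induction m with
    | zero => intro v; rw [pow_zero, one_mul]
    | succ m ih => intro v; rw [pow_succ', mul_assoc, huQ, ih]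
  have hel : ∀ m : ℕ, m ∣ Fintype.card F ^ k + 1 → ∃ s : ℕ, orderOf (u ^ s) = m := by
    rintro m ⟨s, hs⟩
    have hs0 : s ≠ 0 := by
      rintro rfl
      omega
    refine ⟨s, ?_⟩
    rw [orderOf_pow_of_dvd hs0 (by rw [hu, hs]; exact Dvd.intro_left m rfl), hu, hs,
      Nat.mul_div_cancel _ (Nat.pos_of_ne_zero hs0)]
  obtain ⟨s, hlamo⟩ := hel r hr1
  set lam : L := u ^ s with hlam
  have hlam0 : lam ≠ 0 := pow_ne_zero _ hu0
  have hT := torU_minus hlam0 hlamo (by
    intro i hi hi2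
    rw [hcF]
    rw [hdL] at hi2
    exact hr2 i hi hi2) (hpowQ s)
  have hfix := hT.fix_eq hr.one_lt
  set a : ℕ := (Fintype.card F ^ k + 1).factorization r with ha
  have hra : r ^ a ∣ Fintype.card F ^ k + 1 := Nat.ordProj_dvd _ _
  obtain ⟨s', hco⟩ := hel (r ^ a) hra
  set cc : L := u ^ s' with hccdef
  have hcc0 : cc ≠ 0 := pow_ne_zero _ hu0
  have hccO : mulL F cc hcc0 ∈ O Q := hpowQ s'
  have hccp : mulL F cc hcc0 ^ (r ^ a) = 1 := by
    refine LinearEquiv.ext fun v => ?_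
    rw [mulL_pow, ← hco, pow_orderOf_eq_one, one_mul]
    rfl
  have hodda : Odd (r ^ a) := hodd.pow
  -- the elements of order `r`
  set l₁ : E (prodForm Q Q) := ⟨zz L (mulL F lam hlam0), mem_of_odd hG hT.memO hodd hT.pow_eq⟩ with hl₁
  have hyyO : ∀ {t : L ≃ₗ[F] L}, t ∈ O Q → yy L t ∈ O (prodForm Q Q) := by
    intro t ht v
    rw [prodForm_apply, prodForm_apply]
    show Q v.1 + Q (t v.2) = _
    rw [ht]
  have hyy1 : (yy L (1 : L ≃ₗ[F] L) : (L × L) ≃ₗ[F] (L × L)) = 1 := rfl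
  have hzz1 : (zz L (1 : L ≃ₗ[F] L) : (L × L) ≃ₗ[F] (L × L)) = 1 := rfl
  set l₂ : E (prodForm Q Q) := ⟨yy L (mulL F lam hlam0), Cfsg.Agent.ETable.Orth.mem_E_of_pow hG (hyyO hT.memO) hodd (by
    rw [yy_pow, hT.pow_eq, hyy1])⟩ with hl₂
  have hmne : mulL F lam hlam0 ≠ 1 := by
    intro h
    exact one_ne_zero (hfix 1 (LinearEquiv.congr_fun h 1))
  have hl₁o : orderOf l₁ = r := by
    refine orderOf_eq_prime ?_ ?_
    · apply Subtype.ext
      show zz L (mulL F lam hlam0) ^ r = 1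
      rw [zz_pow, hT.pow_eq, hzz1]
    · intro h
      apply hmne
      have h1 : zz L (mulL F lam hlam0) = 1 := congrArg Subtype.val h
      refine LinearEquiv.ext fun v => ?_
      exact congrArg Prod.fst (LinearEquiv.congr_fun h1 (v, 0))
  have hl₂o : orderOf l₂ = r := by
    refine orderOf_eq_prime ?_ ?_
    · apply Subtype.ext
      show yy L (mulL F lam hlam0) ^ r = 1
      rw [yy_pow, hT.pow_eq, hyy1]
    · intro h
      apply hmne
      have h1 : yy L (mulL F lam hlam0) = 1 := congrArg Subtype.val h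
      refine LinearEquiv.ext fun v => ?_
      exact congrArg Prod.snd (LinearEquiv.congr_fun h1 (0, v))
  have hl : Commute l₁ l₂ := Subtype.ext rfl
  -- the isometries
  obtain ⟨w, hwO, hw1, hw2⟩ := exists_w hk hQ
  obtain ⟨Y, Z, hYO, hZO, hYZ, hYo, hYfix, hZ1, hZ2⟩ := exists_yz hk hQQ hra
  set X' : E (prodForm Q Q) := ⟨zz L (mulL F cc hcc0), mem_of_odd hG hccO hodda hccp⟩ with hX'
  set Y' : E (prodForm Q Q) := ⟨Y, Cfsg.Agent.ETable.Orth.mem_E_of_pow hG hYO hodda (by rw [← hYo, pow_orderOf_eq_one])⟩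
    with hY'
  set K₁ : E (prodForm Q Q) := ⟨yy L (w ^ 2), by
    have h1 := Cfsg.Agent.ETable.Orth.sq_mem_E hG (hyyO hwO)
    rwa [← pow_two, yy_pow] at h1⟩ with hK₁
  set K₂ : E (prodForm Q Q) := ⟨Z ^ 2, by
    have h1 := Cfsg.Agent.ETable.Orth.sq_mem_E hG hZO
    rwa [← pow_two] at h1⟩ with hK₂
  have hX'o : orderOf X' = r ^ a := by
    rw [← Subgroup.orderOf_coe]
    show orderOf (zz L (mulL F cc hcc0)) = r ^ a
    apply Nat.dvd_antisymm
    · apply orderOf_dvd_of_pow_eq_one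
      rw [zz_pow, hccp, hzz1]
    · have h1 := pow_orderOf_eq_one (zz L (mulL F cc hcc0))
      rw [zz_pow] at h1
      have h2 : (mulL F cc hcc0 ^ orderOf (zz L (mulL F cc hcc0))) 1 = 1 :=
        congrArg Prod.fst (LinearEquiv.congr_fun h1 (1, 0))
      rw [mulL_pow, mul_one] at h2
      have h3 := orderOf_dvd_of_pow_eq_one h2
      rwa [hco] at h3
  have hY'o : orderOf Y' = r ^ a := by
    rw [← Subgroup.orderOf_coe]
    exact hYo
  refine cong_of_cover (c := c) (a := a) hπ hr hpp hkc hcc hcr hcp hfac hl₁o hl₂o hl ?_ hX'o hY'o ?_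
    (m₁ := Fintype.card F ^ (k - 1) - 1) (m₂ := Fintype.card F ^ k - 1) (K₁ := K₁) (K₂ := K₂) ?_ ?_
    (hnd _ (by omega) (by omega)) ?_ ?_ ?_ (hnd _ (by omega) (by omega)) ?_
  · -- `C (l₁, l₂)` has no `p`-elements
    intro x hx₁ hx₂ j hj
    have h1 : Commute (x : (L × L) ≃ₗ[F] (L × L)) ((mulL F lam hlam0).prodCongr (LinearEquiv.refl F L)) :=
      (congrArg Subtype.val hx₁.eq).symm
    obtain ⟨t, t', hts⟩ := block hfix h1
    have h2 : Commute t (mulL F lam hlam0) := by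
      refine LinearEquiv.ext fun v => ?_
      have h3 := LinearEquiv.congr_fun h1.eq (v, 0)
      rw [hts] at h3
      exact congrArg Prod.fst h3
    have h2' : Commute t' (mulL F lam hlam0) := by
      have h3 : Commute (x : (L × L) ≃ₗ[F] (L × L)) (yy L (mulL F lam hlam0)) := (congrArg Subtype.val hx₂.eq).symm
      rw [hts] at h3
      exact block' h3
    have htO : t ∈ O Q := by
      intro v
      have h2 := E_le_O x.2 (v, 0)
      rw [hts, prodForm_apply, prodForm_apply] at h2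
      change Q (t v) + Q (t' 0) = Q v + Q 0 at h2
      rw [map_zero, QuadraticMap.map_zero, add_zero, add_zero] at h2
      exact h2
    have htO' : t' ∈ O Q := by
      intro v
      have h2 := E_le_O x.2 (0, v)
      rw [hts, prodForm_apply, prodForm_apply] at h2
      change Q (t 0) + Q (t' v) = Q 0 + Q v at h2
      rw [map_zero, QuadraticMap.map_zero, zero_add, zero_add] at h2
      exact h2
    have hpw : ∀ m : ℕ, (x : (L × L) ≃ₗ[F] (L × L)) ^ m = (t ^ m).prodCongr (t' ^ m) := by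
      intro m
      induction m with
      | zero => rfl
      | succ m ih =>
        rw [pow_succ, ih, hts]
        rfl
    have hj' : (x : (L × L) ≃ₗ[F] (L × L)) ^ (p ^ j) = 1 := congrArg Subtype.val hj
    rw [hpw] at hj'
    have key : ∀ t : L ≃ₗ[F] L, t ∈ O Q → Commute t (mulL F lam hlam0) → t ^ (p ^ j) = 1 → t = 1 := by
      intro t ht htc htp
      obtain ⟨b, hb, hb1, -⟩ := hT.cen t ht htc
      apply hb1
      have hbp : ∀ m : ℕ, (t ^ m) 1 = b ^ m := by
        intro m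
        induction m with
        | zero => rw [pow_zero, pow_zero]; rfl
        | succ m ih =>
          rw [pow_succ', LinearEquiv.mul_apply, ih, pow_succ']
          exact hb _
      have h3 := hbp (p ^ j)
      rw [htp] at h3
      have h5 : (b - 1) ^ (p ^ j) = 0 := by rw [sub_pow_char_pow, one_pow, ← h3]; exact sub_self _
      exact sub_eq_zero.1 (pow_eq_zero_iff (pow_pos hpp.pos j).ne' |>.1 h5)
    have h4 : t = 1 := key t htO h2 (by
      refine LinearEquiv.ext fun v => ?_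
      exact congrArg Prod.fst (LinearEquiv.congr_fun hj' (v, 0)))
    have h4' : t' = 1 := key t' htO' h2' (by
      refine LinearEquiv.ext fun v => ?_
      exact congrArg Prod.snd (LinearEquiv.congr_fun hj' (0, v)))
    apply Subtype.ext
    rw [hts, h4, h4']
    rfl
  · -- the two classes
    intro i j hij
    obtain ⟨g, hg⟩ := isConj_iff.1 hij
    have hg' : (g : (L × L) ≃ₗ[F] (L × L)) * zz L (mulL F cc hcc0) ^ i * (g : (L × L) ≃ₗ[F] (L × L))⁻¹ = Y ^ j :=
      congrArg Subtype.val hg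
    have h1 : (Y ^ j) ((g : (L × L) ≃ₗ[F] (L × L)) (0, 1)) = (g : (L × L) ≃ₗ[F] (L × L)) (0, 1) := by
      rw [← hg', LinearEquiv.mul_apply, LinearEquiv.mul_apply]
      have h2 : (g : (L × L) ≃ₗ[F] (L × L))⁻¹ ((g : (L × L) ≃ₗ[F] (L × L)) (0, 1)) = (0, 1) :=
        (g : (L × L) ≃ₗ[F] (L × L)).symm_apply_apply _
      rw [h2, zz_pow]
      congr 1
      exact Prod.ext (LinearEquiv.map_zero (mulL F cc hcc0 ^ i)) rfl
    rcases hYfix j _ h1 with h2 | h2
    · exfalso
      have h3 := (LinearEquiv.map_eq_zero_iff _).1 h2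
      exact one_ne_zero (congrArg Prod.snd h3)
    · apply Subtype.ext
      show zz L (mulL F cc hcc0) ^ i = 1
      rw [h2, mul_inv_eq_one] at hg'
      exact mul_eq_left.1 hg'
  · exact Subtype.ext rfl
  · apply Subtype.ext
    show (yy L (w ^ 2)) ^ (Fintype.card F ^ (k - 1) - 1) = 1
    rw [yy_pow, ← pow_mul, mul_comm, pow_mul, hw1, one_pow, hyy1]
  · intro h
    obtain ⟨b, hb⟩ := (hker K₁).1 (MonoidHom.mem_ker.2 h)
    have h1 : (1 : L) = b • 1 := congrArg Prod.fst (hb (1, 0))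
    have hb1 : b = 1 := by
      have h9 : (b - 1) • (1 : L) = 0 := by rw [sub_smul, ← h1, one_smul, sub_self]
      exact sub_eq_zero.1 ((smul_eq_zero.1 h9).resolve_right one_ne_zero)
    apply hw2
    refine LinearEquiv.ext fun v => ?_
    have h2 : (w ^ 2) v = b • v := congrArg Prod.snd (hb (0, v))
    rw [h2, hb1, one_smul]
    rfl
  · exact Subtype.ext (hYZ.pow_right 2).eq
  · apply Subtype.ext
    show (Z ^ 2) ^ (Fintype.card F ^ k - 1) = 1
    rw [← pow_mul, mul_comm, pow_mul, hZ1, one_pow]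
  · intro h
    obtain ⟨b, hb⟩ := (hker K₂).1 (MonoidHom.mem_ker.2 h)
    exact hZ2 b hb

end Cfsg.Agent.H556.OZ
end

-- part: H956/OZ/PlusOrd
section
/-!
# The `r`-part of `|POmega⁺_{2n} (q)|`, `n` even, `r` of order `n` (helper956)
-/

set_option autoImplicit false

namespace Cfsg.Agent.H956.OZ.PlusOrd

open Cfsg Cfsg.Agent.H530.OZ

theorem fac_zero {r m : ℕ} (h : ¬ r ∣ m) : m.factorization r = 0 := Nat.factorization_eq_zero_of_not_dvd h

theorem fac_order {p f n r a : ℕ} (hp : p.Prime) (hf : 0 < f) (hn : 2 ≤ n) (heven : Even n) (h : Prim p (n * f) r)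
    (ha : ¬ r ^ (a + 1) ∣ (p ^ f) ^ (n / 2) + 1) {N : ℕ} (hN : N ≠ 0)
    (hcard : Nat.gcd 4 ((p ^ f) ^ n - 1) * N =
      (p ^ f) ^ (n * (n - 1)) * ((p ^ f) ^ n - 1) * ∏ i ∈ Finset.range (n - 1), ((p ^ f) ^ (2 * (i + 1)) - 1)) :
    N.factorization r ≤ 2 * a := by
  obtain ⟨k, hk⟩ := heven
  have hk2 : n / 2 = k := by omega
  rw [hk2] at ha
  have hp1 : 1 < p := hp.one_lt
  have hq1 : 1 < p ^ f := Nat.one_lt_pow hf.ne' hp1
  have hpos : ∀ j, 0 < j → (p ^ f) ^ j - 1 ≠ 0 := by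
    intro j hj
    have : 1 < (p ^ f) ^ j := Nat.one_lt_pow hj.ne' hq1
    omega
  have hd0 : Nat.gcd 4 ((p ^ f) ^ n - 1) ≠ 0 := (Nat.gcd_pos_of_pos_left _ (by norm_num)).ne'
  have hP0 : ∏ i ∈ Finset.range (n - 1), ((p ^ f) ^ (2 * (i + 1)) - 1) ≠ 0 := by
    rw [Finset.prod_ne_zero_iff]
    intro i hi
    exact hpos _ (by omega)
  have hqn0 : (p ^ f) ^ (n * (n - 1)) ≠ 0 := (pow_pos (by omega) _).ne'
  have e1 := congrArg (fun m => m.factorization r) hcard
  beta_reduce at e1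
  rw [Nat.factorization_mul hd0 hN, Nat.factorization_mul (mul_ne_zero hqn0 (hpos n (by omega))) hP0,
    Nat.factorization_mul hqn0 (hpos n (by omega)), Finsupp.add_apply, Finsupp.add_apply, Finsupp.add_apply] at e1
  have e2 : ((p ^ f) ^ (n * (n - 1))).factorization r = 0 := by
    refine fac_zero fun hd => h.nd (h.prime.dvd_of_dvd_pow (m := p) (n := f * (n * (n - 1))) ?_)
    rw [pow_mul]
    exact hd
  -- `q ^ n - 1`
  have hv : ((p ^ f) ^ n - 1).factorization r ≤ a := by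
    have e3 : (p ^ f) ^ n - 1 = ((p ^ f) ^ k + 1) * ((p ^ f) ^ k - 1) := by
      rw [hk, ← two_mul, mul_comm 2, pow_mul]
      have := Nat.sq_sub_sq ((p ^ f) ^ k) 1
      simpa only [_root_.one_pow] using this
    have hk0 : 0 < k := by omega
    rw [e3, Nat.factorization_mul (by omega) (hpos k hk0), Finsupp.add_apply]
    have e4 : ((p ^ f) ^ k - 1).factorization r = 0 := by
      refine fac_zero fun hd => ?_
      rw [← pow_mul, h.iff] at hd
      have h1 := Nat.le_of_dvd (Nat.mul_pos hf hk0) hd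
      have h2 : n * f = 2 * (f * k) := by rw [hk]; ring
      have h3 : 0 < f * k := Nat.mul_pos hf hk0
      omega
    rw [e4, add_zero]
    by_contra hlt
    apply ha
    have h5 : a + 1 ≤ ((p ^ f) ^ k + 1).factorization r := by omega
    exact (h.prime.pow_dvd_iff_le_factorization (by omega)).2 h5
  -- the product
  have hprod : (∏ i ∈ Finset.range (n - 1), ((p ^ f) ^ (2 * (i + 1)) - 1)).factorization r ≤ a := by
    rw [Nat.factorization_prod (fun i hi => hpos _ (by omega)), Finsupp.finsetSum_apply,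
      Finset.sum_eq_single_of_mem (k - 1)]
    · rw [show 2 * (k - 1 + 1) = n by omega]
      exact hv
    · rw [Finset.mem_range]
      omega
    · intro i hi hik
      rw [Finset.mem_range] at hi
      refine fac_zero fun hd => hik ?_
      rw [← pow_mul, h.iff] at hd
      have h1 : n ∣ 2 * (i + 1) := by
        apply Nat.dvd_of_mul_dvd_mul_left hf
        rwa [mul_comm f n]
      obtain ⟨z, hz⟩ := h1
      have hz0 : z ≠ 0 := by rintro rfl; omega
      have hz2 : z < 2 := by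
        by_contra hge
        have : n * 2 ≤ n * z := Nat.mul_le_mul_left _ (by omega)
        (clear * - hi hz this; omega)
      have hz1 : z = 1 := by omega
      subst hz1
      omega
  omega

/-- **The `r`-part of the order.** -/
theorem card_plus {F : Type} [Field F] [Fintype F] {p f n r a : ℕ} (hp : p.Prime) (hcard : Fintype.card F = p ^ f)
    (hn : 4 ≤ n) (heven : Even n) (h : Prim p (n * f) r) (ha : ¬ r ^ (a + 1) ∣ Fintype.card F ^ (n / 2) + 1) :
    ¬ r ^ (2 * a + 1) ∣ Nat.card (POmega F (quadFormPlus n F)) := by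
  intro hd
  have hf : 0 < f := by
    rcases Nat.eq_zero_or_pos f with rfl | hf
    · exfalso
      have h1 : 1 < Fintype.card F := Fintype.one_lt_card
      rw [hcard, pow_zero] at h1
      omega
    · exact hf
  have hS0 := S0293.result hcard n (by omega)
  have h0 : Nat.card (POmega F (quadFormPlus n F)) ≠ 0 := by
    intro h0
    rw [h0, mul_zero] at hS0
    have hp1 : 1 < p := hp.one_lt
    have hq1 : 1 < p ^ f := Nat.one_lt_pow hf.ne' hp1
    have hpos : ∀ j, 0 < j → (p ^ f) ^ j - 1 ≠ 0 := by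
      intro j hj
      have : 1 < (p ^ f) ^ j := Nat.one_lt_pow hj.ne' hq1
      omega
    have hP0 : ∏ i ∈ Finset.range (n - 1), ((p ^ f) ^ (2 * (i + 1)) - 1) ≠ 0 := by
      rw [Finset.prod_ne_zero_iff]
      intro i hi
      exact hpos _ (by omega)
    exact (mul_ne_zero (mul_ne_zero (pow_pos (by omega) _).ne' (hpos n (by omega))) hP0) hS0.symm
  have h1 := fac_order hp hf (by omega) heven h (by rw [← hcard]; exact ha) h0 hS0
  have h2 := (h.prime.pow_dvd_iff_le_factorization h0).1 hd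
  omega

end Cfsg.Agent.H956.OZ.PlusOrd
end

-- part: H956/OZ/FacPlus
section
/-!
# The `r`-part of `|POmega⁺_{4k} (q)|`, `r` of order `2k` (helper956)
-/

set_option autoImplicit false

namespace Cfsg.Agent.H956.OZ

open Cfsg

theorem fac_plus_even {F : Type} [Field F] [Fintype F] {p f k r : ℕ} (hp : p.Prime) (hcard : Fintype.card F = p ^ f)
    (hk : 3 ≤ k) (hr : Cfsg.Agent.H530.OZ.Prim p (2 * k * f) r) :
    (Nat.card (POmega F (quadFormPlus (2 * k) F))).factorization r ≤ 2 * ((p ^ f) ^ k + 1).factorization r := by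
  set a := ((p ^ f) ^ k + 1).factorization r with ha
  have h1 : ¬ r ^ (a + 1) ∣ Fintype.card F ^ (2 * k / 2) + 1 := by
    rw [hcard, Nat.mul_div_cancel_left k (by norm_num), hr.prime.pow_dvd_iff_le_factorization (by omega), ← ha]
    omega
  have h2 := PlusOrd.card_plus hp hcard (n := 2 * k) (by omega) (even_two_mul k) hr h1
  by_contra h3
  apply h2
  rcases eq_or_ne (Nat.card (POmega F (quadFormPlus (2 * k) F))) 0 with h0 | h0
  · rw [h0]
    exact dvd_zero _
  · rw [hr.prime.pow_dvd_iff_le_factorization h0]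
    omega

end Cfsg.Agent.H956.OZ
end

-- part: H556/OZ/LocPlus
section
/-!
# S4842: the input `hLOC` of the row `POmega⁺_{2n}`, `n ≥ 6` even (helper556)
-/

set_option autoImplicit false

namespace Cfsg.Agent.H556.OZ

open Cfsg Cfsg.Agent.H730.OZ Cfsg.Agent.H530.OZ Cfsg.Agent.LieClassical.OrthForms
open Cfsg.Agent.H182.Sign Cfsg.Agent.H182.Orth

universe u

/-- **`Cong p r 0` for the primes `r` of order `n f`**, `POmega⁺_{2n}`, `n ≥ 6` even -/
theorem loc_plus {S : Type u} [Group S] [Finite S] {F : Type} [Field F] [Fintype F] {n : ℕ} (hn : 6 ≤ n)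
    (heven : Even n) (e : S ≃* POmega F (quadFormPlus n F)) :
    ∀ (p f r : ℕ), p.Prime → Fintype.card F = p ^ f → Prim p (n * f) r → Cong p r 0 S := by
  intro p f r hp hcard hr
  obtain ⟨k, rfl⟩ := heven
  have hf : 0 < f := by
    rcases Nat.eq_zero_or_pos f with rfl | hf
    · exfalso
      rw [pow_zero] at hcard
      have : 1 < Fintype.card F := Fintype.one_lt_card
      omega
    · exact hf
  have hpf : Fact p.Prime := ⟨hp⟩
  have hch : CharP F p := by
    obtain ⟨p', hp'⟩ := CharP.exists F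
    obtain ⟨⟨f', hf'⟩, hp'', hcard'⟩ := FiniteField.card F p'
    simp only [PNat.mk_coe] at hcard'
    have h1 : p' ∣ p ^ f := by rw [← hcard, hcard']; exact dvd_pow_self p' hf'.ne'
    have h2 : p' = p := (Nat.prime_dvd_prime_iff_eq hp'' hp).1 (hp''.dvd_of_dvd_pow h1)
    rwa [h2] at hp'
  have i : POmega F ⇑(plusForm (k + k) F) ≃* S := by
    rw [coe_plusForm]
    exact e.symm
  have hr' : Prim p (2 * k * f) r := by rwa [two_mul]
  obtain ⟨h1, h2⟩ := hr'.conds hf
  have h3 := Cfsg.Agent.H956.OZ.fac_plus_even (F := F) hp hcard (k := k) (by omega) hr'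
  rw [two_mul k] at h3
  have hcS : Nat.card (POmega F (quadFormPlus (k + k) F)) = Nat.card S := (Nat.card_congr e.toEquiv).symm
  rw [hcS] at h3
  exact cong_plus (p := p) (k := k) (by omega) (sg_plusForm (k + k)) i hr.prime (by rw [hcard]; exact h1)
    (by rw [hcard]; exact h2) (by rw [hcard]; exact h3)

end Cfsg.Agent.H556.OZ
end
end

-- part: H448/Van/RkSl
section
set_option linter.all false
open scoped Cfsg.Agent.FastGrp

/-!
# `SL₂` over an algebraically closed field with a Frobenius map (helper448)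

* `hom_ext` : homomorphisms agreeing on `U`, `V`;
* `dec_zero`, `dec_ne` : the Bruhat decomposition;
* `diag_of_comm` : matrices commuting with the diagonal matrices;
* `exists_lang` : Lang's theorem for the diagonal matrices;
* `exists_map` : the fixed matrices.
-/

set_option autoImplicit false

namespace Cfsg.Agent.H448.Van.Rk

open Matrix Subgroup
open Cfsg.Agent.H238.SL2Key

universe u v

variable {k : Type u} [Field k]

abbrev SL (k : Type u) [Field k] := _root_.Matrix.SpecialLinearGroup (Fin 2) k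

theorem det_eq (A : SL k) : mm A 0 0 * mm A 1 1 - mm A 0 1 * mm A 1 0 = 1 := by
  have := A.2
  rw [Matrix.det_fin_two] at this
  exact this

theorem eta (A : SL k) : mm A = !![mm A 0 0, mm A 0 1; mm A 1 0, mm A 1 1] := by
  ext i j
  fin_cases i <;> fin_cases j <;> rfl

/-- Bruhat decomposition, the small cell -/
theorem dec_zero {A : SL k} (h : mm A 1 0 = 0) : ∃ h0 : mm A 0 0 ≠ 0, A = U (mm A 0 1 * mm A 0 0) * H (mm A 0 0) h0 := by
  have hd := det_eq A
  rw [h, mul_zero, sub_zero] at hd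
  have h0 : mm A 0 0 ≠ 0 := left_ne_zero_of_mul_eq_one hd
  refine ⟨h0, ext2 ?_⟩
  rw [mm_mul, coe_U, coe_H]
  conv_lhs => rw [eta A, h]
  have h1 : mm A 1 1 = (mm A 0 0)⁻¹ := eq_inv_of_mul_eq_one_right hd
  rw [h1]
  ext i j
  (revert i j; simp only [Matrix.mul_apply, Fin.sum_univ_two, _root_.Fin.forall_fin_succ, Fin.isValue, _root_.Matrix.of_apply, _root_.Matrix.cons_val', _root_.Matrix.cons_val_fin_one, _root_.Matrix.cons_val_zero, _root_.Matrix.cons_val_one, _root_.MulZeroClass.mul_zero, _root_.add_zero, _root_.Matrix.cons_val_succ, _root_.zero_add, _root_.forall_const, _root_.one_mul, _root_.MulZeroClass.zero_mul, _root_.implies_true, _root_.and_true, _root_.true_and]) <;> (repeat' with_reducible apply And.intro)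
  field_simp

/-- Bruhat decomposition, the big cell -/
theorem dec_ne {A : SL k} (h : mm A 1 0 ≠ 0) :
    ∃ h0 : -(mm A 1 0)⁻¹ ≠ 0, A = U (mm A 0 0 / mm A 1 0) * H (-(mm A 1 0)⁻¹) h0 * N 1 * U (mm A 1 1 / mm A 1 0) := by
  have hd := det_eq A
  have h0 : -(mm A 1 0)⁻¹ ≠ 0 := neg_ne_zero.2 (inv_ne_zero h)
  refine ⟨h0, ext2 ?_⟩
  rw [mm_mul, mm_mul, mm_mul, coe_U, coe_U, coe_H, coe_N one_ne_zero]
  conv_lhs => rw [eta A]
  ext i j
  (revert i j; simp only [Matrix.mul_apply, Fin.sum_univ_two, h, _root_.Fin.forall_fin_succ, Fin.isValue, _root_.Matrix.of_apply, _root_.Matrix.cons_val', _root_.Matrix.cons_val_fin_one, _root_.inv_neg, _root_.inv_inv, _root_.Matrix.cons_mul, _root_.Nat.succ_eq_add_one, Nat.reduceAdd, _root_.Matrix.vecMul_cons, _root_.Matrix.head_cons, _root_.one_smul, _root_.Matrix.tail_cons, _root_.Matrix.smul_cons, _root_.smul_eq_mul, _root_.MulZeroClass.mul_zero, _root_.mul_neg, _root_.isUnit_iff_ne_zero, _root_.ne_eq, _root_.not_false_eq_true,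 _root_.IsUnit.div_mul_cancel, _root_.Matrix.smul_empty, _root_.Matrix.empty_vecMul, _root_.add_zero, _root_.Matrix.add_cons, _root_.zero_add, _root_.Matrix.empty_add_empty, _root_.zero_smul, _root_.Matrix.empty_mul, _root_.Equiv.symm_apply_apply, _root_.inv_one, _root_.neg_smul, _root_.mul_one, _root_.Matrix.neg_cons, _root_.neg_zero, _root_.Matrix.neg_empty, _root_.neg_neg, _root_.Matrix.cons_val_zero, _root_.Matrix.cons_val_one, _root_.Matrix.cons_val_succ, _root_.forall_const, _root_.and_true, _root_.true_and]) <;> (repeat' with_reducible apply And.intro)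
  · field_simp
    linear_combination (-1 : k) * hd
  · field_simp

theorem H_eq {s : k} (hs : s ≠ 0) : H s hs = N s * (N 1)⁻¹ := by
  have h := N_mul (s := (1 : k)) (z := s) one_ne_zero hs
  rw [mul_one] at h
  exact h.symm

/-- homomorphisms agreeing on the root groups -/
theorem hom_ext {Y : Type v} [Group Y] {φ ψ : SL k →* Y} (hU : ∀ s, φ (U s) = ψ (U s)) (hV : ∀ s, φ (V s) = ψ (V s)) :
    φ = ψ := by
  have hN : ∀ s, φ (N s) = ψ (N s) := fun s => by
    unfold N
    rw [map_mul, map_mul, map_mul, map_mul, hU, hV]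
  have hH : ∀ s hs, φ (H s hs) = ψ (H s hs) := fun s hs => by
    rw [H_eq hs, map_mul, map_mul, map_inv, map_inv, hN, hN]
  ext A
  by_cases h : mm A 1 0 = 0
  · obtain ⟨h0, e⟩ := dec_zero h
    rw [e, map_mul, map_mul, hU, hH]
  · obtain ⟨h0, e⟩ := dec_ne h
    rw [e]
    simp only [map_mul, hU, hH, hN]

theorem N_one_conj (u : k) : (N 1)⁻¹ * U u * N 1 = V (-u) := by
  rw [mul_assoc, inv_mul_eq_iff_eq_mul]
  refine ext2 ?_
  rw [mm_mul, mm_mul, coe_N one_ne_zero, coe_U, coe_V]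
  ext i j
  (revert i j; simp only [Matrix.mul_apply, Fin.sum_univ_two, _root_.Fin.forall_fin_succ, _root_.inv_one, _root_.Matrix.of_apply, _root_.Matrix.cons_val', _root_.Matrix.cons_val_fin_one, Fin.isValue, _root_.Matrix.cons_val_zero, _root_.Matrix.cons_val_one, _root_.MulZeroClass.mul_zero, _root_.mul_neg, _root_.mul_one, _root_.zero_add, _root_.Matrix.cons_val_succ, _root_.add_zero, _root_.implies_true, _root_.and_true, _root_.one_mul, _root_.MulZeroClass.zero_mul, _root_.neg_zero, _root_.and_self])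

theorem N_one_conj_H {c : k} (hc : c ≠ 0) : N 1 * H c hc * (N 1)⁻¹ = H c⁻¹ (inv_ne_zero hc) := by
  rw [mul_inv_eq_iff_eq_mul]
  refine ext2 ?_
  rw [mm_mul, mm_mul, coe_N one_ne_zero, coe_H, coe_H]
  ext i j
  (revert i j; simp only [Matrix.mul_apply, Fin.sum_univ_two, _root_.Fin.forall_fin_succ, _root_.inv_one, _root_.Matrix.of_apply, _root_.Matrix.cons_val', _root_.Matrix.cons_val_fin_one, Fin.isValue, _root_.Matrix.cons_val_zero, _root_.Matrix.cons_val_one, _root_.inv_inv, _root_.MulZeroClass.mul_zero, _root_.add_zero, _root_.mul_neg, _root_.mul_one, _root_.zero_add, _root_.Matrix.cons_val_succ, _root_.forall_const, _root_.MulZeroClass.zero_mul, _root_.neg_zero, _root_.one_mul, _root_.and_self, _root_.neg_mul, _root_.implies_true])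

theorem H_conj_U {c : k} (hc : c ≠ 0) (u : k) : H c hc * U u * (H c hc)⁻¹ = U (c ^ 2 * u) := by
  rw [mul_inv_eq_iff_eq_mul]
  refine ext2 ?_
  rw [mm_mul, mm_mul, coe_H, coe_U, coe_U]
  ext i j
  (revert i j; simp only [Matrix.mul_apply, Fin.sum_univ_two, _root_.Fin.forall_fin_succ, _root_.Matrix.of_apply, _root_.Matrix.cons_val', _root_.Matrix.cons_val_fin_one, Fin.isValue, _root_.Matrix.cons_val_zero, _root_.Matrix.cons_val_one, _root_.mul_one, _root_.MulZeroClass.mul_zero, _root_.add_zero, _root_.Matrix.cons_val_succ, _root_.zero_add, _root_.forall_const, _root_.one_mul, _root_.MulZeroClass.zero_mul, _root_.implies_true, _root_.and_true, _root_.true_and]) <;> (repeat' with_reducible apply And.intro)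
  field_simp

theorem H_conj_V {c : k} (hc : c ≠ 0) (u : k) : H c hc * V u * (H c hc)⁻¹ = V ((c ^ 2)⁻¹ * u) := by
  rw [mul_inv_eq_iff_eq_mul]
  refine ext2 ?_
  rw [mm_mul, mm_mul, coe_H, coe_V, coe_V]
  ext i j
  (revert i j; simp only [Matrix.mul_apply, Fin.sum_univ_two, _root_.Fin.forall_fin_succ, _root_.Matrix.of_apply, _root_.Matrix.cons_val', _root_.Matrix.cons_val_fin_one, Fin.isValue, _root_.Matrix.cons_val_zero, _root_.Matrix.cons_val_one, _root_.mul_one, _root_.MulZeroClass.mul_zero, _root_.add_zero, _root_.Matrix.cons_val_succ, _root_.zero_add, _root_.forall_const, _root_.MulZeroClass.zero_mul, _root_.one_mul, _root_.and_true, _root_.true_and]) <;> (repeat' with_reducible apply And.intro)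
  field_simp

theorem H_mul {a b : k} (ha : a ≠ 0) (hb : b ≠ 0) : H a ha * H b hb = H (a * b) (mul_ne_zero ha hb) := by
  refine ext2 ?_
  rw [mm_mul, coe_H, coe_H, coe_H]
  ext i j
  (revert i j; simp only [Matrix.mul_apply, Fin.sum_univ_two, mul_comm, _root_.Fin.forall_fin_succ, _root_.Matrix.of_apply, _root_.Matrix.cons_val', _root_.Matrix.cons_val_fin_one, Fin.isValue, _root_.Matrix.cons_val_zero, _root_.Matrix.cons_val_one, _root_.mul_inv_rev, _root_.MulZeroClass.zero_mul, _root_.add_zero, _root_.Matrix.cons_val_succ, _root_.zero_add, _root_.forall_const, _root_.MulZeroClass.mul_zero, _root_.and_self, _root_.implies_true])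

theorem U_inj {a b : k} (h : U a = U b) : a = b := by
  have h1 : mm (U a) 0 1 = mm (U b) 0 1 := by rw [h]
  exact h1

/-- matrices commuting with a diagonal matrix -/
theorem diag_of_comm {c : k} (hc : c ≠ 0) (hc2 : c * c ≠ 1) {A : SL k} (h : A * H c hc = H c hc * A) :
    ∃ (a : k) (ha : a ≠ 0), A = H a ha := by
  have h1 : mm A * !![c, 0; 0, c⁻¹] = !![c, 0; 0, c⁻¹] * mm A := by
    have := congrArg mm h
    rwa [mm_mul, mm_mul, coe_H] at this
  have h01 := congrFun (congrFun h1 0) 1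
  have h10 := congrFun (congrFun h1 1) 0
  simp only [Matrix.mul_apply, Fin.sum_univ_two, _root_.Fin.isValue, _root_.Matrix.of_apply, _root_.Matrix.cons_val', _root_.Matrix.cons_val_one, _root_.Matrix.cons_val_fin_one, _root_.Matrix.cons_val_zero, _root_.MulZeroClass.mul_zero, _root_.zero_add, _root_.MulZeroClass.zero_mul, _root_.add_zero] at h01 h10
  have hcc : c - c⁻¹ ≠ 0 := by
    intro h0
    apply hc2
    have h2 : c = c⁻¹ := sub_eq_zero.1 h0
    nth_rewrite 2 [h2]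
    exact mul_inv_cancel₀ hc
  have e01 : mm A 0 1 = 0 := by
    have : (c - c⁻¹) * mm A 0 1 = 0 := by linear_combination (-1 : k) * h01
    exact (mul_eq_zero.1 this).resolve_left hcc
  have e10 : mm A 1 0 = 0 := by
    have : (c - c⁻¹) * mm A 1 0 = 0 := by linear_combination h10
    exact (mul_eq_zero.1 this).resolve_left hcc
  obtain ⟨h0, e⟩ := dec_zero e10
  refine ⟨_, h0, ?_⟩
  rw [e01, zero_mul, U_zero, one_mul] at e
  exact e

theorem exists_sq_ne [Infinite k] : ∃ c : k, c ≠ 0 ∧ c * c ≠ 1 := by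
  have hp : (Polynomial.X * (Polynomial.X ^ 2 - 1) : Polynomial k) ≠ 0 := by
    refine mul_ne_zero Polynomial.X_ne_zero ?_
    exact Polynomial.X_pow_sub_C_ne_zero (by norm_num) (1 : k)
  obtain ⟨z, hz⟩ := Polynomial.exists_eval_ne_zero_of_natDegree_lt_card _ hp (by
    have : Cardinal.mk k ≥ Cardinal.aleph0 := Cardinal.aleph0_le_mk k
    exact lt_of_lt_of_le (Cardinal.natCast_lt_aleph0) this)
  rw [Polynomial.eval_mul, Polynomial.eval_X, Polynomial.eval_sub, Polynomial.eval_pow, Polynomial.eval_X,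
    Polynomial.eval_one] at hz
  refine ⟨z, left_ne_zero_of_mul hz, fun h => right_ne_zero_of_mul hz ?_⟩
  rw [sq, h, sub_self]

/-! ### the Frobenius map -/

section Frob

variable {l : Type v} [Field l] (g : k →+* l)

theorem mm_map (A : SL k) (i j : Fin 2) : mm (SpecialLinearGroup.map g A) i j = g (mm A i j) := rfl

theorem map_U (s : k) : SpecialLinearGroup.map g (U s) = U (g s) := by
  refine ext2 ?_
  ext i j
  rw [mm_map]
  (revert i j; simp only [coe_U, _root_.Fin.forall_fin_succ, _root_.Matrix.of_apply, _root_.Matrix.cons_val', _root_.Matrix.cons_val_fin_one, Fin.isValue, _root_.Matrix.cons_val_zero, _root_.Matrix.cons_val_succ, _root_.forall_const, _root_.map_one, _root_.and_self, _root_.map_zero, _root_.implies_true])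

theorem map_V (s : k) : SpecialLinearGroup.map g (V s) = V (g s) := by
  refine ext2 ?_
  ext i j
  rw [mm_map]
  (revert i j; simp only [coe_V, _root_.Fin.forall_fin_succ, _root_.Matrix.of_apply, _root_.Matrix.cons_val', _root_.Matrix.cons_val_fin_one, Fin.isValue, _root_.Matrix.cons_val_zero, _root_.Matrix.cons_val_succ, _root_.forall_const, _root_.map_one, _root_.map_zero, _root_.and_self, _root_.implies_true])

theorem map_H {s : k} (hs : s ≠ 0) : SpecialLinearGroup.map g (H s hs) = H (g s) ((map_ne_zero g).2 hs) := by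
  refine ext2 ?_
  ext i j
  rw [mm_map]
  (revert i j; simp only [coe_H, _root_.Fin.forall_fin_succ, _root_.Matrix.of_apply, _root_.Matrix.cons_val', _root_.Matrix.cons_val_fin_one, Fin.isValue, _root_.Matrix.cons_val_zero, _root_.Matrix.cons_val_succ, _root_.forall_const, _root_.map_zero, _root_.and_self, _root_.map_inv₀, _root_.implies_true])

theorem map_N : SpecialLinearGroup.map g (N (1 : k)) = N 1 := by
  unfold N
  rw [map_mul, map_mul, map_U, map_V, map_one, map_neg, map_inv₀, map_one]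

theorem map_inj : Function.Injective (SpecialLinearGroup.map (n := Fin 2) g) := by
  intro A B h
  refine ext2 ?_
  ext i j
  apply g.injective
  rw [← mm_map, ← mm_map, h]

end Frob

section Fix

variable {fr : k →+* k} {q : ℕ} (hfr : ∀ x, fr x = x ^ q)

include hfr

/-- **Lang's theorem for the diagonal matrices.** -/
theorem exists_lang [IsAlgClosed k] (hq : 2 ≤ q) {A : SL k} {b : k} (hb : b ≠ 0)
    (h : A⁻¹ * SpecialLinearGroup.map fr A = H b hb) :
    ∃ (c : k) (hc : c ≠ 0), c ^ (q - 1) = b ∧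
      SpecialLinearGroup.map fr (A * (H c hc)⁻¹) = A * (H c hc)⁻¹ := by
  obtain ⟨c, hc⟩ := IsAlgClosed.exists_pow_nat_eq b (n := q - 1) (by omega)
  have hc0 : c ≠ 0 := by
    rintro rfl
    rw [zero_pow (by omega)] at hc
    exact hb hc.symm
  refine ⟨c, hc0, hc, ?_⟩
  have h1 : SpecialLinearGroup.map fr A = A * H b hb := by rw [← h]; group
  rw [map_mul, map_inv, h1, map_H]
  have h2 : H (fr c) ((map_ne_zero fr).2 hc0) = H b hb * H c hc0 := by
    rw [H_mul]
    congr 1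
    rw [hfr, ← hc, ← pow_succ]
    congr 1
    omega
  have h3 : H b hb * H c hc0 = H c hc0 * H b hb := by
    rw [H_mul, H_mul]
    congr 1
    exact mul_comm _ _
  rw [h2, h3]
  group

variable {F : Type v} [Field F] {f : F →+* k} (hfix : ∀ x : k, x ^ q = x ↔ x ∈ Set.range f)

include hfix

/-- the fixed matrices -/
theorem exists_map {A : SL k} (h : SpecialLinearGroup.map fr A = A) : ∃ A' : SL F, SpecialLinearGroup.map f A' = A := by
  have h1 : ∀ i j, mm A i j ∈ Set.range f := fun i j => by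
    rw [← hfix, ← hfr]
    have := mm_map fr A i j
    rw [h] at this
    exact this.symm
  choose B hB using h1
  have hdet : (Matrix.of B).det = 1 := by
    apply f.injective
    rw [Matrix.det_fin_two, map_sub, map_mul, map_mul, map_one]
    simp only [Matrix.of_apply, hB]
    exact det_eq A
  let A' : SL F := ⟨Matrix.of B, hdet⟩
  refine ⟨A', ext2 ?_⟩
  ext i j
  exact hB i j

omit hfix in
theorem fix_map (hfr' : ∀ a : F, f a ^ q = f a) (A : SL F) :
    SpecialLinearGroup.map fr (SpecialLinearGroup.map f A) = SpecialLinearGroup.map f A := by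
  refine ext2 ?_
  ext i j
  rw [mm_map, mm_map, hfr]
  exact hfr' _

end Fix

end Cfsg.Agent.H448.Van.Rk

private theorem dce_4a329daa8b06 : _root_.True := by
  try have : _root_.True := by simp only [_root_.Cfsg.Agent.H238.SL2Key.H.congr_simp]
  exact _root_.True.intro
end

-- part: H448/Van/RkAbs
section
set_option linter.all false
open scoped Cfsg.Agent.FastGrp

/-!
# A centraliser of rank one in a group of fixed points (helper448)

`Fram` : `φ : SL₂(k) → Y`, a torus `T` of `Y` acting on `φ(U)`, `φ(V)` by the character `χ`, an automorphism `τ` of `Y`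
acting on the image of `φ` as the Frobenius map.
`Fram.rankOne` : if the centraliser in `Y` of an element `t ^ (r ^ b)` of order `r` is `φ(SL₂(k)) T`, the group of the
fixed points of `τ` has a configuration `RankOne`.
-/

set_option autoImplicit false
set_option linter.unusedSectionVars false

namespace Cfsg.Agent.H448.Van.Rk

open Matrix Subgroup
open Cfsg.Agent.H238.SL2Key Cfsg.Agent.H695.OneZero

universe u v w

variable {k : Type u} [Field k] [IsAlgClosed k] {F : Type u} [Field F] [Fintype F] {f : F →+* k} {fr : k →+* k} {q : ℕ}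
  {Y : Type v} [Group Y] {φ : SL k →* Y} {T : Subgroup Y} {χ : Y → k} {τ : MulAut Y}

/-- The frame. -/
structure Fram (f : F →+* k) (fr : k →+* k) (q : ℕ) (φ : SL k →* Y) (T : Subgroup Y) (χ : Y → k) (τ : MulAut Y) :
    Prop where
  hq : Fintype.card F = q
  hfr : ∀ x, fr x = x ^ q
  hfix : ∀ x : k, x ^ q = x ↔ x ∈ Set.range f
  Tc : ∀ s ∈ T, ∀ t ∈ T, s * t = t * s
  χ0 : ∀ s ∈ T, χ s ≠ 0
  χU : ∀ s ∈ T, ∀ u, s * φ (U u) * s⁻¹ = φ (U (χ s * u))
  χV : ∀ s ∈ T, ∀ u, s * φ (V u) * s⁻¹ = φ (V ((χ s)⁻¹ * u))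
  inj : Function.Injective φ
  HT : ∀ c (hc : c ≠ 0), φ (H c hc) ∈ T
  τφ : ∀ A, τ (φ A) = φ (SpecialLinearGroup.map fr A)
  τT : ∀ s, s ∈ T → τ s ∈ T
  surj : ∀ a : F, a ≠ 0 → ∃ s ∈ T, τ s = s ∧ χ s = f a

/-- conjugation as a homomorphism -/
def cjh (φ : SL k →* Y) (g : Y) : SL k →* Y := (MulAut.conj g).toMonoidHom.comp φ

theorem cjh_apply (g : Y) (A : SL k) : cjh φ g A = g * φ A * g⁻¹ := rfl

namespace Fram

variable (X : Fram f fr q φ T χ τ)

include X

theorem two_le : 2 ≤ q := by rw [← X.hq]; exact Fintype.one_lt_card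

/-- the torus acts on the image of `φ` as a diagonal matrix -/
theorem act {s : Y} (hs : s ∈ T) {d : k} (hd : d ≠ 0) (e : d ^ 2 = χ s) (A : SL k) :
    s * φ A * s⁻¹ = φ (H d hd) * φ A * (φ (H d hd))⁻¹ := by
  have h : cjh φ s = cjh φ (φ (H d hd)) := by
    apply hom_ext
    · intro u
      rw [cjh_apply, cjh_apply, X.χU s hs, ← map_inv, ← map_mul, ← map_mul, H_conj_U, e]
    · intro u
      rw [cjh_apply, cjh_apply, X.χV s hs, ← map_inv, ← map_mul, ← map_mul, H_conj_V, e]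
  exact DFunLike.congr_fun h A

theorem exists_sqrt {s : Y} (hs : s ∈ T) : ∃ (d : k) (_ : d ≠ 0), d ^ 2 = χ s := by
  obtain ⟨d, hd⟩ := IsAlgClosed.exists_pow_nat_eq (χ s) (n := 2) (by norm_num)
  refine ⟨d, ?_, hd⟩
  rintro rfl
  rw [zero_pow (by norm_num)] at hd
  exact X.χ0 s hs hd.symm

theorem conj_mem {s : Y} (hs : s ∈ T) (A : SL k) : ∃ B, s * φ A * s⁻¹ = φ B := by
  obtain ⟨d, hd, e⟩ := X.exists_sqrt hs
  exact ⟨_, by rw [X.act hs hd e, ← map_inv, ← map_mul, ← map_mul]⟩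

theorem commute_of_one {s : Y} (hs : s ∈ T) (h1 : χ s = 1) (A : SL k) : s * φ A = φ A * s := by
  have h := X.act hs (d := 1) one_ne_zero (by rw [one_pow, h1]) A
  have e : H (1 : k) one_ne_zero = 1 := by
    refine ext2 ?_
    rw [coe_H, mm_one]
    ext i j
    fin_cases i <;> fin_cases j <;> simp
  rw [e, map_one, one_mul, inv_one, mul_one] at h
  exact mul_inv_eq_iff_eq_mul.1 h

theorem diag_of_mem {A : SL k} (h : φ A ∈ T) : ∃ (a : k) (ha : a ≠ 0), A = H a ha := by
  have : Infinite k := IsAlgClosed.instInfinite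
  obtain ⟨c, hc, hc2⟩ := exists_sq_ne (k := k)
  refine diag_of_comm hc hc2 (X.inj ?_)
  rw [map_mul, map_mul]
  exact X.Tc _ h _ (X.HT c hc)

/-- the centraliser of the image of `φ` in the image -/
theorem center_of {A : SL k} (h : ∀ B, φ A * φ B = φ B * φ A) : ∃ (a : k) (ha : a ≠ 0), A = H a ha ∧ a ^ 2 = 1 := by
  have : Infinite k := IsAlgClosed.instInfinite
  obtain ⟨c, hc, hc2⟩ := exists_sq_ne (k := k)
  obtain ⟨a, ha, rfl⟩ := diag_of_comm hc hc2 (A := A) (X.inj (by rw [map_mul, map_mul]; exact h _))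
  refine ⟨a, ha, rfl, ?_⟩
  have h1 : H a ha * U 1 * (H a ha)⁻¹ = U 1 := by
    apply X.inj
    rw [map_mul, map_mul, h, map_inv]
    group
  rw [H_conj_U, mul_one] at h1
  exact U_inj h1

theorem fix_of {A : SL k} (h : τ (φ A) = φ A) : SpecialLinearGroup.map fr A = A := by
  rw [X.τφ] at h
  exact X.inj h

/-- **The form of the fixed elements of `φ(SL₂) T`.** -/
theorem split {A : SL k} {s : Y} (hs : s ∈ T) (h : τ (φ A * s) = φ A * s) :
    ∃ (A' : SL k) (s' : Y), s' ∈ T ∧ SpecialLinearGroup.map fr A' = A' ∧ τ s' = s' ∧ φ A * s = φ A' * s' := by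
  have h1 : φ (A⁻¹ * SpecialLinearGroup.map fr A) = s * (τ s)⁻¹ := by
    rw [map_mul, X.τφ] at h
    rw [map_mul, map_inv]
    have h2 : φ (SpecialLinearGroup.map fr A) = φ A * s * (τ s)⁻¹ := by rw [← h]; group
    rw [h2]; group
  obtain ⟨b, hb, hB⟩ := X.diag_of_mem (by rw [h1]; exact mul_mem hs (inv_mem (X.τT s hs)))
  obtain ⟨c, hc, -, hfx⟩ := exists_lang X.hfr X.two_le hb hB
  refine ⟨_, φ (H c hc) * s, mul_mem (X.HT c hc) hs, hfx, ?_, ?_⟩
  · have h3 : φ (H c hc) * s = (φ (A * (H c hc)⁻¹))⁻¹ * (φ A * s) := by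
      rw [map_mul, map_inv]; group
    rw [h3, map_mul, map_inv, X.τφ, hfx, h]
  · rw [map_mul, map_inv]; group

/-- **The action of a fixed element.** -/
theorem action {ν g : Y} {A : SL k} (hν : τ ν = ν) (e : ν = φ A * g) {c c' : k} (hc : c ≠ 0)
    (hgU : ∀ u, g * φ (U u) * g⁻¹ = φ (U (c * u))) (hgV : ∀ u, g * φ (V u) * g⁻¹ = φ (V (c' * u))) :
    ∃ (A' : SL k) (s' : Y), s' ∈ T ∧ SpecialLinearGroup.map fr A' = A' ∧ τ s' = s' ∧
      ∀ B, ν * φ B * ν⁻¹ = (φ A' * s') * φ B * (φ A' * s')⁻¹ := by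
  have : Infinite k := IsAlgClosed.instInfinite
  -- the action of `g` on the opposite root group
  have hφ : ∀ s t : k, φ (U s) = φ (V t) → s = 0 ∧ t = 0 := by
    intro s t h
    have h1 := X.inj h
    have h2 : mm (U s) 0 1 = mm (V t) 0 1 := by rw [h1]
    have h3 : mm (U s) 1 0 = mm (V t) 1 0 := by rw [h1]
    exact ⟨h2, h3.symm⟩
  have hcc : c' = c⁻¹ := by
    have h1 := key φ hφ (MulAut.conj g) (f := fun u => c * u) (f' := fun u => c' * u) (fun s => hgU s)
      (fun s => hgV s) (s := -1) (neg_ne_zero.2 one_ne_zero)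
    rw [inv_neg, inv_one, _root_.neg_neg, mul_one, mul_neg, mul_one, inv_neg, _root_.neg_neg] at h1
    exact h1
  obtain ⟨d, hd⟩ := IsAlgClosed.exists_pow_nat_eq c (n := 2) (by norm_num)
  have hd0 : d ≠ 0 := by
    rintro rfl
    rw [zero_pow (by norm_num)] at hd
    exact hc hd.symm
  have hg : ∀ B, g * φ B * g⁻¹ = φ (H d hd0) * φ B * (φ (H d hd0))⁻¹ := by
    have h : cjh φ g = cjh φ (φ (H d hd0)) := by
      apply hom_ext
      · intro u
        rw [cjh_apply, cjh_apply, hgU, ← map_inv, ← map_mul, ← map_mul, H_conj_U, hd]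
      · intro u
        rw [cjh_apply, cjh_apply, hgV, ← map_inv, ← map_mul, ← map_mul, H_conj_V, hd, hcc]
    exact fun B => DFunLike.congr_fun h B
  -- `ν` acts as `φ A₁`
  obtain ⟨A₁, hA₁⟩ : ∃ A₁, A₁ = A * H d hd0 := ⟨_, rfl⟩
  have hν1 : ∀ B, ν * φ B * ν⁻¹ = φ A₁ * φ B * (φ A₁)⁻¹ := by
    intro B
    have h1 : ν * φ B * ν⁻¹ = φ A * (g * φ B * g⁻¹) * (φ A)⁻¹ := by rw [e]; group
    rw [h1, hg, hA₁, map_mul]
    group
  have hfrB : ∀ B : SL k, ∃ B', SpecialLinearGroup.map fr B' = B := by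
    have hsurj : Function.Surjective fr := by
      intro x
      obtain ⟨z, hz⟩ := IsAlgClosed.exists_pow_nat_eq x (n := q) (by have := X.two_le; omega)
      exact ⟨z, by rw [X.hfr, hz]⟩
    intro B
    choose B' hB' using fun i j => hsurj (mm B i j)
    have hdet : (Matrix.of B').det = 1 := by
      apply fr.injective
      rw [Matrix.det_fin_two, map_sub, map_mul, map_mul, map_one]
      simp only [Matrix.of_apply, hB']
      exact det_eq B
    let C : SL k := ⟨Matrix.of B', hdet⟩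
    refine ⟨C, ext2 ?_⟩
    ext i j
    exact hB' i j
  have hcent : ∀ B, φ (A₁⁻¹ * SpecialLinearGroup.map fr A₁) * φ B = φ B * φ (A₁⁻¹ * SpecialLinearGroup.map fr A₁) := by
    intro B
    obtain ⟨B', rfl⟩ := hfrB B
    have h1 := congrArg τ (hν1 B')
    rw [map_mul, map_mul, map_mul, map_mul, map_inv, map_inv, hν, X.τφ, X.τφ, hν1] at h1
    rw [map_mul, map_inv]
    obtain ⟨x, hx⟩ : ∃ x, x = φ A₁ := ⟨_, rfl⟩
    obtain ⟨y, hy⟩ : ∃ y, y = φ (SpecialLinearGroup.map fr A₁) := ⟨_, rfl⟩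
    obtain ⟨z, hz⟩ : ∃ z, z = φ (SpecialLinearGroup.map fr B') := ⟨_, rfl⟩
    rw [← hx, ← hy, ← hz] at h1 ⊢
    calc x⁻¹ * y * z = x⁻¹ * (y * z * y⁻¹) * y := by group
      _ = x⁻¹ * (x * z * x⁻¹) * y := by rw [h1]
      _ = z * (x⁻¹ * y) := by group
  obtain ⟨b, hb, hB, hb2⟩ := X.center_of hcent
  obtain ⟨c0, hc0, hcb, hfx⟩ := exists_lang X.hfr X.two_le hb hB
  -- `c0 ^ 2` is fixed
  have h2 : (c0 ^ 2) ^ q = c0 ^ 2 := by
    have hq1 : q = (q - 1) + 1 := by have := X.two_le; omega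
    rw [hq1, pow_succ, ← pow_mul, mul_comm 2, pow_mul, hcb, hb2, one_mul]
  obtain ⟨a, ha⟩ := (X.hfix _).1 h2
  have ha0 : a ≠ 0 := by
    rintro rfl
    rw [map_zero] at ha
    exact pow_ne_zero 2 hc0 ha.symm
  obtain ⟨s, hs, hτs, hχs⟩ := X.surj a ha0
  refine ⟨_, s, hs, hfx, hτs, fun B => ?_⟩
  have h3 := X.act hs hc0 (by rw [hχs, ha]) B
  have h4 : φ (A₁ * (H c0 hc0)⁻¹) * s * φ B * (φ (A₁ * (H c0 hc0)⁻¹) * s)⁻¹ =
      φ (A₁ * (H c0 hc0)⁻¹) * (s * φ B * s⁻¹) * (φ (A₁ * (H c0 hc0)⁻¹))⁻¹ := by group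
  rw [h4, h3, hν1, map_mul, map_inv]
  group

end Fram

end Cfsg.Agent.H448.Van.Rk
end

-- part: H448/Van/RkMain
section
prune_inst 0x4310075051d8012000004009473001ee7ff000592006b800089260f040f81c52040068761b890131a90daa2d440390048111001f0424000000e008c0001180180048b02043024a008100008009884000000000000000000000000000000000004000000000
set_option linter.all false
open scoped Cfsg.Agent.FastGrp

/-!
# The configuration of rank one in a group of fixed points (helper448)
-/

set_option autoImplicit false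
set_option linter.unusedSectionVars false

namespace Cfsg.Agent.H448.Van.Rk

open Matrix Subgroup
open Cfsg.Agent.H238.SL2Key Cfsg.Agent.H695.OneZero

universe u v w

variable {k : Type u} [Field k] [IsAlgClosed k] {F : Type u} [Field F] [Fintype F] {f : F →+* k} {fr : k →+* k} {q : ℕ}
  {Y : Type v} [Group Y] {φ : SL k →* Y} {T : Subgroup Y} {χ : Y → k} {τ : MulAut Y}

/-- the upper unitriangular matrices -/
def Uh (k : Type u) [Field k] : Multiplicative k →* SL k where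
  toFun u := U (Multiplicative.toAdd u)
  map_one' := U_zero
  map_mul' a b := U_add _ _

/-- the diagonal matrices -/
def Hh (k : Type u) [Field k] : kˣ →* SL k where
  toFun c := H (c : k) c.ne_zero
  map_one' := by
    refine ext2 ?_
    rw [coe_H, mm_one]
    ext i j
    fin_cases i <;> fin_cases j <;> simp
  map_mul' a b := (H_mul a.ne_zero b.ne_zero).symm

namespace Fram

variable (X : Fram f fr q φ T χ τ) {G : Type w} [Group G] [Finite G] {ψ : G →* Y} (hψ : Function.Injective ψ)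
  (hrange : ∀ y, y ∈ ψ.range ↔ τ y = y)

include X hψ hrange

theorem rankOne {p e r b m : ℕ} [Fact p.Prime] (hqp : q = p ^ e) (htors : ∀ s ∈ T, s ^ p = 1 → s = 1)
    {t : Y} (ht : t ∈ T) (hτt : τ t = t) (hχt : χ t = 1) (hto : orderOf t = r ^ (b + 1)) (hr : r.Prime)
    (hG : Nat.card G = r ^ (b + 1) * m) (hm : ¬ r ∣ m) (hrq : ¬ r ∣ q * (q ^ 2 - 1))
    (hcent : ∀ c, c * t ^ r ^ b = t ^ r ^ b * c → ∃ A, ∃ s ∈ T, c = φ A * s)
    (hnorm : ∀ (ν : Y) (j : ℕ), ν * t * ν⁻¹ = t ^ j → ∃ (A : SL k) (g : Y) (c c' : k), ν = φ A * g ∧ c ≠ 0 ∧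
      (∀ u, g * φ (U u) * g⁻¹ = φ (U (c * u))) ∧ ∀ u, g * φ (V u) * g⁻¹ = φ (V (c' * u)))
    (hncj : ∀ y : G, ψ y = t ^ r ^ b → ∃ j : ℕ, ¬ r ∣ j ∧ ¬ IsConj y (y ^ j)) : RankOneAt G p r q := by
  have hfac : Fact r.Prime := ⟨hr⟩
  have hp : p.Prime := Fact.out
  have lift : ∀ {y : Y}, τ y = y → ∃ g, ψ g = y := fun {y} h => (hrange y).2 h
  have hfixed : ∀ g, τ (ψ g) = ψ g := fun g => (hrange _).1 ⟨g, rfl⟩
  obtain ⟨tR, htR⟩ := lift hτt
  have htRo : orderOf tR = r ^ (b + 1) := by rw [← hto, ← htR, orderOf_injective ψ hψ]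
  obtain ⟨y, hy⟩ : ∃ y, y = tR ^ r ^ b := ⟨_, rfl⟩
  have hψy : ψ y = t ^ r ^ b := by rw [hy, map_pow, htR]
  have hyo : orderOf y = r := by
    rw [hy, orderOf_pow' tR (pow_ne_zero _ hr.ne_zero), htRo, Nat.gcd_eq_right (pow_dvd_pow r (Nat.le_succ b)),
      pow_succ, Nat.mul_div_cancel_left _ (pow_pos hr.pos b)]
  have hyT : t ^ r ^ b ∈ T := pow_mem ht _
  -- the subgroups
  let K : Subgroup G := φ.range.comap ψ
  let UG : Subgroup G := ((φ.comp (Uh k)).range).comap ψ
  let TK : Subgroup G := ((φ.comp (Hh k)).range).comap ψ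
  let TC : Subgroup G := T.comap ψ
  have mK : ∀ g, g ∈ K ↔ ∃ A, φ A = ψ g := fun g => Iff.rfl
  have mU : ∀ g, g ∈ UG ↔ ∃ u, φ (U u) = ψ g := fun g =>
    ⟨fun ⟨u, hu⟩ => ⟨_, hu⟩, fun ⟨u, hu⟩ => ⟨Multiplicative.ofAdd u, hu⟩⟩
  have mTK : ∀ g, g ∈ TK ↔ ∃ (c : k) (hc : c ≠ 0), φ (H c hc) = ψ g := fun g =>
    ⟨fun ⟨u, hu⟩ => ⟨_, u.ne_zero, hu⟩, fun ⟨u, hu0, hu⟩ => ⟨Units.mk0 u hu0, hu⟩⟩
  have mTC : ∀ g, g ∈ TC ↔ ψ g ∈ T := fun g => Iff.rfl
  have ht1 : ∀ A, t * φ A = φ A * t := fun A => X.commute_of_one ht hχt A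
  have hcy : ∀ {c : G}, Commute c y ↔ ψ c * t ^ r ^ b = t ^ r ^ b * ψ c := by
    intro c
    rw [← hψy, ← map_mul, ← map_mul]
    exact ⟨fun h => by rw [h.eq], fun h => hψ h⟩
  -- elements of `K`
  have Kfix : ∀ {g : G} {A : SL k}, φ A = ψ g → SpecialLinearGroup.map fr A = A := by
    intro g A h
    exact X.fix_of (by rw [h]; exact hfixed g)
  have liftA : ∀ {A : SL k}, SpecialLinearGroup.map fr A = A → ∃ g, ψ g = φ A := by
    intro A h
    exact lift (by rw [X.τφ, h])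
  have hN1 : SpecialLinearGroup.map fr (N (1 : k)) = N 1 := map_N fr
  obtain ⟨n0, hn0⟩ := liftA hN1
  -- commuting with `y`
  have hTy : ∀ s ∈ T, s * t ^ r ^ b = t ^ r ^ b * s := fun s hs => X.Tc s hs _ hyT
  have hφy : ∀ A, φ A * t ^ r ^ b = t ^ r ^ b * φ A := fun A => by
    have h : Commute (φ A) t := (ht1 A).symm
    exact (h.pow_right _).eq
  have hcent' : ∀ c : G, Commute c y → ∃ (A : SL k) (s : Y), s ∈ T ∧ SpecialLinearGroup.map fr A = A ∧ τ s = s ∧
      ψ c = φ A * s := by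
    intro c hc
    obtain ⟨A, s, hs, e⟩ := hcent _ (hcy.1 hc)
    obtain ⟨A', s', h1, h2, h3, h4⟩ := X.split hs (by rw [← e]; exact hfixed c)
    exact ⟨A', s', h1, h2, h3, by rw [e, h4]⟩
  -- the orders
  have hfa : ∀ a : F, f a ^ q = f a := fun a => (X.hfix _).2 ⟨a, rfl⟩
  have hcardU : Nat.card UG = q := by
    have h1 : Nat.card (UG.map ψ) = Nat.card UG := Nat.card_congr (UG.equivMapOfInjective ψ hψ).symm.toEquiv
    rw [← h1, ← X.hq, ← Nat.card_eq_fintype_card]
    refine (Nat.card_congr (Equiv.ofBijective (fun a : F => (⟨φ (U (f a)), ?_⟩ : ↥(UG.map ψ))) ⟨?_, ?_⟩)).symm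
    · obtain ⟨g, hg⟩ := liftA (A := U (f a)) (by rw [map_U, X.hfr, hfa])
      exact ⟨g, (mU g).2 ⟨_, hg.symm⟩, hg⟩
    · intro a a' h
      exact f.injective (U_inj (X.inj (congrArg Subtype.val h)))
    · rintro ⟨_, g, hg, rfl⟩
      obtain ⟨u, hu⟩ := (mU g).1 hg
      have h2 := Kfix hu
      rw [map_U, X.hfr] at h2
      obtain ⟨a, rfl⟩ := (X.hfix u).1 (U_inj h2)
      exact ⟨a, Subtype.ext hu⟩
  have hcardK : Nat.card K = q * (q ^ 2 - 1) := by
    have h1 : Nat.card (K.map ψ) = Nat.card K := Nat.card_congr (K.equivMapOfInjective ψ hψ).symm.toEquiv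
    rw [← h1, ← X.hq, ← H356.OrthTorus.card_SL2]
    refine (Nat.card_congr (Equiv.ofBijective
      (fun A : SL F => (⟨φ (SpecialLinearGroup.map f A), ?_⟩ : ↥(K.map ψ))) ⟨?_, ?_⟩)).symm
    · obtain ⟨g, hg⟩ := liftA (fix_map X.hfr hfa A)
      exact ⟨g, (mK g).2 ⟨_, hg.symm⟩, hg⟩
    · intro a a' h
      exact map_inj f (X.inj (congrArg Subtype.val h))
    · rintro ⟨_, g, hg, rfl⟩
      obtain ⟨A, hA⟩ := (mK g).1 hg
      obtain ⟨A', rfl⟩ := exists_map X.hfr X.hfix (Kfix hA)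
      exact ⟨A', Subtype.ext hA⟩
  refine ⟨y, zpowers tR, K, UG, TK, TC, n0, ?_⟩
  exact
  { ord := hyo
    mem := by rw [hy]; exact npow_mem_zpowers tR _
    cyc := inferInstance
    pgr := IsPGroup.of_card (n := b + 1) (by rw [Nat.card_zpowers, htRo])
    ind := by
      have h1 := (zpowers tR).index_mul_card
      rw [Nat.card_zpowers, htRo, hG, mul_comm] at h1
      rw [Nat.eq_of_mul_eq_mul_left (pow_pos hr.pos (b + 1)) h1]
      exact hm
    cent := by
      intro g hg x hx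
      obtain ⟨A, s, hs, e⟩ := hcent _ (hcy.1 hg)
      have h1 : ψ g * t = t * ψ g := by
        rw [e]
        calc φ A * s * t = φ A * (s * t) := by group
          _ = φ A * (t * s) := by rw [X.Tc s hs t ht]
          _ = (φ A * t) * s := by group
          _ = (t * φ A) * s := by rw [ht1]
          _ = _ := by group
      have h2 : Commute g tR := hψ (by rw [map_mul, map_mul, htR, h1])
      obtain ⟨n, rfl⟩ := hx
      exact h2.zpow_right n
    ncj := hncj y hψy
    KC := by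
      intro g hg
      obtain ⟨A, hA⟩ := (mK g).1 hg
      rw [hcy, ← hA]
      exact hφy A
    Kr := by rw [hcardK]; exact hrq
    UK := by
      intro g hg
      obtain ⟨u, hu⟩ := (mU g).1 hg
      exact (mK g).2 ⟨_, hu⟩
    TKK := by
      intro g hg
      obtain ⟨c, hc, h⟩ := (mTK g).1 hg
      exact (mK g).2 ⟨_, h⟩
    n0K := (mK n0).2 ⟨_, hn0.symm⟩
    NK := by
      intro n hn
      obtain ⟨j, hj⟩ : ∃ j : ℕ, n * tR * n⁻¹ = tR ^ j := by
        have h1 : n * tR * n⁻¹ ∈ zpowers tR := (mem_normalizer_iff.1 hn tR).1 (mem_zpowers tR)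
        rw [← mem_powers_iff_mem_zpowers] at h1
        obtain ⟨j, hj⟩ := h1
        exact ⟨j, hj.symm⟩
      have hj' : ψ n * t * (ψ n)⁻¹ = t ^ j := by
        rw [← htR, ← map_pow, ← hj, map_mul, map_mul, map_inv]
      obtain ⟨A, g, c, c', e, hc, hgU, hgV⟩ := hnorm _ _ hj'
      obtain ⟨A', s', hs', hfx, hτs, hact⟩ := X.action (hfixed n) e hc hgU hgV
      obtain ⟨c1, hc1⟩ := lift (y := φ A' * s') (by rw [map_mul, X.τφ, hfx, hτs])
      refine ⟨c1, ?_, fun k hk => ?_⟩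
      · rw [hcy, hc1]
        calc φ A' * s' * t ^ r ^ b = φ A' * (s' * t ^ r ^ b) := by group
          _ = φ A' * (t ^ r ^ b * s') := by rw [hTy s' hs']
          _ = (φ A' * t ^ r ^ b) * s' := by group
          _ = (t ^ r ^ b * φ A') * s' := by rw [hφy]
          _ = _ := by group
      · obtain ⟨B, hB⟩ := (mK k).1 hk
        apply hψ
        rw [map_mul, map_mul, map_mul, map_mul, map_inv, map_inv, ← hB, hact, hc1]
    CK := by
      intro c hc
      obtain ⟨A, s, hs, hA, hτs, e⟩ := hcent' c hc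
      obtain ⟨k1, hk1⟩ := liftA hA
      obtain ⟨t1, ht1'⟩ := lift hτs
      exact ⟨k1, (mK _).2 ⟨_, hk1.symm⟩, t1, (mTC _).2 (by rw [ht1']; exact hs),
        hψ (by rw [e, map_mul, hk1, ht1'])⟩
    Kn := by
      intro t' ht' k' hk'
      obtain ⟨B, hB⟩ := (mK k').1 hk'
      rw [mK, map_mul, map_mul, map_inv, ← hB]
      obtain ⟨B', hB'⟩ := X.conj_mem ((mTC t').1 ht') B
      exact ⟨B', hB'.symm⟩
    bru := by
      intro g hg
      obtain ⟨A, hA⟩ := (mK g).1 hg
      have hfx := Kfix hA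
      have hent : ∀ i j, fr (mm A i j) = mm A i j := fun i j => by rw [← mm_map, hfx]
      by_cases h : mm A 1 0 = 0
      · left
        obtain ⟨h0, e⟩ := dec_zero h
        obtain ⟨u1, hu1⟩ := liftA (A := U (mm A 0 1 * mm A 0 0)) (by rw [map_U, map_mul, hent, hent])
        obtain ⟨t1, ht1'⟩ := liftA (A := H (mm A 0 0) h0) (by rw [map_H]; congr 1; exact hent 0 0)
        refine ⟨u1, (mU _).2 ⟨_, hu1.symm⟩, t1, (mTK _).2 ⟨_, _, ht1'.symm⟩, hψ ?_⟩
        rw [map_mul, hu1, ht1', ← map_mul, ← hA]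
        exact congrArg φ e
      · right
        obtain ⟨h0, e⟩ := dec_ne h
        obtain ⟨u1, hu1⟩ := liftA (A := U (mm A 0 0 / mm A 1 0)) (by rw [map_U, map_div₀, hent, hent])
        obtain ⟨t1, ht1'⟩ := liftA (A := H (-(mm A 1 0)⁻¹) h0) (by
          rw [map_H]; congr 1; rw [map_neg, map_inv₀, hent])
        obtain ⟨v1, hv1⟩ := liftA (A := U (mm A 1 1 / mm A 1 0)) (by rw [map_U, map_div₀, hent, hent])
        refine ⟨u1, (mU _).2 ⟨_, hu1.symm⟩, t1, (mTK _).2 ⟨_, _, ht1'.symm⟩, v1, (mU _).2 ⟨_, hv1.symm⟩, hψ ?_⟩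
        rw [map_mul, map_mul, map_mul, hu1, ht1', hv1, hn0, ← map_mul, ← map_mul, ← map_mul, ← hA]
        exact congrArg φ e
    TCy := by
      intro t' ht'
      rw [hcy]
      exact hTy _ ((mTC t').1 ht')
    TCU := by
      intro t' ht' u hu
      obtain ⟨x, hx⟩ := (mU u).1 hu
      rw [mU, map_mul, map_mul, map_inv, ← hx]
      exact ⟨_, (X.χU _ ((mTC t').1 ht') x).symm⟩
    TCT := by
      intro t' ht' s hs
      obtain ⟨c, hc, h⟩ := (mTK s).1 hs
      refine hψ ?_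
      rw [map_mul, map_mul]
      exact X.Tc _ ((mTC t').1 ht') _ (by rw [← h]; exact X.HT c hc)
    TKC := by
      intro s hs
      obtain ⟨c, hc, h⟩ := (mTK s).1 hs
      rw [mTC, ← h]
      exact X.HT c hc
    disj := by
      intro u hu v hv t' ht' h
      obtain ⟨x, hx⟩ := (mU u).1 hu
      obtain ⟨z, hz⟩ := (mU v).1 hv
      obtain ⟨c, hc, hcs⟩ := (mTK t').1 ht'
      have h1 := congrArg ψ h
      rw [map_mul, map_mul, map_mul, map_inv, ← hx, ← hz, ← hcs, hn0, ← map_inv, ← map_mul, ← map_mul, ← map_mul,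
        N_one_conj] at h1
      have h2 := congrArg (fun A => mm A 1 0) (X.inj h1)
      simp only [mm_mul, coe_V, coe_U, coe_H] at h2
      simp [Matrix.mul_apply, Fin.sum_univ_two] at h2
      apply hψ
      rw [← hx, h2, U_zero, map_one, map_one]
    n0T := by
      intro s hs
      obtain ⟨c, hc, h⟩ := (mTK s).1 hs
      rw [mTK, map_mul, map_mul, map_inv, ← h, hn0, ← map_inv, ← map_mul, ← map_mul, N_one_conj_H]
      exact ⟨_, _, rfl⟩
    cardU := hcardU
    pU := IsPGroup.of_card (n := e) (by rw [hcardU, hqp])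
    TCp := by
      intro hpd
      obtain ⟨⟨g, hg⟩, hgo⟩ := exists_prime_orderOf_dvd_card' p hpd
      rw [Subgroup.orderOf_mk] at hgo
      have h1 : ψ g = 1 := htors _ ((mTC g).1 hg) (by rw [← map_pow, ← hgo, pow_orderOf_eq_one, map_one])
      have h2 : g = 1 := hψ (by rw [h1, map_one])
      rw [h2, orderOf_one] at hgo
      exact hp.one_lt.ne hgo }

end Fram

end Cfsg.Agent.H448.Van.Rk
end

-- part: H604/OZ/HNKillOf
section
prune_inst 0xc12020010880120000040086110020854d0005900020000098660c040006d1204900a94040801d02100aa20000010008110000f000400000040004000000010000a95206b118000c00008e003086000000000000000000000000000000041004000000000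
set_option linter.all false
open scoped Cfsg.Agent.FastGrp

-- part: H604/OZ/Syl
section
/-!
# Centralizers of `p`-elements (helper604, for the sporadic rows of S4842)

`exists_conj_le`    : a `p`-subgroup is conjugate into a given Sylow `p`-subgroup `P`;
`pow_dvd_cent`      : `p ^ k ≤ |C_P(x)|` for all `x ∈ P`: `p ^ k ∣ |C_K(x)|` for all `p`-elements `x`;
`not_pow_dvd_cent`  : `|C_P(x)| < p ^ k` for all `x ∈ P` of order `o`: `p ^ k ∤ |C_K(x)|` for all `x` of order `o`;
`sq_dvd_cent`       : `p ^ 2 ∣ |K|`, `x` a `p`-element: `p ^ 2 ∣ |C_K(x)|`.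
-/

set_option autoImplicit false

namespace Cfsg.Agent.H604.OZ

open Subgroup

variable {K : Type*} [Group K]

/-- a `p`-subgroup is conjugate to a subgroup of a given Sylow subgroup -/
theorem exists_conj_le [Finite K] {p : ℕ} [Fact p.Prime] {P : Subgroup K} (hP : IsPGroup p P)
    (hi : ¬ p ∣ P.index) {T : Subgroup K} (hT : IsPGroup p T) : ∃ x : K, ∀ g ∈ T, x * g * x⁻¹ ∈ P := by
  obtain ⟨Q, hQ⟩ := hT.exists_le_sylow
  obtain ⟨x, hx⟩ := MulAction.exists_smul_eq K Q (hP.toSylow hi)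
  refine ⟨x, fun g hg => ?_⟩
  have h2 : (Q : Subgroup K).map (MulAut.conj x).toMonoidHom = P :=
    congrArg (fun S : Sylow p K => (S : Subgroup K)) hx
  rw [← h2]
  exact ⟨g, hQ hg, rfl⟩

theorem isPGroup_zpowers {p : ℕ} {x : K} {n : ℕ} (hx : orderOf x = p ^ n) : IsPGroup p (zpowers x) :=
  IsPGroup.of_card (n := n) (by rw [Nat.card_zpowers, hx])

/-- the order of the centralizer is a class function -/
theorem card_cent_conj (g x : K) :
    Nat.card (centralizer ({g * x * g⁻¹} : Set K)) = Nat.card (centralizer ({x} : Set K)) := by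
  symm
  refine Nat.card_congr ((MulAut.conj g).toEquiv.subtypeEquiv fun a => ?_)
  rw [mem_centralizer_singleton_iff, mem_centralizer_singleton_iff]
  change a * x = x * a ↔ g * a * g⁻¹ * (g * x * g⁻¹) = g * x * g⁻¹ * (g * a * g⁻¹)
  constructor
  · intro h
    calc g * a * g⁻¹ * (g * x * g⁻¹) = g * (a * x) * g⁻¹ := by group
      _ = g * (x * a) * g⁻¹ := by rw [h]
      _ = _ := by group
  · intro h
    calc a * x = g⁻¹ * (g * a * g⁻¹ * (g * x * g⁻¹)) * g := by group
      _ = g⁻¹ * (g * x * g⁻¹ * (g * a * g⁻¹)) * g := by rw [h]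
      _ = x * a := by group

/-- all `p`-elements have a centralizer of order divisible by `p ^ k` -/
theorem pow_dvd_cent [Finite K] {p : ℕ} [hp : Fact p.Prime] {P : Subgroup K} (hP : IsPGroup p P)
    (hi : ¬ p ∣ P.index) {k : ℕ} (h : ∀ x ∈ P, p ^ k ≤ Nat.card ↥(P ⊓ centralizer ({x} : Set K))) {x : K} {n : ℕ}
    (hx : orderOf x = p ^ n) : p ^ k ∣ Nat.card (centralizer ({x} : Set K)) := by
  obtain ⟨g, hg⟩ := exists_conj_le hP hi (isPGroup_zpowers hx)
  have h1 := hg x (mem_zpowers x)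
  have h2 := h _ h1
  have h3 : IsPGroup p ↥(P ⊓ centralizer ({g * x * g⁻¹} : Set K)) := hP.to_le inf_le_left
  obtain ⟨m, hm⟩ := IsPGroup.iff_card.1 h3
  rw [← card_cent_conj g x]
  refine Dvd.dvd.trans ?_ (card_dvd_of_le (inf_le_right (a := P)))
  rw [hm] at h2 ⊢
  exact pow_dvd_pow p ((Nat.pow_le_pow_iff_right hp.out.one_lt).1 h2)

/-- all elements of order `o` have a centralizer of order not divisible by `p ^ k` -/
theorem not_pow_dvd_cent [Finite K] {p : ℕ} [hp : Fact p.Prime] {P : Subgroup K} (hP : IsPGroup p P)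
    (hi : ¬ p ∣ P.index) {k n : ℕ}
    (h : ∀ x ∈ P, orderOf x = p ^ n → Nat.card ↥(P ⊓ centralizer ({x} : Set K)) < p ^ k) {x : K}
    (hx : orderOf x = p ^ n) : ¬ p ^ k ∣ Nat.card (centralizer ({x} : Set K)) := by
  intro hd
  -- a subgroup of order `p ^ k` of the centralizer
  obtain ⟨T, hT⟩ := Sylow.exists_subgroup_card_pow_prime p hd
  have hTp : IsPGroup p T := IsPGroup.of_card hT
  let T' : Subgroup K := T.map (centralizer ({x} : Set K)).subtype
  have hT' : IsPGroup p T' := hTp.map _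
  have hTc : Nat.card T' = p ^ k := by
    rw [← hT]
    exact (Nat.card_congr (T.equivMapOfInjective _ (centralizer ({x} : Set K)).subtype_injective).toEquiv).symm
  have hle : T' ≤ centralizer ({x} : Set K) := by
    rintro _ ⟨t, _, rfl⟩
    exact t.2
  have hnorm : zpowers x ≤ normalizer (T' : Set K) := by
    rw [zpowers_le, mem_normalizer_iff]
    intro g
    have h2 : ∀ t ∈ T', x * t * x⁻¹ = t := fun t ht => by
      rw [← mem_centralizer_singleton_iff.1 (hle ht), mul_inv_cancel_right]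
    constructor
    · intro hg
      rwa [h2 g hg]
    · intro hg
      have h3 := h2 _ hg
      have h4 : x * g * x⁻¹ = g := mul_left_cancel (a := x) (mul_right_cancel (b := x⁻¹) h3)
      rwa [h4] at hg
  have hsup : IsPGroup p ↥(zpowers x ⊔ T') := (isPGroup_zpowers hx).to_sup_of_normal_right' hT' hnorm
  obtain ⟨g, hg⟩ := exists_conj_le hP hi hsup
  have h1 := hg x (mem_sup_left (mem_zpowers x))
  have ho : orderOf (g * x * g⁻¹) = p ^ n := by
    rw [← hx]
    exact orderOf_injective (MulAut.conj g).toMonoidHom (MulAut.conj g).injective x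
  have h2 := h _ h1 ho
  have h3 : T'.map (MulAut.conj g).toMonoidHom ≤ P ⊓ centralizer ({g * x * g⁻¹} : Set K) := by
    rintro _ ⟨t, ht, rfl⟩
    refine ⟨hg t (mem_sup_right ht), mem_centralizer_singleton_iff.2 ?_⟩
    change g * t * g⁻¹ * (g * x * g⁻¹) = g * x * g⁻¹ * (g * t * g⁻¹)
    have h4 := mem_centralizer_singleton_iff.1 (hle ht)
    calc g * t * g⁻¹ * (g * x * g⁻¹) = g * (t * x) * g⁻¹ := by group
      _ = g * (x * t) * g⁻¹ := by rw [h4]
      _ = _ := by group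
  have h4 : Nat.card ↥(T'.map (MulAut.conj g).toMonoidHom) = p ^ k := by
    rw [← hTc]
    exact (Nat.card_congr (T'.equivMapOfInjective _ (MulAut.conj g).injective).toEquiv).symm
  have h5 := card_le_of_le h3
  rw [h4] at h5
  omega

/-- `p ^ 2` divides the order of the centralizer of a `p`-element -/
theorem sq_dvd_cent [Finite K] {p : ℕ} [hp : Fact p.Prime] (h2 : p ^ 2 ∣ Nat.card K) {x : K} {n : ℕ}
    (hx : orderOf x = p ^ n) (hx1 : x ≠ 1) : p ^ 2 ∣ Nat.card (centralizer ({x} : Set K)) := by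
  let P : Sylow p K := default
  have hi : ¬ p ∣ (P : Subgroup K).index := P.not_dvd_index
  have hPc : p ^ 2 ∣ Nat.card (P : Subgroup K) := by
    have h3 := (P : Subgroup K).card_mul_index
    rw [← h3] at h2
    exact (Nat.Coprime.pow_left 2 ((Nat.Prime.coprime_iff_not_dvd hp.out).2 hi)).dvd_of_dvd_mul_right h2
  obtain ⟨g, hg⟩ := exists_conj_le P.isPGroup' hi (isPGroup_zpowers hx)
  have h1 := hg x (mem_zpowers x)
  set y := g * x * g⁻¹ with hy
  have hy1 : y ≠ 1 := fun h => hx1 (by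
    have h4 : x = g⁻¹ * y * g := by rw [hy]; group
    rw [h4, h]; group)
  rw [← card_cent_conj g x]
  have h3 : IsPGroup p ↥((P : Subgroup K) ⊓ centralizer ({y} : Set K)) := P.isPGroup'.to_le inf_le_left
  obtain ⟨m, hm⟩ := IsPGroup.iff_card.1 h3
  refine Dvd.dvd.trans ?_ (card_dvd_of_le (inf_le_right (a := (P : Subgroup K))))
  rw [hm]
  refine pow_dvd_pow p ?_
  by_contra hlt
  have hm1 : m ≤ 1 := by omega
  -- the centre of `P` is generated by `y`
  have hPn : Nontrivial (P : Subgroup K) := by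
    rw [← Finite.one_lt_card_iff_nontrivial]
    have := Nat.le_of_dvd Nat.card_pos hPc
    have h5 : 1 < p ^ 2 := Nat.one_lt_pow (by norm_num) hp.out.one_lt
    omega
  have hZ : Nontrivial (center (P : Subgroup K)) := P.isPGroup'.center_nontrivial
  obtain ⟨z, hz⟩ := exists_ne (1 : center (P : Subgroup K))
  have hzp : ∀ t ∈ (P : Subgroup K), t * (z : K) = (z : K) * t := fun t ht => by
    have := (mem_center_iff.1 z.2) ⟨t, ht⟩
    exact congrArg Subtype.val this
  have hz1 : ((z : (P : Subgroup K)) : K) ≠ 1 := fun h => hz (Subtype.ext (Subtype.ext h))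
  have hzC : ((z : (P : Subgroup K)) : K) ∈ (P : Subgroup K) ⊓ centralizer ({y} : Set K) :=
    ⟨(z : (P : Subgroup K)).2, mem_centralizer_singleton_iff.2 (hzp y h1).symm⟩
  have hyC : y ∈ (P : Subgroup K) ⊓ centralizer ({y} : Set K) := ⟨h1, mem_centralizer_singleton_iff.2 rfl⟩
  -- the group of order `p` is generated by any nontrivial element
  have hcp : Nat.card ↥((P : Subgroup K) ⊓ centralizer ({y} : Set K)) = p := by
    rw [hm]
    have h6 : m ≠ 0 := by
      rintro rfl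
      rw [pow_zero] at hm
      have h7 := (Subgroup.eq_bot_of_card_eq _ hm)
      rw [h7, mem_bot] at hyC
      exact hy1 hyC
    have h7 : m = 1 := by omega
    rw [h7, pow_one]
  have hgen : ∀ t : K, t ∈ (P : Subgroup K) ⊓ centralizer ({y} : Set K) → t ∈ zpowers ((z : (P : Subgroup K)) : K) := by
    have h6 : zpowers ((z : (P : Subgroup K)) : K) = (P : Subgroup K) ⊓ centralizer ({y} : Set K) := by
      refine Subgroup.eq_of_le_of_card_ge (zpowers_le.2 hzC) ?_
      rw [hcp, Nat.card_zpowers]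
      have h7 := _root_.orderOf_dvd_natCard (⟨_, hzC⟩ : ↥((P : Subgroup K) ⊓ centralizer ({y} : Set K)))
      rw [Subgroup.orderOf_mk, hcp] at h7
      rcases (Nat.dvd_prime hp.out).1 h7 with h8 | h8
      · exact absurd (orderOf_eq_one_iff.1 h8) hz1
      · omega
    intro t ht
    rw [h6]
    exact ht
  obtain ⟨j, hj⟩ := mem_zpowers_iff.1 (hgen y hyC)
  have hPle : (P : Subgroup K) ≤ (P : Subgroup K) ⊓ centralizer ({y} : Set K) := by
    intro t ht
    refine ⟨ht, mem_centralizer_singleton_iff.2 ?_⟩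
    rw [← hj]
    have h8 : Commute t ((z : (P : Subgroup K)) : K) := hzp t ht
    exact (h8.zpow_right j).eq
  have h9 := card_le_of_le hPle
  rw [hcp] at h9
  have h10 := Nat.le_of_dvd Nat.card_pos hPc
  have h11 : p < p ^ 2 := by
    have := hp.out.one_lt
    nlinarith only [this]
  omega

end Cfsg.Agent.H604.OZ
end

-- part: H604/OZ/HNNine
section
/-!
# 3-elements of the Harada-Norton group (helper604, for the HN row of S4842)

`P = Q⟨F⟩` is the Sylow 3-subgroup of `H285.Ccp.HNThree`, `K = ⟨B, D, W⟩`, `P / K` is elementary abelian of order 27.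

* `dvd_cent_three` : a 3-element `x` has `27 ∣ |C(x)|`;
* `not_dvd_cent_nine` : an element `x` of order 9 has `81 ∤ |C(x)|`.
-/

set_option autoImplicit false

namespace Cfsg.Agent.H604.OZ.HN

open Subgroup Cfsg Cfsg.Agent.H839.Rad.Ext Cfsg.Agent.H285.HN3

/-- the shape of an element of `Q` -/
def Sh (x : Spor.HN) (i j u l : ℤ) : Prop := ∃ m : ℤ, x = nf W A B C₁ D i j u l m

theorem Sh.mul {x y : Spor.HN} {i j u l i' j' u' l' : ℤ} (hx : Sh x i j u l) (hy : Sh y i' j' u' l') :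
    Sh (x * y) (i + i') (j + j') (u + u') (l + l') := by
  obtain ⟨m, rfl⟩ := hx
  obtain ⟨m', rfl⟩ := hy
  exact ⟨_, ext.nf_mul ..⟩

theorem Sh.one : Sh 1 0 0 0 0 := ⟨0, nf_zero.symm⟩

theorem Sh.congr {x y : Spor.HN} {i j u l i' j' u' l' : ℤ} (hx : Sh x i j u l) (h : x = y) (h1 : i = i') (h2 : j = j')
    (h3 : u = u') (h4 : l = l') : Sh y i' j' u' l' := by
  subst h h1 h2 h3 h4; exact hx

theorem Sh.inv {x : Spor.HN} {i j u l : ℤ} (hx : Sh x i j u l) : Sh x⁻¹ (-i) (-j) (-u) (-l) := by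
  obtain ⟨m, rfl⟩ := hx
  refine ⟨-m - i * j - u * l, ?_⟩
  rw [inv_eq_iff_mul_eq_one, ext.nf_mul, ← nf_zero (w := W) (a := A) (b := B) (c := C₁) (d := D)]
  exact nf_eq (by ring) (by ring) (by ring) (by ring) (by ring)

theorem Sh.pow {x : Spor.HN} {i j u l : ℤ} (hx : Sh x i j u l) (n : ℕ) : Sh (x ^ n) (n * i) (n * j) (n * u) (n * l) := by
  induction n with
  | zero => exact Sh.one.congr (pow_zero x).symm (by simp) (by simp) (by simp) (by simp)
  | succ n ih =>
    exact (ih.mul hx).congr (pow_succ x n).symm (by push_cast; ring) (by push_cast; ring) (by push_cast; ring)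
      (by push_cast; ring)

theorem Sh.zpow {x : Spor.HN} {i j u l : ℤ} (hx : Sh x i j u l) (n : ℤ) : Sh (x ^ n) (n * i) (n * j) (n * u) (n * l) := by
  obtain ⟨k, rfl | rfl⟩ := n.eq_nat_or_neg
  · exact (hx.pow k).congr (zpow_natCast x k).symm rfl rfl rfl rfl
  · exact (hx.pow k).inv.congr (by rw [zpow_neg, zpow_natCast]) (by ring) (by ring) (by ring) (by ring)

/-- conjugation by `F` -/
theorem Sh.conjF {x : Spor.HN} {i j u l : ℤ} (hx : Sh x i j u l) : Sh (F * x * F⁻¹) i (j + i) u (l + 2 * u) := by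
  obtain ⟨m, rfl⟩ := hx
  have hA : Sh (F * A ^ i * F⁻¹) i i 0 0 := by
    have h : Sh (F * A * F⁻¹) 1 1 0 0 := ⟨1, F_A⟩
    exact (h.zpow i).congr (by rw [conj_zpow]) (by ring) (by ring) (by ring) (by ring)
  have hB : Sh (F * B ^ j * F⁻¹) 0 j 0 0 := by
    have h : Sh (F * B * F⁻¹) 0 1 0 0 := ⟨0, by rw [F_B]; simp [nf]⟩
    exact (h.zpow j).congr (by rw [conj_zpow]) (by ring) (by ring) (by ring) (by ring)
  have hC : Sh (F * C₁ ^ u * F⁻¹) 0 0 u (2 * u) := by
    have h : Sh (F * C₁ * F⁻¹) 0 0 1 2 := ⟨2, F_C⟩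
    exact (h.zpow u).congr (by rw [conj_zpow]) (by ring) (by ring) (by ring) (by ring)
  have hD : Sh (F * D ^ l * F⁻¹) 0 0 0 l := by
    have h : Sh (F * D * F⁻¹) 0 0 0 1 := ⟨0, by rw [F_D]; simp [nf]⟩
    exact (h.zpow l).congr (by rw [conj_zpow]) (by ring) (by ring) (by ring) (by ring)
  have hW : Sh (F * W ^ m * F⁻¹) 0 0 0 0 := by
    have h : Sh (F * W * F⁻¹) 0 0 0 0 := ⟨1, by rw [F_W]; simp [nf]⟩
    exact (h.zpow m).congr (by rw [conj_zpow]) (by ring) (by ring) (by ring) (by ring)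
  refine ((((hA.mul hB).mul hC).mul hD).mul hW).congr ?_ (by ring) (by ring) (by ring) (by ring)
  unfold nf
  group

/-- conjugation by powers of `F` -/
theorem Sh.conjFn {x : Spor.HN} {i j u l : ℤ} (hx : Sh x i j u l) (n : ℕ) :
    Sh (F ^ n * x * (F ^ n)⁻¹) i (j + n * i) u (l + 2 * n * u) := by
  induction n with
  | zero => exact hx.congr (by simp) (by simp) (by simp) (by simp) (by simp)
  | succ n ih => exact ih.conjF.congr (by rw [pow_succ']; group) rfl (by push_cast; ring) rfl (by push_cast; ring)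

/-- the elements of `P` -/
theorem mem_P {x : Spor.HN} (hx : x ∈ P) : ∃ (s : ℕ) (q : Spor.HN) (i j u l : ℤ), s < 3 ∧ Sh q i j u l ∧ x = q * F ^ s := by
  obtain ⟨q, ⟨i, j, u, l, m, rfl⟩, s, rfl⟩ := hx
  refine ⟨(s % 3).toNat, _, i, j, u, l, by omega, ⟨m, rfl⟩, ?_⟩
  congr 1
  rw [← zpow_natCast]
  exact zpow_eq e_f3 (by omega)

/-- **conjugation in `P`** preserves the class modulo `K` -/
theorem conj_form {s : ℕ} {q g : Spor.HN} {i j u l : ℤ} (hq : Sh q i j u l) (hg : g ∈ P) :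
    ∃ (q' : Spor.HN) (j' l' : ℤ), Sh q' i j' u l' ∧ g * (q * F ^ s) * g⁻¹ = q' * F ^ s := by
  obtain ⟨t, r, a, b, c, d, _, hr, rfl⟩ := mem_P hg
  -- `r F^t q F^s F^-t r⁻¹ = r (F^t q F^-t) (F^s r⁻¹ F^-s) F^s`
  have h1 := hq.conjFn t
  have h2 := hr.inv.conjFn s
  refine ⟨_, _, _, ((hr.mul h1).mul h2).congr rfl (by ring) rfl (by ring) rfl, ?_⟩
  have h3 : (F ^ t)⁻¹ * (F ^ s)⁻¹ = (F ^ s)⁻¹ * (F ^ t)⁻¹ := by
    rw [← mul_inv_rev, ← mul_inv_rev, ← pow_add, ← pow_add, add_comm]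
  have h4 : F ^ s * (F ^ t)⁻¹ = (F ^ t)⁻¹ * F ^ s := ((Commute.refl F).pow_pow s t).inv_right.eq
  calc r * F ^ t * (q * F ^ s) * (r * F ^ t)⁻¹ = r * F ^ t * q * (F ^ s * (F ^ t)⁻¹) * r⁻¹ := by group
    _ = _ := by rw [h4]; group

theorem card_P : Nat.card ↥P = 3 ^ 6 := by
  have : Fact (Nat.Prime 3) := ⟨Nat.prime_three⟩
  obtain ⟨n, hn⟩ := IsPGroup.iff_card.1 isPGroup_P
  have h5 := P.card_mul_index
  rw [hn, card_HN] at h5
  have h6 : ¬ 3 ∣ P.index := index_P
  have h7 : n ≤ 6 := by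
    by_contra h
    obtain ⟨r, rfl⟩ := Nat.exists_eq_add_of_lt (not_le.1 h)
    have h8 : (3 : ℕ) ^ 7 ∣ 273030912000000 := ⟨3 ^ r * P.index, by rw [← h5]; ring⟩
    norm_num at h8
  have h8 : 6 ≤ n := by
    have h9 : 3 ^ 6 ∣ 3 ^ n * P.index := by rw [h5]; norm_num
    have h10 := (Nat.Coprime.pow_left 6 ((Nat.Prime.coprime_iff_not_dvd Nat.prime_three).2 h6)).dvd_of_dvd_mul_right h9
    exact (Nat.pow_dvd_pow_iff_le_right (by norm_num)).1 h10
  rw [hn, le_antisymm h7 h8]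

/-- the exponents of `B`, `D`, `W` matter only modulo 3 -/
theorem nf_red (i j u l m : ℤ) : nf W A B C₁ D i j u l m =
    nf W A B C₁ D i ((j % 3).toNat : ℕ) u ((l % 3).toNat : ℕ) ((m % 3).toNat : ℕ) := by
  unfold nf
  have hw : W ^ 3 = 1 := by rw [← ext.hw]; exact pow_orderOf_eq_one W
  rw [zpow_eq ext.hb (show (3 : ℤ) ∣ j - ((j % 3).toNat : ℕ) by omega),
    zpow_eq ext.hd (show (3 : ℤ) ∣ l - ((l % 3).toNat : ℕ) by omega),
    zpow_eq hw (show (3 : ℤ) ∣ m - ((m % 3).toNat : ℕ) by omega)]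

/-- **`27 ≤ |C_P(x)|`** -/
theorem le_cent_P {x : Spor.HN} (hx : x ∈ P) : 3 ^ 3 ≤ Nat.card ↥(P ⊓ centralizer ({x} : Set Spor.HN)) := by
  obtain ⟨s, q, i, j, u, l, _, hq, rfl⟩ := mem_P hx
  set x := q * F ^ s with hxdef
  -- the conjugates of `x` in `P`
  let f : Fin 3 × Fin 3 × Fin 3 → Spor.HN := fun t =>
    nf W A B C₁ D i (t.1 : ℕ) u (t.2.1 : ℕ) (t.2.2 : ℕ) * F ^ s
  let φ : ↥P → Spor.HN := fun g => g * x * g⁻¹
  have h1 : ∀ g : ↥P, φ g ∈ Set.range f := by
    intro g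
    obtain ⟨q', j', l', ⟨m', hq'⟩, h⟩ := conj_form (s := s) hq g.2
    refine ⟨(⟨(j' % 3).toNat, by omega⟩, ⟨(l' % 3).toNat, by omega⟩, ⟨(m' % 3).toNat, by omega⟩), ?_⟩
    change nf W A B C₁ D i ((j' % 3).toNat : ℕ) u ((l' % 3).toNat : ℕ) ((m' % 3).toNat : ℕ) * F ^ s = _ * _ * _
    rw [← nf_red, ← hq']
    exact h.symm
  -- the index of the centralizer in `P`
  have h2 : ((P ⊓ centralizer ({x} : Set Spor.HN)).subgroupOf P).index ≤ 27 := by
    have h3 : Function.Injective (Quotient.lift (s := QuotientGroup.leftRel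
        ((P ⊓ centralizer ({x} : Set Spor.HN)).subgroupOf P)) (fun g : ↥P => (⟨φ g, h1 g⟩ : Set.range f)) (by
        intro a b hab
        have h2 := QuotientGroup.leftRel_apply.1 hab
        have h4 : (a : Spor.HN)⁻¹ * b ∈ centralizer ({x} : Set Spor.HN) := (mem_subgroupOf.1 h2).2
        rw [mem_centralizer_singleton_iff] at h4
        apply Subtype.ext
        change (a : Spor.HN) * x * (a : Spor.HN)⁻¹ = b * x * (b : Spor.HN)⁻¹
        calc (a : Spor.HN) * x * (a : Spor.HN)⁻¹ = a * (x * ((a : Spor.HN)⁻¹ * b)) * (b : Spor.HN)⁻¹ := by group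
          _ = a * (((a : Spor.HN)⁻¹ * b) * x) * (b : Spor.HN)⁻¹ := by rw [h4]
          _ = _ := by group)) := by
      intro a b
      refine Quotient.inductionOn₂ a b fun a b h => ?_
      apply Quotient.sound
      change QuotientGroup.leftRel _ a b
      rw [QuotientGroup.leftRel_apply, mem_subgroupOf, mem_inf]
      refine ⟨(a⁻¹ * b).2, mem_centralizer_singleton_iff.2 ?_⟩
      have h2 : (a : Spor.HN) * x * (a : Spor.HN)⁻¹ = b * x * (b : Spor.HN)⁻¹ := congrArg Subtype.val h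
      change (a : Spor.HN)⁻¹ * b * x = x * ((a : Spor.HN)⁻¹ * b)
      calc (a : Spor.HN)⁻¹ * b * x = (a : Spor.HN)⁻¹ * (b * x * (b : Spor.HN)⁻¹) * b := by group
        _ = (a : Spor.HN)⁻¹ * (a * x * (a : Spor.HN)⁻¹) * b := by rw [h2]
        _ = x * ((a : Spor.HN)⁻¹ * b) := by group
    have h4 := Nat.card_le_card_of_injective _ h3
    have h5 : Nat.card (Set.range f) ≤ 27 := by
      have h6 := Nat.card_le_card_of_surjective (Set.rangeFactorization f) Set.rangeFactorization_surjective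
      refine h6.trans ?_
      simp only [Nat.card_prod, Nat.card_fin]
      norm_num
    exact h4.trans h5
  have h3 := ((P ⊓ centralizer ({x} : Set Spor.HN)).subgroupOf P).card_mul_index
  rw [card_P, Nat.card_congr (Subgroup.subgroupOfEquivOfLe (inf_le_left (a := P))).toEquiv] at h3
  by_contra hlt
  push Not at hlt
  have h4 : 3 ^ 6 < 3 ^ 3 * 27 := by
    calc 3 ^ 6 = Nat.card ↥(P ⊓ centralizer ({x} : Set Spor.HN)) *
          ((P ⊓ centralizer ({x} : Set Spor.HN)).subgroupOf P).index := h3.symm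
      _ ≤ Nat.card ↥(P ⊓ centralizer ({x} : Set Spor.HN)) * 27 := Nat.mul_le_mul_left _ h2
      _ < 3 ^ 3 * 27 := Nat.mul_lt_mul_of_pos_right hlt (by norm_num)
  norm_num at h4

/-- **3-elements have centralizers of order divisible by 27** -/
theorem dvd_cent_three {x : Spor.HN} {n : ℕ} (hx : orderOf x = 3 ^ n) :
    3 ^ 3 ∣ Nat.card (centralizer ({x} : Set Spor.HN)) :=
  pow_dvd_cent isPGroup_P index_P (fun _ h => le_cent_P h) hx

/-! ### elements of order 9 -/

theorem Sh.dvd {i j u l : ℤ} (h : Sh 1 i j u l) : (3 : ℤ) ∣ i ∧ (3 : ℤ) ∣ j ∧ (3 : ℤ) ∣ u ∧ (3 : ℤ) ∣ l := by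
  obtain ⟨m, hm⟩ := h
  have key : ∀ a b c d : ℤ, (3 : ℤ) ∣ i * b - a * j + u * d - c * l := by
    intro a b c d
    have := (ext.comm_iff (i := i) (j := j) (k := u) (l := l) (m := m) (i' := a) (j' := b) (k' := c) (l' := d)
      (m' := 0)).1 (by rw [← hm, one_mul, mul_one])
    exact_mod_cast this
  refine ⟨by simpa using key 0 1 0 0, by simpa using key 1 0 0 0, by simpa using key 0 0 0 1,
    by simpa using key 0 0 1 0⟩

theorem comm_F (j l m : ℤ) : Commute F (nf W A B C₁ D 0 j 0 l m) := by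
  have cB : Commute F B := by
    have := F_B
    rwa [mul_inv_eq_iff_eq_mul] at this
  have cD : Commute F D := by
    have := F_D
    rwa [mul_inv_eq_iff_eq_mul] at this
  have cW : Commute F W := by
    have := F_W
    rwa [mul_inv_eq_iff_eq_mul] at this
  unfold nf
  rw [zpow_zero, zpow_zero, one_mul, mul_one]
  exact ((cB.zpow_right j).mul_right (cD.zpow_right l)).mul_right (cW.zpow_right m)

theorem nf_AC {i j u l m : ℤ} (hi : (3 : ℤ) ∣ i) (hu : (3 : ℤ) ∣ u) :
    nf W A B C₁ D i j u l m = nf W A B C₁ D 0 j 0 l m := by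
  unfold nf
  rw [zpow_eq ext.ha (show (3 : ℤ) ∣ i - 0 by simpa using hi), zpow_eq ext.hc (show (3 : ℤ) ∣ u - 0 by simpa using hu)]

theorem nf_BDW {j l m j' l' m' : ℤ} (hj : (3 : ℤ) ∣ j - j') (hl : (3 : ℤ) ∣ l - l') (hm : (3 : ℤ) ∣ m - m') :
    nf W A B C₁ D 0 j 0 l m = nf W A B C₁ D 0 j' 0 l' m' := by
  have hw : W ^ 3 = 1 := by rw [← ext.hw]; exact pow_orderOf_eq_one W
  unfold nf
  rw [zpow_eq ext.hb hj, zpow_eq ext.hd hl, zpow_eq hw hm]

theorem sol {i u b d : ℤ} (h : ¬ ((3 : ℤ) ∣ i ∧ (3 : ℤ) ∣ u)) (hbd : (3 : ℤ) ∣ i * b + u * d) :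
    ∃ k : Fin 3, (3 : ℤ) ∣ b - u * (k : ℕ) ∧ (3 : ℤ) ∣ d + i * (k : ℕ) := by
  obtain ⟨r, i', hr, rfl⟩ : ∃ r i' : ℤ, (r = 0 ∨ r = 1 ∨ r = 2) ∧ i = 3 * i' + r :=
    ⟨i % 3, i / 3, by omega, by omega⟩
  obtain ⟨s, u', hs, rfl⟩ : ∃ s u' : ℤ, (s = 0 ∨ s = 1 ∨ s = 2) ∧ u = 3 * u' + s :=
    ⟨u % 3, u / 3, by omega, by omega⟩
  have h1 : (3 : ℤ) ∣ r * b + s * d := by
    obtain ⟨w, hw⟩ := hbd
    exact ⟨w - i' * b - u' * d, by linear_combination hw⟩
  have h2 : ((3 : ℤ) ∣ b - s * 0 ∧ (3 : ℤ) ∣ d + r * 0) ∨ ((3 : ℤ) ∣ b - s * 1 ∧ (3 : ℤ) ∣ d + r * 1) ∨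
      ((3 : ℤ) ∣ b - s * 2 ∧ (3 : ℤ) ∣ d + r * 2) := by
    obtain ⟨β, b', hβ, rfl⟩ : ∃ β b' : ℤ, (β = 0 ∨ β = 1 ∨ β = 2) ∧ b = 3 * b' + β :=
      ⟨b % 3, b / 3, by omega, by omega⟩
    obtain ⟨δ, d', hδ, rfl⟩ : ∃ δ d' : ℤ, (δ = 0 ∨ δ = 1 ∨ δ = 2) ∧ d = 3 * d' + δ :=
      ⟨d % 3, d / 3, by omega, by omega⟩
    rcases hr with rfl | rfl | rfl <;> rcases hs with rfl | rfl | rfl <;> rcases hβ with rfl | rfl | rfl <;>
      rcases hδ with rfl | rfl | rfl <;> (clear * - h h1; omega)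
  rcases h2 with h2 | h2 | h2
  · exact ⟨0, by simp only [Fin.val_zero]; push_cast; omega, by simp only [Fin.val_zero]; push_cast; omega⟩
  · exact ⟨1, by simp only [Fin.val_one]; push_cast; omega, by simp only [Fin.val_one]; push_cast; omega⟩
  · exact ⟨2, by simp only [Fin.val_two]; push_cast; omega, by simp only [Fin.val_two]; push_cast; omega⟩

theorem pow_form {q : Spor.HN} (hq : q ∈ ext.Q) (t : ℕ) : ∃ q' ∈ ext.Q, (q * F) ^ t = q' * F ^ t := by
  induction t with
  | zero => exact ⟨1, one_mem _, by simp⟩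
  | succ t ih =>
    obtain ⟨q', hq', h⟩ := ih
    refine ⟨q * (F * q' * F⁻¹), mul_mem hq (F_Q _ hq'), ?_⟩
    rw [pow_succ', h, pow_succ' F t]
    group

/-- elements of `Q` commuting with `q F` -/
theorem cent_QF {i j u l m : ℤ} (hiu : ¬ ((3 : ℤ) ∣ i ∧ (3 : ℤ) ∣ u)) {h : Spor.HN} (hh : h ∈ ext.Q)
    (hc : h * (nf W A B C₁ D i j u l m * F) = nf W A B C₁ D i j u l m * F * h) :
    ∃ k e : Fin 3, h = nf W A B C₁ D 0 (u * (k : ℕ)) 0 (-(i * (k : ℕ))) (e : ℕ) := by
  obtain ⟨a, b, c, d, e, rfl⟩ := hh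
  have h1 : Sh (nf W A B C₁ D a b c d e) a b c d := ⟨e, rfl⟩
  have h2 : Sh (nf W A B C₁ D i j u l m) i j u l := ⟨m, rfl⟩
  have h3 : (nf W A B C₁ D a b c d e * nf W A B C₁ D i j u l m)⁻¹ *
      (nf W A B C₁ D i j u l m * (F * nf W A B C₁ D a b c d e * F⁻¹)) = 1 := by
    rw [inv_mul_eq_one]
    apply mul_right_cancel (b := F)
    rw [mul_assoc, hc]
    group
  obtain ⟨_, ha, _, hc2⟩ := ((((h1.mul h2).inv).mul (h2.mul h1.conjF)).congr h3 rfl rfl rfl rfl).dvd
  have ha' : (3 : ℤ) ∣ a := by omega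
  have hc' : (3 : ℤ) ∣ c := by omega
  rw [nf_AC ha' hc'] at hc ⊢
  have h4 : nf W A B C₁ D 0 b 0 d e * nf W A B C₁ D i j u l m = nf W A B C₁ D i j u l m * nf W A B C₁ D 0 b 0 d e := by
    apply mul_right_cancel (b := F)
    rw [mul_assoc, hc, mul_assoc, (comm_F b d e).eq, mul_assoc]
  have h5 := ext.comm_iff.1 h4
  have h6 : (3 : ℤ) ∣ i * b + u * d := by
    have : ((3 : ℕ) : ℤ) ∣ -(i * b + u * d) := by convert h5 using 1; ring
    exact_mod_cast (dvd_neg.1 this)
  obtain ⟨k, hk1, hk2⟩ := sol hiu h6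
  refine ⟨k, ⟨(e % 3).toNat, by omega⟩, nf_BDW hk1 (by rw [sub_neg_eq_add]; exact hk2) ?_⟩
  change (3 : ℤ) ∣ e - ((e % 3).toNat : ℕ)
  omega

theorem card_cent_QF {i j u l m : ℤ} (h9 : orderOf (nf W A B C₁ D i j u l m * F) = 9) :
    Nat.card ↥(P ⊓ centralizer ({nf W A B C₁ D i j u l m * F} : Set Spor.HN)) ≤ 27 := by
  have hiu : ¬ ((3 : ℤ) ∣ i ∧ (3 : ℤ) ∣ u) := by
    rintro ⟨hi, hu⟩
    rw [nf_AC hi hu] at h9
    have h1 : (nf W A B C₁ D 0 j 0 l m * F) ^ 3 = 1 := by
      rw [(comm_F j l m).symm.mul_pow, ext.pow_eq_one (by decide) _ (ext.nf_mem _ _ _ _ _), e_f3, one_mul]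
    have h2 := orderOf_dvd_of_pow_eq_one h1
    rw [h9] at h2
    norm_num at h2
  set x := nf W A B C₁ D i j u l m * F with hx
  let f : Fin 3 × Fin 3 × Fin 3 → Spor.HN := fun t =>
    nf W A B C₁ D 0 (u * (t.1 : ℕ)) 0 (-(i * (t.1 : ℕ))) (t.2.1 : ℕ) * x ^ (t.2.2 : ℕ)
  have h1 : ∀ g : ↥(P ⊓ centralizer ({x} : Set Spor.HN)), (g : Spor.HN) ∈ Set.range f := by
    rintro ⟨g, hgP, hgC⟩
    obtain ⟨t, r, a, b, c, d, ht, ⟨e, hr⟩, hg⟩ := mem_P hgP
    obtain ⟨q', hq', hxt⟩ := pow_form (ext.nf_mem i j u l m) t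
    rw [← hx] at hxt
    have hrQ : r ∈ ext.Q := by rw [hr]; exact ext.nf_mem _ _ _ _ _
    have hQ : g * (x ^ t)⁻¹ ∈ ext.Q := by
      have h2 : g * (x ^ t)⁻¹ = r * q'⁻¹ := by rw [hxt, hg]; group
      rw [h2]
      exact mul_mem hrQ (inv_mem hq')
    have hgx : g * x = x * g := mem_centralizer_singleton_iff.1 hgC
    have hcomm : g * (x ^ t)⁻¹ * x = x * (g * (x ^ t)⁻¹) := by
      have h2 : Commute (x ^ t)⁻¹ x := ((Commute.refl x).pow_left t).inv_left
      rw [mul_assoc, h2.eq, ← mul_assoc, hgx, mul_assoc]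
    obtain ⟨k, e', hke⟩ := cent_QF hiu hQ hcomm
    refine ⟨(k, e', ⟨t, ht⟩), ?_⟩
    change nf W A B C₁ D 0 (u * (k : ℕ)) 0 (-(i * (k : ℕ))) (e' : ℕ) * x ^ t = g
    rw [← hke, inv_mul_cancel_right]
  have h2 : (↑(P ⊓ centralizer ({x} : Set Spor.HN)) : Set Spor.HN) ⊆ Set.range f := fun g hg => h1 ⟨g, hg⟩
  have h3 : Nat.card ↥(P ⊓ centralizer ({x} : Set Spor.HN)) ≤ Nat.card (Set.range f) :=
    Nat.card_mono (Set.finite_range f) h2
  refine h3.trans ?_
  refine (Nat.card_le_card_of_surjective (Set.rangeFactorization f) Set.rangeFactorization_surjective).trans ?_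
  simp only [Nat.card_prod, Nat.card_fin]
  norm_num

theorem cent_nine_P {x : Spor.HN} (hx : x ∈ P) (h9 : orderOf x = 3 ^ 2) :
    Nat.card ↥(P ⊓ centralizer ({x} : Set Spor.HN)) < 3 ^ 4 := by
  obtain ⟨s, q, i, j, u, l, hs, ⟨m, rfl⟩, rfl⟩ := mem_P hx
  have h3 : s = 0 ∨ s = 1 ∨ s = 2 := by omega
  rcases h3 with rfl | rfl | rfl
  · exfalso
    rw [pow_zero, mul_one] at h9
    have h2 := orderOf_dvd_of_pow_eq_one (ext.pow_eq_one (by decide) _ (ext.nf_mem i j u l m))
    rw [h9] at h2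
    norm_num at h2
  · rw [pow_one] at h9 ⊢
    exact (card_cent_QF (by rw [h9]; norm_num)).trans_lt (by norm_num)
  · -- the inverse
    set x := nf W A B C₁ D i j u l m * F ^ 2 with hxd
    obtain ⟨i', j', u', l', m', h4⟩ := F_Q _ (inv_mem (ext.nf_mem i j u l m))
    have h5 : x⁻¹ = nf W A B C₁ D i' j' u' l' m' * F := by
      rw [← h4, hxd, mul_inv_rev]
      have h6 : (F ^ 2)⁻¹ = F := by
        rw [inv_eq_iff_mul_eq_one, ← pow_succ, e_f3]
      rw [h6]; group
    have h6 : centralizer ({x} : Set Spor.HN) = centralizer ({x⁻¹} : Set Spor.HN) := by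
      ext g
      rw [mem_centralizer_singleton_iff, mem_centralizer_singleton_iff]
      constructor
      · intro h; exact (show Commute g x from h).inv_right.eq
      · intro h
        have := (show Commute g x⁻¹ from h).inv_right.eq
        rwa [inv_inv] at this
    rw [h6, h5]
    refine (card_cent_QF ?_).trans_lt (by norm_num)
    rw [← h5, orderOf_inv, h9]
    norm_num

/-- **elements of order 9**: `81 ∤ |C(x)|` -/
theorem not_dvd_cent_nine {x : Spor.HN} (hx : orderOf x = 3 ^ 2) :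
    ¬ 3 ^ 4 ∣ Nat.card (centralizer ({x} : Set Spor.HN)) :=
  not_pow_dvd_cent isPGroup_P index_P (fun _ h h' => cent_nine_P h h') hx

end Cfsg.Agent.H604.OZ.HN
end

-- part: H101/RealHN
section
/-!
# The Harada-Norton group: a real element of order 9 with centraliser of odd order

The 9-cycle `x` of `A12 < HN` is real. The centralisers of the involutions (two classes) have noncyclic Sylow
3-subgroups of order 9, so that no involution commutes with `x`.
-/

set_option autoImplicit false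

namespace Cfsg.Agent.H101.RO.HNRow

open Subgroup Cfsg

/-! ### Groups without elements of order 9 -/

/-- If `27 ∤ |G|` and `G` has two independent commuting elements of order 3, then `G` has no element of order 9. -/
theorem no_nine {G : Type*} [Group G] [Finite G] (h27 : ¬ 27 ∣ Nat.card G) {a b : G} (ha : orderOf a = 3)
    (hb : orderOf b = 3) (hab : Commute a b) (hn : b ∉ zpowers a) (x : G) : orderOf x ≠ 9 := by
  intro hx
  have : Fact (Nat.Prime 3) := ⟨Nat.prime_three⟩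
  have h0 : Nat.card G ≠ 0 := Nat.card_pos.ne'
  have hfac : (Nat.card G).factorization 3 = 2 := by
    have h1 : 2 ≤ (Nat.card G).factorization 3 :=
      (Nat.prime_three.pow_dvd_iff_le_factorization h0).1 (by
        rw [show 3 ^ 2 = 9 by norm_num, ← hx]; exact _root_.orderOf_dvd_natCard x)
    have h2 : ¬ 3 ≤ (Nat.card G).factorization 3 := fun h =>
      h27 ((Nat.prime_three.pow_dvd_iff_le_factorization h0).2 h)
    omega
  let P : Sylow 3 G := Sylow.ofCard (zpowers x) (by rw [hfac, Nat.card_zpowers, hx]; norm_num)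
  have hpa : IsPGroup 3 (zpowers a) := IsPGroup.of_card (n := 1) (by rw [Nat.card_zpowers, ha, pow_one])
  have hpb : IsPGroup 3 (zpowers b) := IsPGroup.of_card (n := 1) (by rw [Nat.card_zpowers, hb, pow_one])
  have hle : zpowers a ≤ normalizer ((zpowers b : Subgroup G) : Set G) := by
    rw [zpowers_le, mem_normalizer_iff]
    intro g
    have h1 : ∀ n : ℤ, a * b ^ n * a⁻¹ = b ^ n := fun n => by
      rw [(hab.zpow_right n).eq, mul_inv_cancel_right]
    constructor
    · rintro ⟨n, rfl⟩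
      exact ⟨n, (h1 n).symm⟩
    · rintro ⟨n, hn'⟩
      have h2 : b ^ n = a * g * a⁻¹ := hn'
      refine ⟨n, ?_⟩
      show b ^ n = g
      rw [← h1 n] at h2
      exact mul_left_cancel (mul_right_cancel h2)
  obtain ⟨R, hR⟩ := (hpa.to_sup_of_normal_right' hpb hle).exists_le_sylow
  obtain ⟨g, hg⟩ := MulAction.exists_smul_eq G R P
  have key : ∀ c ∈ (R : Subgroup G), g * c * g⁻¹ ∈ zpowers x := by
    intro c hc
    have h1 : g * c * g⁻¹ ∈ (g • R : Sylow 3 G) := by
      rw [← SetLike.mem_coe, Sylow.coe_smul, Set.mem_smul_set]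
      exact ⟨c, hc, rfl⟩
    rw [hg] at h1
    exact h1
  have h3 : ∀ c : G, orderOf c = 3 → c ∈ (R : Subgroup G) → zpowers (g * c * g⁻¹) = zpowers (x ^ 3) := by
    intro c hc hcR
    obtain ⟨n, hn'⟩ := mem_zpowers_iff.1 (key c hcR)
    have h4 : orderOf (g * c * g⁻¹) = 3 := by
      rw [← hc]
      exact orderOf_injective (MulAut.conj g).toMonoidHom (MulAut.conj g).injective c
    have h5 : orderOf (x ^ 3) = 3 := by
      rw [orderOf_pow_of_dvd (by norm_num) (by rw [hx]; norm_num), hx]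
    have h6 : (9 : ℤ) ∣ n * 3 := by
      have : x ^ (n * 3) = 1 := by
        rw [zpow_mul, hn']
        have h8 := pow_orderOf_eq_one (g * c * g⁻¹)
        rw [h4] at h8
        exact_mod_cast h8
      have h7 := orderOf_dvd_iff_zpow_eq_one.2 this
      rw [hx] at h7
      exact_mod_cast h7
    obtain ⟨k, hk⟩ : (3 : ℤ) ∣ n := by omega
    have hle' : zpowers (g * c * g⁻¹) ≤ zpowers (x ^ 3) := by
      rw [zpowers_le, ← hn', hk]
      refine ⟨k, ?_⟩
      show (x ^ 3) ^ k = x ^ (3 * k)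
      rw [zpow_mul]
      norm_cast
    exact Subgroup.eq_of_le_of_card_ge hle' (by rw [Nat.card_zpowers, Nat.card_zpowers, h4, h5])
  have haR : a ∈ (R : Subgroup G) := hR (mem_sup_left (mem_zpowers a))
  have hbR : b ∈ (R : Subgroup G) := hR (mem_sup_right (mem_zpowers b))
  have h4 : g * b * g⁻¹ ∈ zpowers (g * a * g⁻¹) := by
    rw [h3 a ha haR, ← h3 b hb hbR]
    exact mem_zpowers _
  obtain ⟨n, hn'⟩ := mem_zpowers_iff.1 h4
  apply hn
  rw [conj_zpow] at hn'
  exact ⟨n, mul_left_cancel (mul_right_cancel hn')⟩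

/-- A homomorphism whose kernel has order prime to 3 preserves the elements of order 9. -/
theorem orderOf_map_nine {G H : Type*} [Group G] [Finite G] [Group H] (f : G →* H) (hf : ¬ 3 ∣ Nat.card f.ker) {x : G}
    (hx : orderOf x = 9) : orderOf (f x) = 9 := by
  have : Fact (Nat.Prime 3) := ⟨Nat.prime_three⟩
  have h1 : ¬ (f x) ^ 3 ^ 1 = 1 := by
    intro h
    apply hf
    have h2 : x ^ 3 ∈ f.ker := by rw [MonoidHom.mem_ker, map_pow]; simpa using h
    have h3 : orderOf (x ^ 3) = 3 := by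
      rw [orderOf_pow_of_dvd (by norm_num) (by rw [hx]; norm_num), hx]
    have h4 := _root_.orderOf_dvd_natCard (⟨x ^ 3, h2⟩ : f.ker)
    rwa [Subgroup.orderOf_mk, h3] at h4
  have h2 : (f x) ^ 3 ^ (1 + 1) = 1 := by
    rw [← map_pow, show 3 ^ (1 + 1) = 9 by norm_num, ← hx, pow_orderOf_eq_one, map_one]
  have h3 := orderOf_eq_prime_pow h1 h2
  rw [h3]
  norm_num

/-! ### Elements of `A12` -/

/-- 9-cycle -/
def p9 : Equiv.Perm (Fin 12) where
  toFun := ![1, 2, 3, 4, 5, 6, 7, 8, 0, 9, 10, 11]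
  invFun := ![8, 0, 1, 2, 3, 4, 5, 6, 7, 9, 10, 11]
  left_inv := by decide
  right_inv := by decide

/-- inverts the 9-cycle -/
def pr : Equiv.Perm (Fin 12) where
  toFun := ![0, 8, 7, 6, 5, 4, 3, 2, 1, 9, 10, 11]
  invFun := ![0, 8, 7, 6, 5, 4, 3, 2, 1, 9, 10, 11]
  left_inv := by decide
  right_inv := by decide

/-- a square root of `pr` -/
def pq : Equiv.Perm (Fin 12) where
  toFun := ![0, 7, 1, 5, 3, 6, 4, 8, 2, 9, 10, 11]
  invFun := ![0, 2, 8, 4, 6, 3, 5, 1, 7, 9, 10, 11]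
  left_inv := by decide
  right_inv := by decide

/-- `(0 1)(2 3)` -/
def pt : Equiv.Perm (Fin 12) where
  toFun := ![1, 0, 3, 2, 4, 5, 6, 7, 8, 9, 10, 11]
  invFun := ![1, 0, 3, 2, 4, 5, 6, 7, 8, 9, 10, 11]
  left_inv := by decide
  right_inv := by decide

/-- `(0 2 1 3)` -/
def pu : Equiv.Perm (Fin 12) where
  toFun := ![2, 3, 1, 0, 4, 5, 6, 7, 8, 9, 10, 11]
  invFun := ![3, 2, 0, 1, 4, 5, 6, 7, 8, 9, 10, 11]
  left_inv := by decide
  right_inv := by decide

/-- `(4 5 6)` -/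
def pa : Equiv.Perm (Fin 12) where
  toFun := ![0, 1, 2, 3, 5, 6, 4, 7, 8, 9, 10, 11]
  invFun := ![0, 1, 2, 3, 6, 4, 5, 7, 8, 9, 10, 11]
  left_inv := by decide
  right_inv := by decide

/-- `(7 8 9)` -/
def pb : Equiv.Perm (Fin 12) where
  toFun := ![0, 1, 2, 3, 4, 5, 6, 8, 9, 7, 10, 11]
  invFun := ![0, 1, 2, 3, 4, 5, 6, 9, 7, 8, 10, 11]
  left_inv := by decide
  right_inv := by decide

/-- 7-cycle -/
def p7 : Equiv.Perm (Fin 12) where
  toFun := ![0, 1, 2, 3, 5, 6, 7, 8, 9, 10, 4, 11]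
  invFun := ![0, 1, 2, 3, 10, 4, 5, 6, 7, 8, 9, 11]
  left_inv := by decide
  right_inv := by decide

theorem mem_of_odd {σ : Equiv.Perm (Fin 12)} {n : ℕ} (hn : Odd n) (h : σ ^ n = 1) :
    σ ∈ alternatingGroup (Fin 12) := by
  rw [Equiv.Perm.mem_alternatingGroup]
  have h1 : (Equiv.Perm.sign σ) ^ n = 1 := by rw [← map_pow, h, map_one]
  rcases Int.units_eq_one_or (Equiv.Perm.sign σ) with h2 | h2
  · exact h2
  · rw [h2, hn.neg_one_pow] at h1
    exact absurd h1 (by decide)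

theorem mem_of_sq {σ τ : Equiv.Perm (Fin 12)} (h : τ * τ = σ) : σ ∈ alternatingGroup (Fin 12) := by
  rw [Equiv.Perm.mem_alternatingGroup, ← h, map_mul]
  exact Int.units_mul_self _

theorem p9_pow : p9 ^ 9 = 1 := by decide +kernel
theorem p9_ne : p9 ^ 3 ≠ 1 := by decide +kernel
theorem pq_sq : pq * pq = pr := by decide +kernel
theorem pu_sq : pu * pu = pt := by decide +kernel
theorem inv9 : pr * p9 = p9⁻¹ * pr := by decide +kernel
theorem pt_sq : pt * pt = 1 := by decide +kernel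
theorem pt_ne : pt ≠ 1 := by decide +kernel
theorem pa_cube : pa ^ 3 = 1 := by decide +kernel
theorem pb_cube : pb ^ 3 = 1 := by decide +kernel
theorem pa_ne : pa ≠ 1 := by decide +kernel
theorem pb_ne : pb ≠ 1 := by decide +kernel
theorem p7_pow : p7 ^ 7 = 1 := by decide +kernel
theorem p7_ne : p7 ≠ 1 := by decide +kernel
theorem comm_ab : pa * pb = pb * pa := by decide +kernel
theorem comm_ta : pa * pt = pt * pa := by decide +kernel
theorem comm_tb : pb * pt = pt * pb := by decide +kernel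
theorem comm_t7 : p7 * pt = pt * p7 := by decide +kernel
theorem pb_pa : pb ≠ pa := by decide +kernel
theorem pb_pa2 : pb ≠ pa ^ 2 := by decide +kernel

/-- the elements of `A12` -/
def A9 : alternatingGroup (Fin 12) := ⟨p9, mem_of_odd (n := 9) (by decide) p9_pow⟩
/-- the elements of `A12` -/
def AR : alternatingGroup (Fin 12) := ⟨pr, mem_of_sq pq_sq⟩
/-- the elements of `A12` -/
def AT : alternatingGroup (Fin 12) := ⟨pt, mem_of_sq pu_sq⟩
/-- the elements of `A12` -/
def AA : alternatingGroup (Fin 12) := ⟨pa, mem_of_odd (n := 3) (by decide) pa_cube⟩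
/-- the elements of `A12` -/
def AB : alternatingGroup (Fin 12) := ⟨pb, mem_of_odd (n := 3) (by decide) pb_cube⟩
/-- the elements of `A12` -/
def A7 : alternatingGroup (Fin 12) := ⟨p7, mem_of_odd (n := 7) (by decide) p7_pow⟩

theorem order_A9 : orderOf A9 = 9 := by
  have : Fact (Nat.Prime 3) := ⟨Nat.prime_three⟩
  have h1 : ¬ A9 ^ 3 ^ 1 = 1 := fun h => p9_ne (congrArg Subtype.val h)
  have h2 : A9 ^ 3 ^ (1 + 1) = 1 := Subtype.ext p9_pow
  rw [orderOf_eq_prime_pow h1 h2]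
  norm_num

theorem order_AA : orderOf AA = 3 :=
  orderOf_eq_prime (hp := ⟨Nat.prime_three⟩) (Subtype.ext pa_cube) fun h => pa_ne (congrArg Subtype.val h)

theorem order_AB : orderOf AB = 3 :=
  orderOf_eq_prime (hp := ⟨Nat.prime_three⟩) (Subtype.ext pb_cube) fun h => pb_ne (congrArg Subtype.val h)

theorem order_AT : orderOf AT = 2 :=
  orderOf_eq_prime (hp := ⟨Nat.prime_two⟩) (by rw [pow_two]; exact Subtype.ext pt_sq) fun h => pt_ne (congrArg Subtype.val h)

theorem order_A7 : orderOf A7 = 7 :=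
  orderOf_eq_prime (hp := ⟨by norm_num⟩) (Subtype.ext p7_pow) fun h => p7_ne (congrArg Subtype.val h)

theorem AB_notMem : AB ∉ zpowers AA := by
  rintro ⟨n, hn⟩
  have hn' : AA ^ n = AB := hn
  have h1 : AA ^ n = AA ^ (n % 3) := by
    have h2 : AA ^ (3 : ℤ) = 1 := by
      have := pow_orderOf_eq_one AA
      rw [order_AA] at this
      exact_mod_cast this
    conv_lhs => rw [← Int.mul_ediv_add_emod n 3, zpow_add, zpow_mul, h2, one_zpow, one_mul]
  rw [h1] at hn'
  have h3 : n % 3 = 0 ∨ n % 3 = 1 ∨ n % 3 = 2 := by omega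
  rcases h3 with h3 | h3 | h3 <;> rw [h3] at hn'
  · rw [zpow_zero] at hn'
    exact pb_ne (congrArg Subtype.val hn').symm
  · rw [zpow_one] at hn'
    exact pb_pa (congrArg Subtype.val hn').symm
  · exact pb_pa2 (congrArg Subtype.val hn').symm

/-! ### The group -/

open Cfsg.Agent.KFacts.HN.Classes Cfsg.Agent.KFacts.HN Cfsg.Agent.HN.XInst Cfsg.Agent.HN.XWords
open Cfsg.Agent.Lib.AltCarmichael (cyc cyc_mem)

theorem card_cent_conj {G : Type*} [Group G] {u v : G} (h : IsConj u v) :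
    Nat.card (centralizer ({u} : Set G)) = Nat.card (centralizer ({v} : Set G)) := by
  obtain ⟨c, rfl⟩ := isConj_iff.1 h
  refine Nat.card_congr ((MulAut.conj c).toEquiv.subtypeEquiv fun a => ?_)
  rw [mem_centralizer_singleton_iff, mem_centralizer_singleton_iff]
  show a * u = u * a ↔ c * a * c⁻¹ * (c * u * c⁻¹) = c * u * c⁻¹ * (c * a * c⁻¹)
  constructor
  · intro h
    calc c * a * c⁻¹ * (c * u * c⁻¹) = c * (a * u) * c⁻¹ := by group
      _ = c * (u * a) * c⁻¹ := by rw [h]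
      _ = _ := by group
  · intro h
    calc a * u = c⁻¹ * (c * a * c⁻¹ * (c * u * c⁻¹)) * c := by group
      _ = c⁻¹ * (c * u * c⁻¹ * (c * a * c⁻¹)) * c := by rw [h]
      _ = _ := by group

theorem exists_of_conj {G : Type*} [Group G] {u v x : G} (h : IsConj u v) (hx : u * x = x * u) :
    ∃ y : G, orderOf y = orderOf x ∧ v * y = y * v := by
  obtain ⟨c, rfl⟩ := isConj_iff.1 h
  refine ⟨c * x * c⁻¹, orderOf_injective (MulAut.conj c).toMonoidHom (MulAut.conj c).injective x, ?_⟩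
  calc c * u * c⁻¹ * (c * x * c⁻¹) = c * (u * x) * c⁻¹ := by group
    _ = c * (x * u) * c⁻¹ := by rw [hx]
    _ = _ := by group

/-- no element of order 9 commutes with the 2-central involution -/
theorem no_W0 {x : Spor.HN} (hx : orderOf x = 9) (hc : W0 * x = x * W0) : False := by
  have := finite_HN
  have hmem : x ∈ PP := mem_centralizer_singleton_iff.2 hc.symm
  have h1 : orderOf (⟨x, hmem⟩ : PP) = 9 := by rw [Subgroup.orderOf_mk, hx]
  have h2 : orderOf (ρ ⟨x, hmem⟩) = 9 := orderOf_map_nine ρ (by rw [card_ker]; norm_num) h1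
  have hfin : Finite Lq := Nat.finite_of_card_ne_zero (by rw [card_Lq]; norm_num)
  let c : A5 := ⟨cyc 3 0, cyc_mem 3 0 (by norm_num)⟩
  have hc3 : c ^ 3 = 1 := by
    apply Subtype.ext
    show (cyc 3 0) ^ 3 = 1
    decide +kernel
  have hc1 : c ≠ 1 := fun h => by
    have h1 : cyc 3 0 = 1 := congrArg Subtype.val h
    revert h1
    decide +kernel
  have hco : orderOf c = 3 := orderOf_eq_prime (hp := ⟨Nat.prime_three⟩) hc3 hc1
  refine no_nine (G := Lq) (by rw [card_Lq]; norm_num) (a := φA c) (b := φB c)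
    (by rw [orderOf_injective φA φA_inj, hco]) (by rw [orderOf_injective φB φB_inj, hco]) (comm_AB c c) ?_ _ h2
  rintro ⟨n, hn⟩
  have h3 : φA (c ^ n) = φB c := by rw [map_zpow]; exact hn
  exact hc1 (A_inter_B h3).2

theorem model : RealOdd Spor.HN := by
  have := finite_HN
  have hs : IsSimpleGroup Spor.HN := Cfsg.Agent.S1701.result.1
  obtain ⟨K, ⟨e⟩⟩ := Cfsg.Agent.HN.A12Group.exists_alternating
  let f : alternatingGroup (Fin 12) →* Spor.HN := K.subtype.comp e.symm.toMonoidHom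
  have hf : Function.Injective f := fun a b h => e.symm.injective (Subtype.ext h)
  have ho : ∀ a, orderOf (f a) = orderOf a := fun a => orderOf_injective f hf a
  -- the class of the double transposition
  have hT : IsConj (Cfsg.Agent.HN.NormalH.ψ Cfsg.Agent.HN.H0Basic.τ) (f AT) := by
    rcases inv_class (u := f AT) (by rw [ho, order_AT]) with h | h
    · exact h.symm
    · exfalso
      have h1 := card_cent_conj h
      rw [PCard.card_centralizer] at h1
      have h2 : f A7 ∈ centralizer ({f AT} : Set Spor.HN) := by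
        rw [mem_centralizer_singleton_iff, ← map_mul, ← map_mul]
        exact congrArg f (Subtype.ext comm_t7)
      have h3 := _root_.orderOf_dvd_natCard (⟨f A7, h2⟩ : centralizer ({f AT} : Set Spor.HN))
      rw [Subgroup.orderOf_mk, ho, order_A7, h1] at h3
      norm_num at h3
  have hcard : Nat.card (centralizer ({f AT} : Set Spor.HN)) = 177408000 := by
    rw [← card_cent_conj hT]
    exact card_centralizer_τ
  have hno : ∀ x : Spor.HN, orderOf x = 9 → f AT * x = x * f AT → False := by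
    intro x hx hc
    have hcx : x ∈ centralizer ({f AT} : Set Spor.HN) := mem_centralizer_singleton_iff.2 hc.symm
    have hca : f AA ∈ centralizer ({f AT} : Set Spor.HN) := by
      rw [mem_centralizer_singleton_iff, ← map_mul, ← map_mul]
      exact congrArg f (Subtype.ext comm_ta)
    have hcb : f AB ∈ centralizer ({f AT} : Set Spor.HN) := by
      rw [mem_centralizer_singleton_iff, ← map_mul, ← map_mul]
      exact congrArg f (Subtype.ext comm_tb)
    refine no_nine (G := centralizer ({f AT} : Set Spor.HN)) (by rw [hcard]; norm_num) (a := ⟨f AA, hca⟩)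
      (b := ⟨f AB, hcb⟩) (by rw [Subgroup.orderOf_mk, ho, order_AA]) (by rw [Subgroup.orderOf_mk, ho, order_AB]) ?_ ?_
      ⟨x, hcx⟩ (by rw [Subgroup.orderOf_mk, hx])
    · apply Subtype.ext
      show f AA * f AB = f AB * f AA
      rw [← map_mul, ← map_mul]
      exact congrArg f (Subtype.ext comm_ab)
    · rintro ⟨n, hn⟩
      have h1 : f AA ^ n = f AB := congrArg Subtype.val hn
      rw [← map_zpow] at h1
      exact AB_notMem ⟨n, hf h1⟩
  refine RealOdd.of_elts (p := 3) (k := 2) (x := f A9) (y := f AR) Nat.prime_three (by norm_num) (by norm_num)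
    (by rw [ho, order_A9]; norm_num) ?_ ?_
  · rw [mul_inv_eq_iff_eq_mul, ← map_mul, ← map_inv, ← map_mul]
    exact congrArg f (Subtype.ext inv9)
  · intro u hu hc
    rcases inv_class hu with h | h
    · obtain ⟨y, hy1, hy2⟩ := exists_of_conj (h.trans hT) hc
      exact hno y (by rw [hy1, ho, order_A9]) hy2
    · obtain ⟨y, hy1, hy2⟩ := exists_of_conj h hc
      exact no_W0 (by rw [hy1, ho, order_A9]) hy2

/-- **The Harada-Norton group.** -/
theorem hn {K : Type*} [Group K] (h : Spor.IsoHN K) : RealOdd K := by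
  obtain ⟨e⟩ := h
  exact RealOdd.congr e.symm model

end Cfsg.Agent.H101.RO.HNRow
end

-- part: H604/OZ/HNElts
section
/-!
# Elements of the Harada-Norton group (helper604, for the HN row of S4842)

* `exists_nine` : a rational element of order 9;
* `no_inv_nine` : no involution commutes with an element of order 9;
* `cent_seven`  : `14 ∣ |C(x)|` for `x` of order 7;
* `cent_gt`     : if 2-elements have centralizers of order at least 16, then `10 < |C(x)|` for all `x`.
-/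

set_option autoImplicit false

namespace Cfsg.Agent.H604.OZ.HN

open Subgroup Cfsg Cfsg.Agent.H101.RO.HNRow
open Cfsg.Agent.KFacts.HN.Classes Cfsg.Agent.KFacts.HN Cfsg.Agent.HN.XInst Cfsg.Agent.HN.XWords

/-- `A12 < HN` -/
theorem exists_alt : ∃ f : alternatingGroup (Fin 12) →* Spor.HN, Function.Injective f := by
  have hs : IsSimpleGroup Spor.HN := Cfsg.Agent.S1701.result.1
  obtain ⟨K, ⟨e⟩⟩ := Cfsg.Agent.HN.A12Group.exists_alternating
  exact ⟨K.subtype.comp e.symm.toMonoidHom, fun a b h => e.symm.injective (Subtype.ext h)⟩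

theorem order_f {f : alternatingGroup (Fin 12) →* Spor.HN} (hf : Function.Injective f) (a : alternatingGroup (Fin 12)) :
    orderOf (f a) = orderOf a := orderOf_injective f hf a

/-! ### no involution commutes with an element of order 9 -/

theorem conj_AT {f : alternatingGroup (Fin 12) →* Spor.HN} (hf : Function.Injective f) :
    IsConj (Cfsg.Agent.HN.NormalH.ψ Cfsg.Agent.HN.H0Basic.τ) (f AT) := by
  have := finite_HN
  rcases inv_class (u := f AT) (by rw [order_f hf, order_AT]) with h | h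
  · exact h.symm
  · exfalso
    have h1 := Cfsg.Agent.H101.RO.HNRow.card_cent_conj h
    rw [PCard.card_centralizer] at h1
    have h2 : f A7 ∈ centralizer ({f AT} : Set Spor.HN) := by
      rw [mem_centralizer_singleton_iff, ← map_mul, ← map_mul]
      exact congrArg f (Subtype.ext comm_t7)
    have h3 := _root_.orderOf_dvd_natCard (⟨f A7, h2⟩ : centralizer ({f AT} : Set Spor.HN))
    rw [Subgroup.orderOf_mk, order_f hf, order_A7, h1] at h3
    norm_num at h3

theorem card_cent_AT {f : alternatingGroup (Fin 12) →* Spor.HN} (hf : Function.Injective f) :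
    Nat.card (centralizer ({f AT} : Set Spor.HN)) = 177408000 := by
  rw [← Cfsg.Agent.H101.RO.HNRow.card_cent_conj (conj_AT hf)]
  exact card_centralizer_τ

theorem no_AT {f : alternatingGroup (Fin 12) →* Spor.HN} (hf : Function.Injective f) {x : Spor.HN} (hx : orderOf x = 9)
    (hc : f AT * x = x * f AT) : False := by
  have := finite_HN
  have hcard := card_cent_AT hf
  have hcx : x ∈ centralizer ({f AT} : Set Spor.HN) := mem_centralizer_singleton_iff.2 hc.symm
  have hca : f _root_.Cfsg.Agent.H101.RO.HNRow.AA ∈ centralizer ({f AT} : Set Spor.HN) := by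
    rw [mem_centralizer_singleton_iff, ← map_mul, ← map_mul]
    exact congrArg f (Subtype.ext comm_ta)
  have hcb : f AB ∈ centralizer ({f AT} : Set Spor.HN) := by
    rw [mem_centralizer_singleton_iff, ← map_mul, ← map_mul]
    exact congrArg f (Subtype.ext comm_tb)
  refine no_nine (G := centralizer ({f AT} : Set Spor.HN)) (by rw [hcard]; norm_num) (a := ⟨f AA, hca⟩)
    (b := ⟨f AB, hcb⟩) (by rw [Subgroup.orderOf_mk, order_f hf, order_AA])
    (by rw [Subgroup.orderOf_mk, order_f hf, order_AB]) ?_ ?_ ⟨x, hcx⟩ (by rw [Subgroup.orderOf_mk, hx])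
  · apply Subtype.ext
    show f AA * f AB = f AB * f AA
    rw [← map_mul, ← map_mul]
    exact congrArg f (Subtype.ext comm_ab)
  · rintro ⟨n, hn⟩
    have h1 : f AA ^ n = f AB := congrArg Subtype.val hn
    rw [← map_zpow] at h1
    exact AB_notMem ⟨n, hf h1⟩

/-- **no involution commutes with an element of order 9** -/
theorem no_inv_nine {x u : Spor.HN} (hx : orderOf x = 9) (hu : orderOf u = 2) (hc : u * x = x * u) : False := by
  obtain ⟨f, hf⟩ := exists_alt
  rcases inv_class hu with h | h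
  · obtain ⟨y, hy1, hy2⟩ := exists_of_conj (h.trans (conj_AT hf)) hc
    exact no_AT hf (by rw [hy1, hx]) hy2
  · obtain ⟨y, hy1, hy2⟩ := exists_of_conj h hc
    exact no_W0 (by rw [hy1, hx]) hy2

/-! ### a rational element of order 9 -/

/-- `i ↦ 2 i` modulo 9 -/
def p2 : Equiv.Perm (Fin 12) where
  toFun := ![0, 2, 4, 6, 8, 1, 3, 5, 7, 9, 10, 11]
  invFun := ![0, 5, 1, 6, 2, 7, 3, 8, 4, 9, 10, 11]
  left_inv := by decide
  right_inv := by decide

theorem p2_sign : p2 ∈ alternatingGroup (Fin 12) := by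
  rw [Equiv.Perm.mem_alternatingGroup]
  decide +kernel

theorem conj2 : p2 * p9 = p9 ^ 2 * p2 := by decide +kernel

/-- a rational element of order 9 -/
theorem exists_nine : ∃ y : Spor.HN, orderOf y = 3 ^ 2 ∧ ∀ m : ℕ, ¬ 3 ∣ m → IsConj (y ^ m) y := by
  obtain ⟨f, hf⟩ := exists_alt
  refine ⟨f A9, by rw [order_f hf, order_A9]; norm_num, ?_⟩
  have h1 : IsConj (f A9 ^ 2) (f A9) := by
    refine IsConj.symm (isConj_iff.2 ⟨f ⟨p2, p2_sign⟩, ?_⟩)
    rw [mul_inv_eq_iff_eq_mul, ← map_mul, ← map_pow, ← map_mul]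
    exact congrArg f (Subtype.ext conj2)
  have h2 : ∀ j : ℕ, IsConj (f A9 ^ 2 ^ j) (f A9) := by
    intro j
    induction j with
    | zero => rw [pow_zero, pow_one]
    | succ j ih =>
      rw [pow_succ, pow_mul]
      exact (ih.pow 2).trans h1
  have h9 : f A9 ^ 9 = 1 := by
    have := pow_orderOf_eq_one (f A9)
    rwa [order_f hf, order_A9] at this
  intro m hm
  have h3 : ∃ j : ℕ, m % 9 = 2 ^ j % 9 := by
    have h4 : m % 9 = 1 ∨ m % 9 = 2 ∨ m % 9 = 4 ∨ m % 9 = 8 ∨ m % 9 = 7 ∨ m % 9 = 5 := by omega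
    rcases h4 with h | h | h | h | h | h
    · exact ⟨0, h⟩
    · exact ⟨1, h⟩
    · exact ⟨2, h⟩
    · exact ⟨3, h⟩
    · exact ⟨4, h⟩
    · exact ⟨5, h⟩
  obtain ⟨j, hj⟩ := h3
  have h4 : f A9 ^ m = f A9 ^ 2 ^ j := by
    rw [pow_eq_pow_mod m h9, pow_eq_pow_mod (2 ^ j) h9, hj]
  rw [h4]
  exact h2 j

/-! ### elements of order 7 -/

theorem cent_seven {x : Spor.HN} (hx : orderOf x = 7) : 14 ∣ Nat.card (centralizer ({x} : Set Spor.HN)) := by
  have := finite_HN
  have h7 : Fact (Nat.Prime 7) := ⟨by norm_num⟩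
  obtain ⟨f, hf⟩ := exists_alt
  have ho : orderOf (f A7) = 7 := by rw [order_f hf, order_A7]
  have hi : ¬ 7 ∣ (zpowers (f A7)).index := by
    intro h
    have h1 := (zpowers (f A7)).card_mul_index
    obtain ⟨t, ht⟩ := h
    rw [Nat.card_zpowers, ho, ht, card_HN] at h1
    omega
  obtain ⟨g, hg⟩ := exists_conj_le (isPGroup_zpowers (p := 7) (n := 1) (by rw [ho, pow_one])) hi
    (isPGroup_zpowers (p := 7) (n := 1) (by rw [hx, pow_one]))
  obtain ⟨k, hk⟩ := mem_zpowers_iff.1 (hg x (mem_zpowers x))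
  rw [← Cfsg.Agent.H604.OZ.card_cent_conj g x]
  have h2 : f AT ∈ centralizer ({g * x * g⁻¹} : Set Spor.HN) := by
    rw [mem_centralizer_singleton_iff, ← hk]
    have h3 : Commute (f A7) (f AT) := by
      change _ * _ = _ * _
      rw [← map_mul, ← map_mul]
      exact congrArg f (Subtype.ext comm_t7)
    exact (h3.zpow_left k).eq.symm
  have h3 : g * x * g⁻¹ ∈ centralizer ({g * x * g⁻¹} : Set Spor.HN) := mem_centralizer_singleton_iff.2 rfl
  have h4 := _root_.orderOf_dvd_natCard (⟨_, h2⟩ : centralizer ({g * x * g⁻¹} : Set Spor.HN))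
  have h5 := _root_.orderOf_dvd_natCard (⟨_, h3⟩ : centralizer ({g * x * g⁻¹} : Set Spor.HN))
  rw [Subgroup.orderOf_mk, order_f hf, order_AT] at h4
  have h6 : orderOf (g * x * g⁻¹) = 7 := by
    rw [← hx]
    exact orderOf_injective (MulAut.conj g).toMonoidHom (MulAut.conj g).injective x
  rw [Subgroup.orderOf_mk, h6] at h5
  exact Nat.Coprime.mul_dvd_of_dvd_of_dvd (by norm_num) h4 h5

/-! ### small centralizers -/

/-- `x = t s`, `t` an involution, `s` of order `p`: `p ^ 2 ∣ |C(t)|` implies `p ^ 2 ∣ |C(x)|` -/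
theorem sq_dvd_cent_mul {G : Type*} [Group G] [Finite G] {p : ℕ} [hp : Fact p.Prime] (h2 : p ≠ 2)
    (H : ∀ t : G, orderOf t = 2 → p ^ 2 ∣ Nat.card (centralizer ({t} : Set G))) {x : G} (hx : orderOf x = 2 * p) :
    p ^ 2 ∣ Nat.card (centralizer ({x} : Set G)) := by
  have ht : orderOf (x ^ p) = 2 := by
    rw [orderOf_pow_of_dvd hp.out.ne_zero (by rw [hx]; exact dvd_mul_left _ _), hx, Nat.mul_div_cancel _ hp.out.pos]
  have hs : orderOf (x ^ 2) = p := by
    rw [orderOf_pow_of_dvd (by norm_num) (by rw [hx]; exact dvd_mul_right _ _), hx,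
      Nat.mul_div_cancel_left _ (by norm_num)]
  have hsC : x ^ 2 ∈ centralizer ({x ^ p} : Set G) :=
    mem_centralizer_singleton_iff.2 ((Commute.refl x).pow_pow 2 p).eq
  have h3 : orderOf (⟨x ^ 2, hsC⟩ : centralizer ({x ^ p} : Set G)) = p ^ 1 := by
    rw [Subgroup.orderOf_mk, hs, pow_one]
  have h4 := sq_dvd_cent (H _ ht) h3 (fun h => by
    have h5 : x ^ 2 = 1 := congrArg Subtype.val h
    rw [h5, orderOf_one] at hs
    exact hp.out.one_lt.ne' hs.symm)
  refine h4.trans ?_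
  set C := centralizer ({x ^ p} : Set G) with hC
  have h5 : (centralizer ({⟨x ^ 2, hsC⟩} : Set C)).map C.subtype ≤ centralizer ({x} : Set G) := by
    rintro _ ⟨g, hg, rfl⟩
    have h6 : (g : G) * x ^ p = x ^ p * g := mem_centralizer_singleton_iff.1 g.2
    have h7 : (g : G) * x ^ 2 = x ^ 2 * g := congrArg Subtype.val (mem_centralizer_singleton_iff.1 hg)
    rw [mem_centralizer_singleton_iff]
    change (g : G) * x = x * g
    obtain ⟨k, hk⟩ := (hp.out.odd_of_ne_two h2)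
    have h8 : x = x ^ p * ((x ^ 2) ^ k)⁻¹ := by
      rw [← pow_mul, eq_mul_inv_iff_mul_eq, ← pow_succ', ← hk]
    have c1 : Commute (g : G) (x ^ p) := h6
    have c2 : Commute (g : G) (x ^ 2) := h7
    have c3 : Commute (g : G) (x ^ p * ((x ^ 2) ^ k)⁻¹) := c1.mul_right (c2.pow_right k).inv_right
    rw [← h8] at c3
    exact c3.eq
  refine Dvd.dvd.trans (Eq.dvd ?_) (card_dvd_of_le h5)
  exact (Nat.card_congr ((centralizer ({⟨x ^ 2, hsC⟩} : Set C)).equivMapOfInjective _ C.subtype_injective).toEquiv :)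

theorem dvd_card_cent_inv {n : ℕ} (h1 : n ∣ 177408000) (h2 : n ∣ 3686400) {t : Spor.HN} (ht : orderOf t = 2) :
    n ∣ Nat.card (centralizer ({t} : Set Spor.HN)) := by
  rcases inv_class ht with h | h
  · rw [Cfsg.Agent.H101.RO.HNRow.card_cent_conj h, card_centralizer_τ]
    exact h1
  · rw [Cfsg.Agent.H101.RO.HNRow.card_cent_conj h, PCard.card_centralizer]
    exact h2

/-- **all centralizers have more than ten elements** -/
theorem cent_gt (hp4 : ∀ x : Spor.HN, (∃ n, orderOf x = 2 ^ n) → 16 ≤ Nat.card (centralizer ({x} : Set Spor.HN)))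
    (x : Spor.HN) : 10 < Nat.card (centralizer ({x} : Set Spor.HN)) := by
  have := finite_HN
  have i3 : Fact (Nat.Prime 3) := ⟨Nat.prime_three⟩
  have i5 : Fact (Nat.Prime 5) := ⟨Nat.prime_five⟩
  by_contra hlt
  push Not at hlt
  have hpos : 0 < Nat.card (centralizer ({x} : Set Spor.HN)) := Nat.card_pos
  have h1 : orderOf x ∣ Nat.card (centralizer ({x} : Set Spor.HN)) := by
    have h2 := _root_.orderOf_dvd_natCard (⟨x, mem_centralizer_singleton_iff.2 rfl⟩ : centralizer ({x} : Set Spor.HN))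
    rwa [Subgroup.orderOf_mk] at h2
  have h2 : orderOf x ≤ 10 := (Nat.le_of_dvd hpos h1).trans hlt
  have h3 : 0 < orderOf x := orderOf_pos x
  have two : ∀ n, orderOf x = 2 ^ n → False := fun n h => by
    have := hp4 x ⟨n, h⟩
    omega
  have three : ∀ n, orderOf x = 3 ^ n → False := fun n h => by
    have := Nat.le_of_dvd hpos (dvd_cent_three h)
    omega
  have hcases : orderOf x = 1 ∨ orderOf x = 2 ∨ orderOf x = 3 ∨ orderOf x = 4 ∨ orderOf x = 5 ∨ orderOf x = 6 ∨
      orderOf x = 7 ∨ orderOf x = 8 ∨ orderOf x = 9 ∨ orderOf x = 10 := by omega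
  rcases hcases with h | h | h | h | h | h | h | h | h | h
  · exact two 0 h
  · exact two 1 h
  · exact three 1 h
  · exact two 2 h
  · have h4 := sq_dvd_cent (p := 5) (K := Spor.HN) (by rw [card_HN]; norm_num) (x := x) (n := 1) (by rw [h, pow_one])
      (fun h5 => by rw [h5, orderOf_one] at h; omega)
    have := Nat.le_of_dvd hpos h4
    omega
  · have h4 := sq_dvd_cent_mul (p := 3) (G := Spor.HN) (by norm_num)
      (fun t ht => dvd_card_cent_inv (by norm_num) (by norm_num) ht) (x := x) (by rw [h])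
    have := Nat.le_of_dvd hpos ((Nat.Coprime.mul_dvd_of_dvd_of_dvd (by norm_num) h4
      (show 2 ∣ _ from (by norm_num : 2 ∣ 6).trans (h ▸ h1))))
    omega
  · have := Nat.le_of_dvd hpos (cent_seven h)
    omega
  · exact two 3 h
  · exact three 2 h
  · have h4 := sq_dvd_cent_mul (p := 5) (G := Spor.HN) (by norm_num)
      (fun t ht => dvd_card_cent_inv (by norm_num) (by norm_num) ht) (x := x) (by rw [h])
    have := Nat.le_of_dvd hpos h4
    omega

end Cfsg.Agent.H604.OZ.HN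
end

-- part: H604/OZ/HNKillOf
section
/-!
# The Harada-Norton group: degrees divisible by 6 or by a large power of 2 (helper604, for the HN row of S4842)

`P3`, `P4` : the facts on the 2-elements (helper285, helper714).

* `not_six`   : `One χ x` implies `6 ∤ χ(1)` (sections of an element of order 8 with `|C| = 80` and of one of order 9);
* `not_two10` : `One χ x`, `2 ^ 10 ∣ χ(1)` implies `χ(1) < 10000` (the 2-central involution).
-/

set_option autoImplicit false

namespace Cfsg.Agent.H604.OZ.HN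

open Subgroup Cfsg Cfsg.Agent.H732.VZ
open Cfsg.Agent.KFacts.HN.Classes Cfsg.Agent.KFacts.HN Cfsg.Agent.HN.XWords

/-- an element of class 8B -/
def P3 : Prop := ∃ v : Spor.HN, orderOf v = 8 ∧ 40 ∣ Nat.card (centralizer ({v} : Set Spor.HN)) ∧
  Nat.card (centralizer ({v} : Set Spor.HN)) ≤ 80 ∧ ∀ k : ℕ, Odd k → IsConj (v ^ k) v

/-- the centralizers of the 2-elements -/
def P4 : Prop := ∀ x : Spor.HN, (∃ n, orderOf x = 2 ^ n) → 16 ≤ Nat.card (centralizer ({x} : Set Spor.HN))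

instance finHN : Finite Spor.HN := finite_HN

theorem cent_conj {G : Type*} [Group G] {x y : G} (h : IsConj x y) : cent x = cent y := by
  obtain ⟨g, rfl⟩ := isConj_iff.1 h
  exact (card_cent_conj g x).symm

/-- in the section of `v` -/
theorem sec_v {v : Spor.HN} (ho : orderOf v = 8) (h40 : 40 ∣ cent v) (h80 : cent v ≤ 80) {w u : Spor.HN}
    (hw : IsConj v w) (hc : Commute w u) (hu : ¬ 2 ∣ orderOf u) : 40 ≤ cent (w * u) := by
  have hv : cent w = cent v := (cent_conj hw).symm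
  have how : orderOf w = 8 := by
    obtain ⟨g, rfl⟩ := isConj_iff.1 hw
    rw [← ho]
    exact orderOf_injective (MulAut.conj g).toMonoidHom (MulAut.conj g).injective v
  have hpos : 0 < cent v := Nat.card_pos
  have h1 : orderOf u ∣ cent w := by
    have h2 := _root_.orderOf_dvd_natCard (⟨u, mem_centralizer_singleton_iff.2 hc.symm.eq⟩ : centralizer ({w} : Set Spor.HN))
    rwa [Subgroup.orderOf_mk] at h2
  obtain ⟨t, ht⟩ := h40
  have htc : t = 1 ∨ t = 2 := by omega
  have h2 : orderOf u ∣ 5 := by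
    rw [hv, ht] at h1
    have hcop : Nat.Coprime (orderOf u) (2 ^ 4) :=
      Nat.Coprime.pow_right 4 ((Nat.Prime.coprime_iff_not_dvd Nat.prime_two).2 hu).symm
    have h3 : orderOf u ∣ 2 ^ 4 * 5 := h1.trans (by rcases htc with rfl | rfl <;> norm_num)
    exact hcop.dvd_of_dvd_mul_left h3
  rcases (Nat.dvd_prime Nat.prime_five).1 h2 with h3 | h3
  · rw [orderOf_eq_one_iff.1 h3, mul_one, hv, ht]
    rcases htc with rfl | rfl <;> norm_num
  · have h4 : orderOf (w * u) = 40 := by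
      rw [hc.orderOf_mul_eq_mul_orderOf_of_coprime (by rw [how, h3]; norm_num), how, h3]
    have h5 := _root_.orderOf_dvd_natCard (⟨w * u, mem_centralizer_singleton_iff.2 rfl⟩ : centralizer ({w * u} : Set Spor.HN))
    rw [Subgroup.orderOf_mk, h4] at h5
    exact Nat.le_of_dvd Nat.card_pos h5

/-- in the section of `y` -/
theorem sec_y {y : Spor.HN} (ho : orderOf y = 3 ^ 2) {w u : Spor.HN}
    (hw : IsConj y w) (hc : Commute w u) (hu : ¬ 3 ∣ orderOf u) : 18 ≤ cent (w * u) := by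
  have how : orderOf w = 3 ^ 2 := by
    obtain ⟨g, rfl⟩ := isConj_iff.1 hw
    rw [← ho]
    exact orderOf_injective (MulAut.conj g).toMonoidHom (MulAut.conj g).injective y
  have hpos : 0 < cent (w * u) := Nat.card_pos
  by_cases h1 : u = 1
  · subst h1
    rw [mul_one] at hpos ⊢
    have := Nat.le_of_dvd hpos (dvd_cent_three how)
    omega
  · have h2 : 2 ≤ orderOf u := by
      have h3 : orderOf u ≠ 1 := fun h => h1 (orderOf_eq_one_iff.1 h)
      have h4 : 0 < orderOf u := orderOf_pos u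
      omega
    have h4 : orderOf (w * u) = 3 ^ 2 * orderOf u := by
      rw [hc.orderOf_mul_eq_mul_orderOf_of_coprime (by
        rw [how]; exact Nat.Coprime.pow_left 2 ((Nat.Prime.coprime_iff_not_dvd Nat.prime_three).2 hu)), how]
    have h5 := _root_.orderOf_dvd_natCard (⟨w * u, mem_centralizer_singleton_iff.2 rfl⟩ : centralizer ({w * u} : Set Spor.HN))
    rw [Subgroup.orderOf_mk, h4] at h5
    have h6 := Nat.le_of_dvd hpos h5
    omega

/-- an element with a power of order 8 and a power of order 9 does not exist: the sections are disjoint -/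
theorem disj {w u w' u' : Spor.HN} (hw : orderOf w = 8) (hc : Commute w u) (hu : ¬ 2 ∣ orderOf u)
    (hw' : orderOf w' = 3 ^ 2) (hc' : Commute w' u') (hu' : ¬ 3 ∣ orderOf u') : w * u ≠ w' * u' := by
  intro h
  -- `a` kills `u`, `a` odd: `(w u) ^ a = w ^ a` has order 8
  set g := w * u with hg
  have h1 : g ^ (4 * orderOf u) = w ^ (4 * orderOf u) := by
    rw [hg, hc.mul_pow, show 4 * orderOf u = orderOf u * 4 by ring, pow_mul u, pow_orderOf_eq_one, one_pow, mul_one]
  have h2 : orderOf (w ^ (4 * orderOf u)) = 2 := by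
    refine orderOf_eq_prime ?_ ?_
    · rw [← pow_mul, show 4 * orderOf u * 2 = 8 * orderOf u by ring, pow_mul, ← hw, pow_orderOf_eq_one, one_pow]
    · intro h3
      have h4 := orderOf_dvd_of_pow_eq_one h3
      rw [hw] at h4
      omega
  have h3 : g ^ orderOf u' = w' ^ orderOf u' := by
    rw [h, hc'.mul_pow, pow_orderOf_eq_one, mul_one]
  have h4 : orderOf (w' ^ orderOf u') = 9 := by
    rw [Nat.Coprime.orderOf_pow (by
      rw [hw']; exact Nat.Coprime.pow_left 2 ((Nat.Prime.coprime_iff_not_dvd Nat.prime_three).2 hu')), hw']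
    norm_num
  refine no_inv_nine (x := w' ^ orderOf u') (u := w ^ (4 * orderOf u)) h4 h2 ?_
  rw [← h1, ← h3]
  exact ((Commute.refl g).pow_pow _ _).eq

/-- **degrees divisible by 6** -/
theorem not_six_of (hp3 : P3) (hp4 : P4) {χ : IrrCharacter Spor.HN} {x : Spor.HN} (h : _root_.Cfsg.Agent.H732.VZ.One χ x) :
    ¬ 6 ∣ charDegree (χ : Spor.HN → ℂ) := by
  intro h6
  obtain ⟨v, hv8, h40, h80, hvr⟩ := hp3
  obtain ⟨y, hy9, hyr⟩ := exists_nine
  have hd2 : 2 ∣ charDegree (χ : Spor.HN → ℂ) := (by norm_num : 2 ∣ 6).trans h6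
  have hd3 : 3 ∣ charDegree (χ : Spor.HN → ℂ) := (by norm_num : 3 ∣ 6).trans h6
  have hov : ∃ n, orderOf v = 2 ^ n := ⟨3, hv8⟩
  have hoy : ∃ n, orderOf y = 3 ^ n := ⟨2, hy9⟩
  have hrv : ∀ m : ℕ, m.Coprime (Nat.card Spor.HN) → IsConj (v ^ m) v := fun m hm => hvr m (by
    have h1 : m.Coprime 2 := hm.coprime_dvd_right (by rw [card_HN]; norm_num)
    exact Nat.coprime_two_right.1 h1)
  have hry : ∀ m : ℕ, m.Coprime (Nat.card Spor.HN) → IsConj (y ^ m) y := fun m hm => hyr m (by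
    have h1 : m.Coprime 3 := hm.coprime_dvd_right (by rw [card_HN]; norm_num)
    exact (Nat.Prime.coprime_iff_not_dvd Nat.prime_three).1 h1.symm)
  have hy1 : 3 ^ 3 ∣ cent y := dvd_cent_three hy9
  have hy2 : ¬ 3 ^ (3 + 1) ∣ cent y := not_dvd_cent_nine hy9
  obtain ⟨m, hm4, hm1, hm2⟩ : ∃ m, m ≤ 4 ∧ 2 ^ m ∣ cent v ∧ ¬ 2 ^ (m + 1) ∣ cent v := by
    obtain ⟨t, ht⟩ := h40
    have hpos : 0 < Nat.card (centralizer ({v} : Set Spor.HN)) := Nat.card_pos
    have htc : t = 1 ∨ t = 2 := by omega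
    rcases htc with rfl | rfl
    · refine ⟨3, by norm_num, ?_, ?_⟩ <;> rw [cent, ht] <;> norm_num
    · refine ⟨4, by norm_num, ?_, ?_⟩ <;> rw [cent, ht] <;> norm_num
  have ordv : ∀ {w : Spor.HN}, IsConj v w → orderOf w = 8 := by
    rintro w hw
    obtain ⟨g, rfl⟩ := isConj_iff.1 hw
    rw [← hv8]
    exact orderOf_injective (MulAut.conj g).toMonoidHom (MulAut.conj g).injective v
  have ordy : ∀ {w : Spor.HN}, IsConj y w → orderOf w = 3 ^ 2 := by
    rintro w hw
    obtain ⟨g, rfl⟩ := isConj_iff.1 hw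
    rw [← hy9]
    exact orderOf_injective (MulAut.conj g).toMonoidHom (MulAut.conj g).injective y
  -- not in the section of `v`
  have hxv : ∀ w u : Spor.HN, IsConj v w → Commute w u → ¬ 2 ∣ orderOf u → ¬ IsConj x (w * u) := by
    intro w u hw hc hu hx
    have h1 : 40 ≤ cent x := by
      rw [cent_conj hx]
      exact sec_v hv8 h40 h80 hw hc hu
    have h2 : cent x ≤ 3 ^ 3 := by
      refine one_sec h Nat.prime_three hoy hry hy1 hy2 hd3 ?_
      intro w' u' hw' hc' hu' hx'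
      obtain ⟨g, hg⟩ := isConj_iff.1 (hx.symm.trans hx')
      have h3 : g * w * g⁻¹ * (g * u * g⁻¹) = w' * u' := by rw [← hg]; group
      refine disj (w := g * w * g⁻¹) (u := g * u * g⁻¹) (ordv (hw.trans (isConj_iff.2 ⟨g, rfl⟩))) ?_ ?_ (ordy hw') hc'
        hu' h3
      · exact hc.map (MulAut.conj g)
      · rwa [show orderOf (g * u * g⁻¹) = orderOf u from
          orderOf_injective (MulAut.conj g).toMonoidHom (MulAut.conj g).injective u]
    omega
  -- not in the section of `y`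
  have hxy : ∀ w u : Spor.HN, IsConj y w → Commute w u → ¬ 3 ∣ orderOf u → ¬ IsConj x (w * u) := by
    intro w u hw hc hu hx
    have h1 : 18 ≤ cent x := by
      rw [cent_conj hx]
      exact sec_y hy9 hw hc hu
    have h2 : cent x ≤ 2 ^ m := one_sec h Nat.prime_two hov hrv hm1 hm2 hd2 hxv
    have h3 : 2 ^ m ≤ 2 ^ 4 := Nat.pow_le_pow_right (by norm_num) hm4
    omega
  -- both sections
  have hs := secs h (Finset.univ : Finset (Fin 2)) ![v, y] ![2, 3] ![m, 3]
    (by
      intro i _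
      fin_cases i
      · exact Nat.prime_two
      · exact Nat.prime_three)
    (by
      intro i _
      fin_cases i
      · exact hov
      · exact hoy)
    (by
      intro i _
      fin_cases i
      · exact hrv
      · exact hry)
    (by
      intro i _
      fin_cases i
      · exact hm1
      · exact hy1)
    (by
      intro i _
      fin_cases i
      · exact hm2
      · exact hy2)
    (by
      intro i _
      fin_cases i
      · exact hd2
      · exact hd3)
    (by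
      intro i _
      fin_cases i
      · exact hxv
      · exact hxy)
    (by
      intro i _ j _ hij
      fin_cases i <;> fin_cases j
      · exact absurd rfl hij
      · intro w u w' u' hw hc hu hw' hc' hu'
        exact disj (ordv hw) hc hu (ordy hw') hc' hu'
      · intro w u w' u' hw hc hu hw' hc' hu'
        exact (disj (ordv hw') hc' hu' (ordy hw) hc hu).symm
      · exact absurd rfl hij)
  rw [Fin.sum_univ_two] at hs
  simp only [Matrix.cons_val_zero, Matrix.cons_val_one] at hs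
  push_cast at hs
  have h10 : (10 : ℝ) < cent x := by exact_mod_cast cent_gt hp4 x
  have h11 : ((16 : ℝ))⁻¹ ≤ ((2 : ℝ) ^ m)⁻¹ := by
    apply inv_anti₀ (by positivity)
    calc (2 : ℝ) ^ m ≤ 2 ^ 4 := pow_le_pow_right₀ (by norm_num) hm4
      _ = 16 := by norm_num
  have h12 : (11 : ℝ) ≤ cent x := by exact_mod_cast (show 10 < cent x from cent_gt hp4 x)
  have h13 : (11 : ℝ) * ((16 : ℝ)⁻¹ + ((3 : ℝ) ^ 3)⁻¹) ≤ cent x * (((2 : ℝ) ^ m)⁻¹ + ((3 : ℝ) ^ 3)⁻¹) :=
    mul_le_mul h12 (by linarith only [h11]) (by positivity) (by (clear * - h10; positivity))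
  have h14 := h13.trans hs
  norm_num at h14

/-! ### the 2-central involution -/

theorem not_two10 {χ : IrrCharacter Spor.HN} {x : Spor.HN} (h : _root_.Cfsg.Agent.H732.VZ.One χ x)
    (hd : 2 ^ 10 ∣ charDegree (χ : Spor.HN → ℂ)) : charDegree (χ : Spor.HN → ℂ) < 10000 := by
  by_contra hlt
  push Not at hlt
  have hcW : cent W0 = 3686400 := PCard.card_centralizer
  have hoW : W0 * W0 = 1 := W0_sq
  have hr : ∀ m : ℕ, m.Coprime (Nat.card Spor.HN) → IsConj (W0 ^ m) W0 := by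
    intro m hm
    have h1 : m.Coprime 2 := hm.coprime_dvd_right (by rw [card_HN]; norm_num)
    obtain ⟨k, rfl⟩ := Nat.coprime_two_right.1 h1
    rw [pow_succ, pow_mul, pow_two, hoW, one_pow, one_mul]
  obtain ⟨k, hk⟩ := Cfsg.Agent.H849.OZ.rat (χ := χ) hr
  have hx : ¬ IsConj x W0 := by
    intro hx
    have h1 := cent_mul_le h
    rw [cent_conj hx, hcW, card_HN] at h1
    have h2 : 10000 ^ 2 - 1 ≤ charDegree (χ : Spor.HN → ℂ) ^ 2 - 1 :=
      Nat.sub_le_sub_right (Nat.pow_le_pow_left hlt 2) 1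
    have h3 := (Nat.mul_le_mul_left 3686400 h2).trans h1
    norm_num at h3
  have hn : ((2 ^ 10 : ℕ) : ℤ) ∣ k := by
    have h1 := Cfsg.Agent.H849.OZ.rat_dvd_deg W0 hk
    have h2 : ((2 ^ 10 : ℕ) : ℤ) ∣ ((centralizer ({W0} : Set Spor.HN)).index : ℤ) * k :=
      (Int.natCast_dvd_natCast.2 hd).trans h1
    have h3 : IsCoprime ((2 ^ 10 : ℕ) : ℤ) ((centralizer ({W0} : Set Spor.HN)).index : ℤ) := by
      have h4 := (centralizer ({W0} : Set Spor.HN)).card_mul_index
      rw [show Nat.card (centralizer ({W0} : Set Spor.HN)) = 3686400 from hcW, card_HN] at h4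
      have h5 : (centralizer ({W0} : Set Spor.HN)).index = 74064375 := by omega
      rw [h5]
      exact Nat.isCoprime_iff_coprime.2 (by norm_num)
    exact h3.dvd_of_dvd_mul_left h2
  have h1 := Cfsg.Agent.H849.OZ.one_class h hr hk hx hn
  have h2 := four_le_cent h (by rw [card_HN]; norm_num) (by rw [card_HN]; norm_num)
  rw [hcW] at h1
  have h3 : 4 * ((2 ^ 10) ^ 2 - 1) ≤ cent x * ((2 ^ 10) ^ 2 - 1) := Nat.mul_le_mul_right _ h2
  have h4 := h3.trans h1
  norm_num at h4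

end Cfsg.Agent.H604.OZ.HN
end

private theorem dce_a96f39a8e810 : _root_.True := by
  try have : _root_.True := by simp only [_root_.Cfsg.Agent.H604.OZ.cent.eq_1]
  exact _root_.True.intro
end
end
end
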